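import Mathlib
import Cfsg.Agent.Base
import Cfsg.Agent.Lib.CIT.NS
import Cfsg.Agent.Lib.FGS.QBaer
import Cfsg.Agent.Lib.Transfer.Control
import Cfsg.Agent.S4134

/-! Tools on class sizes. -/

set_option autoImplicit false
set_option linter.unusedSectionVars false
set_option linter.style.haveILetI false

namespace H32

open Subgroup H69 H80 H35 Matrix
open scoped MatrixGroups Pointwise

variable {G : Type*} [Group G] [Finite G]

theorem eq_of_le_of_index {H K : Subgroup G} (h : H ≤ K) (e : H.index = K.index) : H = K :=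
  eq_of_le_of_card_ge h (le_of_eq (Nat.eq_of_mul_eq_mul_right (Nat.pos_of_ne_zero
    (index_ne_zero_of_finite (H := H))) (by rw [card_mul_index, e, card_mul_index])))

theorem card_eq_of_index {H K : Subgroup G} (e : H.index = K.index) : Nat.card H = Nat.card K :=
  Nat.eq_of_mul_eq_mul_right (Nat.pos_of_ne_zero (index_ne_zero_of_finite (H := H)))
    (by rw [card_mul_index, e, card_mul_index])

theorem exists_central {p : ℕ} [hp : Fact p.Prime] (R : Sylow p G) (hd : p ∣ Nat.card G) :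
    ∃ z ∈ (R : Subgroup G), orderOf z = p ∧ (R : Subgroup G) ≤ Cx⟦z⟧ := by
  obtain ⟨z, h1, h2, h3⟩ := H5.exists_mem_centralizer_orderOf_eq R.isPGroup' le_rfl le_normalizer
    (R.ne_bot_of_dvd_card hd)
  exact ⟨z, h1, h3, le_Cx_iff.2 h2⟩

theorem ne_one_of_prime {x : G} (h : (orderOf x).Prime) : x ≠ 1 :=
  fun e => h.ne_one (by rw [e, orderOf_one])

theorem pElt_of_prime {x : G} {p : ℕ} (h : orderOf x = p) : IsPElt p x := ⟨1, by simpa using h⟩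

theorem not_dvd_of_pElt {p q : ℕ} (hp : p.Prime) (hq : q.Prime) (hne : q ≠ p) {y : G}
    (hy : IsPElt q y) : ¬ p ∣ orderOf y := fun h => by
  obtain ⟨k, e⟩ := hy
  exact hne ((Nat.prime_dvd_prime_iff_eq hp hq).1 (hp.dvd_of_dvd_pow (e ▸ h))).symm

theorem cop_of_pElt {p q : ℕ} (hp : p.Prime) (hq : q.Prime) (hne : p ≠ q) {x y : G}
    (hx : IsPElt p x) (hy : IsPElt q y) : (orderOf x).Coprime (orderOf y) :=
  haveI := Fact.mk hp
  H35.coprime_orderOf hx (not_dvd_of_pElt hp hq hne.symm hy)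

theorem solvable_of_ppow {q : ℕ} (hq : q.Prime)
    (h : ∀ x : G, ¬ q ∣ orderOf x → ∃ k, cs⟦x⟧ = q ^ k) : Group.IsSolvable G := by
  haveI := Fact.mk hq
  refine H1.isSolvable_of_normal_of_quotient (Cfsg.solvableRadical G) inferInstance
    (H1.isSolvable_of_isPGroup (p := q) fun x => ?_)
  obtain ⟨g, rfl⟩ := QuotientGroup.mk_surjective x
  obtain ⟨k, hk⟩ := h _ (not_dvd_orderOf_pReg q g)
  exact isPElt_iff_pow.1 ((isPElt_mk_iff q _ g).2 (kazarin hq hk))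

theorem two_cs {k : ℕ} (h : ∀ x : G, cs⟦x⟧ = 1 ∨ cs⟦x⟧ = k) :
    (∀ x y : G, x * y = y * x) ∨ ∃ (p : ℕ) (_ : Fact p.Prime) (a : ℕ) (P : Sylow p G) (N : Subgroup G),
      k = p ^ a ∧ (P : Subgroup G).Normal ∧ N.IsComplement' P ∧ N ≤ center G := by
  refine or_iff_not_imp_left.2 fun hc => ?_
  push Not at hc
  obtain ⟨x, y, hxy⟩ := hc
  have h1 := one_lt_cs_iff.2 fun e => hxy (mem_center_iff.1 e y).symm
  have h2 := (h x).resolve_left h1.ne'
  obtain ⟨p, _, a, e, h3⟩ := Cfsg.Agent.S4134.result k (h2 ▸ h1) h ⟨x, h2⟩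
  obtain ⟨P⟩ : Nonempty (Sylow p G) := inferInstance
  obtain ⟨h4, ⟨N, _, h5, h6, h7⟩, -⟩ := h3 P
  refine ⟨p, inferInstance, a, P, N, e, h4, h5, fun n hn => mem_center_iff.2 fun g => ?_⟩
  obtain ⟨⟨u, v⟩, rfl⟩ := h5.surjective g
  show (u : G) * v * n = n * (u * v)
  rw [mul_assoc, ← h7 n hn v v.2, ← mul_assoc, ← mul_assoc]
  exact congrArg (· * (v : G)) (congrArg Subtype.val (h6.is_comm.comm u ⟨n, hn⟩))

theorem solvable_of_two {k : ℕ} (h : ∀ x : G, cs⟦x⟧ = 1 ∨ cs⟦x⟧ = k) : Group.IsSolvable G := by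
  rcases two_cs h with h | ⟨p, _, a, P, N, -, _, h1, h2⟩
  · exact Group.isSolvable_of_comm h
  have h3 := H1.isSolvable_sup_of_normal (H1.isSolvable_of_le
    (H2.isSolvable_of_isMulCommutative inferInstance) h2) (H1.isSolvable_of_isPGroup P.isPGroup')
  rw [h1.sup_eq_top] at h3
  exact H1.isSolvable_of_mulEquiv topEquiv h3

theorem ac_of (h : ∀ t u v : G, orderOf t = 2 → u ∈ Cx⟦t⟧ → v ∈ Cx⟦t⟧ → v ≠ 1 → Cx⟦u⟧ ≤ Cx⟦v⟧ →
    Cx⟦v⟧ ≤ Cx⟦u⟧) : AC G := fun t x y ht hx hy => by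
  have tt := H9.mul_self_of_orderOf_two ht
  have key : ∀ x ∈ Cx⟦t⟧, x * x = 1 ∨ Cx⟦t⟧ ≤ Cx⟦x⟧ := fun x hx => or_iff_not_imp_left.2 fun e => by
    have e1 : t * x * (t * x) = x * x := by
      rw [mul_assoc, ← mul_assoc x, mem_Cx.1 hx, ← mul_assoc, ← mul_assoc, tt, one_mul]
    have h1 := h t (t * x) (x * x) ht (mul_mem (self_mem_Cx t) hx) (mul_mem hx hx) e
      (by rw [← e1, ← sq]; exact Cx_le_pow _ _)
    refine h t x t ht hx (self_mem_Cx t) (H9.ne_one_of_orderOf_two ht) fun g hg => ?_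
    have h2 := h1 (sq x ▸ Cx_le_pow x 2 hg)
    rw [mem_Cx] at hg h2 ⊢
    rwa [mul_assoc, ← hg, ← mul_assoc, ← mul_assoc, mul_left_inj] at h2
  rcases key x (mem_Cx.2 hx) with a | a
  · rcases key y (mem_Cx.2 hy) with b | b
    · rcases key (x * y) (mul_mem (mem_Cx.2 hx) (mem_Cx.2 hy)) with c | c
      · rw [eq_inv_of_mul_eq_one_left c, _root_.mul_inv_rev, inv_eq_of_mul_eq_one_left a,
          inv_eq_of_mul_eq_one_left b]
      · have := mem_Cx.1 (c (mem_Cx.2 hx))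
        rwa [mul_assoc, mul_right_inj] at this
    · exact mem_Cx.1 (b (mem_Cx.2 hx))
  · exact (mem_Cx.1 (a (mem_Cx.2 hy))).symm

theorem not_cyclic_sylow (hs : ¬ Group.IsSolvable G) (P : Sylow 2 G) : ¬ IsCyclic (P : Subgroup G) :=
  fun h => hs (solvable_of_burnside P (h.normalizer_le_centralizer
    ((Nat.minFac_eq_two_iff _).2 (even_iff_two_dvd.1 (even_of_not_solvable hs)))))

theorem AC.psl2' (h : AC G) (hZ : center G = ⊥) (hs : ¬ Group.IsSolvable G) :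
    ∃ (F : Type) (_ : Field F) (_ : Fintype F) (n : ℕ), 2 ≤ n ∧ Fintype.card F = 2 ^ n ∧
      Nonempty (G ≃* PSL(2, F)) := by
  obtain ⟨P⟩ : Nonempty (Sylow 2 G) := inferInstance
  obtain ⟨F, _, _, _, K, h4, hK, -, ⟨e⟩⟩ := h.classify (even_of_not_solvable hs)
    (not_cyclic_sylow hs P) (not_normal_of_not_solvable hs P)
  obtain rfl : K = ⊥ := eq_bot_iff.2 (hZ ▸ hK)
  obtain ⟨n, -, hn⟩ := FiniteField.card F 2
  refine ⟨F, inferInstance, inferInstance, n, ?_, hn, ⟨(e.trans MulEquiv.prodUnique).trans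
    (H64.SL2.projEquiv (CharTwo.two_eq_zero))⟩⟩
  rw [hn] at h4
  exact (Nat.pow_le_pow_iff_right (by norm_num : 1 < 2)).1 h4

theorem exists_pElt_not_mem {p : ℕ} [Fact p.Prime] {Z M : Subgroup G} (h : p ∣ Z.relIndex M) :
    ∃ u ∈ M, u ∉ Z ∧ IsPElt p u := by
  by_contra hc
  obtain ⟨P⟩ : Nonempty (Sylow p M) := inferInstance
  exact not_dvd_index_of_sylow_le P (fun x hx => by_contra fun e =>
    hc ⟨x, x.2, e, (isPElt_coe x).2 (isPElt_of_mem P.isPGroup' hx)⟩) h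

theorem dvd_relIndex_center {p : ℕ} [Fact p.Prime] {M : Subgroup G} {u : G} (hu : u ∈ M)
    (h1 : u ∉ center G) (h2 : IsPElt p u) : p ∣ (center G).relIndex M := by
  by_contra hc
  exact h1 (IsPElt.mem_of_index (N := (center G).subgroupOf M) hc (x := ⟨u, hu⟩) ((isPElt_coe _).1 h2))

theorem relIndex_center_eq {x y : G} (h : cs⟦x⟧ = cs⟦y⟧) :
    (center G).relIndex Cx⟦x⟧ = (center G).relIndex Cx⟦y⟧ :=
  Nat.eq_of_mul_eq_mul_right (cs_pos x) (by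
    rw [relIndex_mul_index (center_le_Cx x), h, relIndex_mul_index (center_le_Cx y)])

/-- Centralisers of equal order contain non-central `p`-elements for the same primes. -/
theorem exists_pElt_Cx {p : ℕ} (hp : p.Prime) {x y u : G} (h : cs⟦x⟧ = cs⟦y⟧) (hu : u ∈ Cx⟦x⟧)
    (h1 : u ∉ center G) (h2 : IsPElt p u) : ∃ v ∈ Cx⟦y⟧, v ∉ center G ∧ IsPElt p v :=
  haveI := Fact.mk hp
  exists_pElt_not_mem (relIndex_center_eq h ▸ dvd_relIndex_center hu h1 h2)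

theorem exists_pElt_zpowers {H : Subgroup G} {g : G} (h : g ∉ H) :
    ∃ (q : ℕ) (x : G), q.Prime ∧ q ∣ orderOf g ∧ IsPElt q x ∧ x ∈ zpowers g ∧ x ∉ H := by
  by_contra hc
  push Not at hc
  exact h (mem_of_forall_isPElt_zpowers hc)

theorem Cx_le_of_mul {u w : G} (hc : w ∈ Cx⟦u⟧) (ho : (orderOf u).Coprime (orderOf w))
    (h : cs⟦u * w⟧ = cs⟦u⟧) : Cx⟦u⟧ ≤ Cx⟦w⟧ := by
  have e := Cx_mul_of_coprime (mem_Cx_iff_commute.1 hc) ho
  exact inf_eq_left.1 (eq_of_le_of_index inf_le_left (e ▸ h))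

theorem dvd_orderOf_mul {p : ℕ} (hp : p.Prime) {u w : G} (hc : w ∈ Cx⟦u⟧) (h : p ∣ orderOf (u * w)) :
    p ∣ orderOf u ∨ p ∣ orderOf w :=
  (Nat.Prime.dvd_mul hp).1 (h.trans (mem_Cx_iff_commute.1 hc).orderOf_mul_dvd_mul_orderOf)

/-- If all `s₁'`-elements and all `s₂'`-elements have class size `1` or `k`, so do all elements,
provided there are non-central elements for two primes, one of them outside `{s₁, s₂}`. -/
theorem all_two_cs {k s₁ s₂ r l : ℕ} (h1 : s₁.Prime) (h2 : s₂.Prime) (h12 : s₁ ≠ s₂) (hr : r.Prime)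
    (hl : l.Prime) (r1 : r ≠ s₁) (r2 : r ≠ s₂) (lr : l ≠ r)
    (h : ∀ x : G, ¬ s₁ ∣ orderOf x ∨ ¬ s₂ ∣ orderOf x → cs⟦x⟧ = 1 ∨ cs⟦x⟧ = k)
    {v₀ u₀ : G} (hv₀ : IsPElt r v₀) (hv₀' : v₀ ∉ center G) (hu₀ : IsPElt l u₀)
    (hu₀' : u₀ ∉ center G) (g : G) : cs⟦g⟧ = 1 ∨ cs⟦g⟧ = k := by
  have a : ∀ {q : ℕ} {u : G}, q.Prime → IsPElt q u → u ∉ center G → cs⟦u⟧ = k := fun {q} _ hq hu hu' =>
    (h _ ((eq_or_ne q s₁).elim (fun e => .inr (not_dvd_of_pElt h2 hq (e ▸ h12) hu))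
      fun e => .inl (not_dvd_of_pElt h1 hq e hu))).resolve_left (one_lt_cs_iff.2 hu').ne'
  have b : ∀ {p q : ℕ} {u w : G}, p.Prime → q.Prime → p ≠ q → (p = r ∨ q = r) → IsPElt p u →
      u ∉ center G → IsPElt q w → w ∈ Cx⟦u⟧ → Cx⟦u⟧ ≤ Cx⟦w⟧ := by
    intro p q u w hp hq pq e hu hu' hw hc
    have ho := cop_of_pElt hp hq pq hu hw
    refine Cx_le_of_mul hc ho (((h _ ?_).resolve_left fun e => (one_lt_cs_iff.2 hu').ne'
      (Nat.dvd_one.1 (e ▸ cs_dvd_cs_mul_left (mem_Cx_iff_commute.1 hc) ho))).trans (a hp hu hu').symm)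
    by_contra hn
    push Not at hn
    have f : ∀ {s : ℕ}, s.Prime → s ∣ orderOf (u * w) → p = s ∨ q = s := fun hs hd =>
      (dvd_orderOf_mul hs hc hd).imp (fun e => by_contra fun e' => not_dvd_of_pElt hs hp e' hu e)
        fun e => by_contra fun e' => not_dvd_of_pElt hs hq e' hw e
    have := f h1 hn.1
    have := f h2 hn.2
    omega
  have c : ∀ {p : ℕ} {u v : G}, p.Prime → p ≠ r → IsPElt p u → u ∉ center G → IsPElt r v →
      v ∉ center G → v ∈ Cx⟦u⟧ → Cx⟦u⟧ = Cx⟦v⟧ ∧ ∀ w ∈ Cx⟦u⟧, Cx⟦u⟧ ≤ Cx⟦w⟧ := by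
    intro p u v hp pr hu hu' hv hv' hc
    have e := le_antisymm (b hp hr pr (.inr rfl) hu hu' hv hc)
      (b hr hp pr.symm (.inl rfl) hv hv' hu (mem_Cx_comm.1 hc))
    refine ⟨e, fun w hw => le_Cx_iff.2 (mem_of_forall_isPElt_zpowers fun q x hq _ hx hxw =>
      le_Cx_iff.1 ?_)⟩
    have hx' := zpowers_le.2 hw hxw
    rcases eq_or_ne q r with rfl | qr
    · exact b hp hq pr (.inr rfl) hu hu' hx hx'
    · exact e ▸ b hr hq qr.symm (.inl rfl) hv hv' hx (e ▸ hx')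
  refine or_iff_not_imp_left.2 fun hg => ?_
  obtain ⟨q, u, hq, -, hu, hug, hu'⟩ := exists_pElt_zpowers (mt cs_eq_one_iff.2 hg)
  have hgu := Cx_le_of_mem_zpowers hug
  rw [← a hq hu hu', le_antisymm hgu ?_]
  rcases eq_or_ne q r with rfl | qr
  · obtain ⟨v, e1, e2, e3⟩ := exists_pElt_Cx hl ((a hl hu₀ hu₀').trans (a hq hu hu').symm)
      (self_mem_Cx u₀) hu₀' hu₀
    obtain ⟨e4, e5⟩ := c hl lr e3 e2 hu hu' (mem_Cx_comm.1 e1)
    exact e4 ▸ e5 g (e4 ▸ hgu (self_mem_Cx g))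
  · obtain ⟨v, e1, e2, e3⟩ := exists_pElt_Cx hr ((a hr hv₀ hv₀').trans (a hq hu hu').symm)
      (self_mem_Cx v₀) hv₀' hv₀
    exact (c hq qr hu hu' e3 e2 e1).2 g (hgu (self_mem_Cx g))

theorem Rad1.eq_one (hR : Rad1 G) {x : G} (h : ∀ g : G, x * (g * x * g⁻¹) = g * x * g⁻¹ * x) :
    x = 1 := by
  have h1 : normalClosure {x} ≤ 𝐂(normalClosure ({x} : Set G)) := normalClosure_le_normal (by
    rw [Set.singleton_subset_iff, SetLike.mem_coe, ← le_Cx_iff]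
    refine (closure_le _).2 fun y hy => ?_
    obtain ⟨_, rfl, hy'⟩ := Group.mem_conjugatesOfSet_iff.1 hy
    obtain ⟨g, rfl⟩ := isConj_iff.1 hy'
    exact mem_Cx'.2 (h g))
  exact mem_bot.1 (hR _ inferInstance (H2.isSolvable_of_isMulCommutative
    (le_centralizer_iff_isMulCommutative.1 h1)) ▸ subset_normalClosure (Set.mem_singleton x))

theorem exists_invol_comm {H : Subgroup G} (he : Even (Nat.card H)) {u : G} (hu : u * u = 1)
    (hn : u ∈ 𝐍(H)) : ∃ t ∈ H, orderOf t = 2 ∧ t * u = u * t := by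
  have h := H4.card_modEq_card_inf_centralizer (q := 2) (k := 1) hn (by rw [pow_one, sq, hu])
  obtain ⟨t, ht, ho⟩ := (H9.even_card_iff_exists_involution (H ⊓ Cx⟦u⟧)).1
    (even_iff_two_dvd.2 ((h.dvd_iff dvd_rfl).1 (even_iff_two_dvd.1 he)))
  exact ⟨t, ht.1, ho, mem_Cx.1 ht.2⟩

end H32
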