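import Mathlib
import Cfsg.Agent.Base
import Cfsg.Agent.Lib.CIT.Cls1

/-! Centreless groups with three non-trivial class sizes `a ∣ c` and `b`: first reductions. -/

set_option autoImplicit false
set_option linter.unusedSectionVars false
set_option linter.style.haveILetI false

namespace H32

open Subgroup H69 H80 H35 Matrix
open scoped MatrixGroups Pointwise

variable {G : Type*} [Group G] [Finite G]

theorem not_mem_center (hZ : center G = ⊥) {x : G} (h : x ≠ 1) : x ∉ center G := by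
  rwa [hZ, mem_bot]

theorem ne_one_of_cs {x : G} {d : ℕ} (hd : 1 < d) (h : cs⟦x⟧ = d) : x ≠ 1 :=
  fun e => hd.ne (by rw [← h, e, cs_one])

theorem cs_dvd_of_le {x y : G} (h : Cx⟦x⟧ ≤ Cx⟦y⟧) : cs⟦y⟧ ∣ cs⟦x⟧ := index_dvd_of_le h

/-- A `p`-central element. -/
theorem exists_cs_not_dvd {p : ℕ} (hp : p.Prime) (hd : p ∣ Nat.card G) :
    ∃ z : G, orderOf z = p ∧ ¬ p ∣ cs⟦z⟧ := by
  haveI := Fact.mk hp
  obtain ⟨R⟩ : Nonempty (Sylow p G) := inferInstance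
  obtain ⟨z, -, h1, h2⟩ := exists_central R hd
  exact ⟨z, h1, not_dvd_index_of_sylow_le R h2⟩

structure T3 (G : Type*) [Group G] (a b c : ℕ) : Prop where
  hZ : center G = ⊥
  all : ∀ x : G, x ≠ 1 → cs⟦x⟧ = a ∨ cs⟦x⟧ = b ∨ cs⟦x⟧ = c
  ac : a ∣ c
  ne : a ≠ c
  cop : a.Coprime b
  a1 : 1 < a
  b1 : 1 < b
  exa : ∃ x : G, cs⟦x⟧ = a
  exb : ∃ x : G, cs⟦x⟧ = b
  exc : ∃ x : G, cs⟦x⟧ = c

theorem exists_T3 (hZ : center G = ⊥)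
    (h : Nat.card {n : ℕ | 1 < n ∧ ∃ x : G, cs⟦x⟧ = n} ≤ 3) {u v : G} (hv : v ≠ 1)
    (h1 : Cx⟦u⟧ ≤ Cx⟦v⟧) (h2 : ¬ Cx⟦v⟧ ≤ Cx⟦u⟧) : ∃ b, T3 G cs⟦v⟧ b cs⟦u⟧ := by
  have a1 := one_lt_cs_iff.2 (not_mem_center hZ hv)
  have ac := cs_dvd_of_le h1
  have ne : cs⟦v⟧ ≠ cs⟦u⟧ := fun e => h2 (eq_of_le_of_index h1 e.symm).ge
  have fin : {n : ℕ | 1 < n ∧ ∃ x : G, cs⟦x⟧ = n}.Finite :=
    (Set.finite_range fun x : G => cs⟦x⟧).subset fun n hn => hn.2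
  have hp : ∀ p : ℕ, p.Prime → p ∣ cs⟦v⟧ → ∃ z : G, z ≠ 1 ∧ ¬ p ∣ cs⟦z⟧ := fun p hp hd => by
    obtain ⟨z, h3, h4⟩ := exists_cs_not_dvd hp (hd.trans (cs_dvd_card v))
    exact ⟨z, ne_one_of_prime (h3 ▸ hp), h4⟩
  obtain ⟨p, hp1, hp2⟩ := Nat.exists_prime_and_dvd a1.ne'
  obtain ⟨z, hz, hz'⟩ := hp p hp1 hp2
  have b1 := one_lt_cs_iff.2 (not_mem_center hZ hz)
  have all : ∀ x : G, x ≠ 1 → cs⟦x⟧ = cs⟦v⟧ ∨ cs⟦x⟧ = cs⟦z⟧ ∨ cs⟦x⟧ = cs⟦u⟧ := fun x hx => by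
    have e : ({cs⟦v⟧, cs⟦z⟧, cs⟦u⟧} : Set ℕ) = {n : ℕ | 1 < n ∧ ∃ x : G, cs⟦x⟧ = n} := by
      refine Set.eq_of_subset_of_ncard_le ?_ (h.trans (le_of_eq (Set.ncard_eq_three.2
        ⟨cs⟦v⟧, cs⟦z⟧, cs⟦u⟧, fun e => hz' (e ▸ hp2), ne, fun e => hz' (e ▸ hp2.trans ac), rfl⟩).symm))
        fin
      rintro n (rfl | rfl | rfl)
      exacts [⟨a1, v, rfl⟩, ⟨b1, z, rfl⟩, ⟨a1.trans_le (Nat.le_of_dvd (cs_pos u) ac), u, rfl⟩]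
    have : cs⟦x⟧ ∈ ({cs⟦v⟧, cs⟦z⟧, cs⟦u⟧} : Set ℕ) :=
      e ▸ ⟨one_lt_cs_iff.2 (not_mem_center hZ hx), x, rfl⟩
    exact this
  refine ⟨_, hZ, all, ac, ne, Nat.coprime_of_dvd fun q hq h3 h4 => ?_, a1, b1, ⟨v, rfl⟩, ⟨z, rfl⟩,
    u, rfl⟩
  obtain ⟨w, hw, hw'⟩ := hp q hq h3
  rcases all w hw with e | e | e <;> rw [e] at hw'
  exacts [hw' h3, hw' h4, hw' (h3.trans ac)]

/-- A representative of prime order `r` with the same centraliser. -/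
theorem exists_rep {d r : ℕ} (hd : 1 < d) (hr : r.Prime) (hG : r ∣ Nat.card G) (hrd : ¬ r ∣ d)
    (h : ∀ y : G, y ≠ 1 → cs⟦y⟧ = d ∨ r ∣ cs⟦y⟧) {x : G} (hx : cs⟦x⟧ = d) :
    ∃ z : G, orderOf z = r ∧ Cx⟦z⟧ = Cx⟦x⟧ := by
  haveI := Fact.mk hr
  have mx : ∀ u w : G, cs⟦u⟧ = d → w ≠ 1 → Cx⟦u⟧ ≤ Cx⟦w⟧ → Cx⟦u⟧ = Cx⟦w⟧ := fun u w hu hw hle =>
    eq_of_le_of_index hle (hu.trans ((h w hw).resolve_right fun e =>
      hrd (hu ▸ e.trans (cs_dvd_of_le hle))).symm)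
  obtain ⟨y, hy, hp⟩ := exists_prime_zpowers (ne_one_of_cs hd hx)
  have e := mx x y hx (ne_one_of_prime hp) (Cx_le_of_mem_zpowers hy)
  by_cases hyr : orderOf y = r
  · exact ⟨y, hyr, e.symm⟩
  obtain ⟨R, hR⟩ := exists_sylow_le_of_not_dvd_index (p := r) (H := Cx⟦x⟧) (hx ▸ hrd)
  obtain ⟨z, hz, ho, hz'⟩ := exists_central R hG
  have hc : (orderOf y).Coprime (orderOf z) := (Nat.coprime_primes hp (ho ▸ hr)).2 (ho ▸ hyr)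
  have hzy : z ∈ Cx⟦y⟧ := e ▸ hR hz
  have hyd : cs⟦y⟧ = d := e ▸ hx
  have h1 := Cx_mul_of_coprime (mem_Cx_iff_commute.1 hzy) hc
  have h2 : cs⟦y * z⟧ = d := (h _ fun e1 => hd.ne' (Nat.dvd_one.1 (by
      rw [← cs_one (G := G), ← e1, ← hyd]
      exact cs_dvd_cs_mul_left (mem_Cx_iff_commute.1 hzy) hc))).resolve_right
    (not_dvd_index_of_sylow_le R (h1 ▸ le_inf (e ▸ hR) hz'))
  exact ⟨z, ho, (e.trans (mx y z hyd (ne_one_of_prime (ho ▸ hr))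
    (Cx_le_of_mul hzy hc (h2.trans hyd.symm)))).symm⟩

/-- If the centraliser of an element of prime order `q` is minimal, its `q'`-elements are central. -/
theorem le_of_min {y w : G} (hm : ∀ u : G, Cx⟦u⟧ ≤ Cx⟦y⟧ → Cx⟦y⟧ ≤ Cx⟦u⟧) (hw : w ∈ Cx⟦y⟧)
    (hc : (orderOf y).Coprime (orderOf w)) : Cx⟦y⟧ ≤ Cx⟦w⟧ := by
  have e := Cx_mul_of_coprime (mem_Cx_iff_commute.1 hw) hc
  exact (hm (y * w) (e ▸ inf_le_left)).trans (e ▸ inf_le_right)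

/-- A centraliser which is both minimal and maximal is a `q`-group or abelian. -/
theorem pgroup_or_comm {y : G} {q : ℕ} [hq : Fact q.Prime] (hy : orderOf y = q)
    (hm : ∀ u : G, Cx⟦u⟧ ≤ Cx⟦y⟧ → Cx⟦y⟧ ≤ Cx⟦u⟧)
    (hM : ∀ u : G, u ≠ 1 → Cx⟦y⟧ ≤ Cx⟦u⟧ → Cx⟦u⟧ ≤ Cx⟦y⟧) :
    IsPGroup q Cx⟦y⟧ ∨ ∀ w ∈ Cx⟦y⟧, Cx⟦y⟧ ≤ Cx⟦w⟧ := by
  refine or_iff_not_imp_left.2 fun h w hw => ?_
  obtain ⟨g, hg, hg'⟩ : ∃ g ∈ Cx⟦y⟧, ¬ IsPElt q g := by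
    by_contra hc
    exact h (isPGroup_iff_isPElt.2 fun g hg => by_contra fun e => hc ⟨g, hg, e⟩)
  have h1 : ∀ u ∈ Cx⟦y⟧, ¬ q ∣ orderOf u → Cx⟦y⟧ ≤ Cx⟦u⟧ := fun u hu e =>
    le_of_min hm hu (H35.coprime_orderOf (pElt_of_prime hy) e)
  have h2 := h1 _ (pReg_mem q hg) (not_dvd_orderOf_pReg q g)
  have e := le_antisymm h2 (hM _ (mt (pReg_eq_one_iff q).1 hg') h2)
  rw [centralizer_eq_inf q w]
  refine le_inf ?_ (h1 _ (pReg_mem q hw) (not_dvd_orderOf_pReg q w))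
  rw [e] at hm hw ⊢
  exact le_of_min hm (pPart_mem q hw)
    (H35.coprime_orderOf (isPElt_pPart q w) (not_dvd_orderOf_pReg q g)).symm

namespace T3

variable {a b c : ℕ} (h : T3 G a b c)
include h

theorem not_ab : ¬ a ∣ b := fun e => h.a1.ne' (Nat.Coprime.eq_one_of_dvd h.cop e)

theorem not_ba : ¬ b ∣ a := fun e => h.b1.ne' (Nat.Coprime.eq_one_of_dvd h.cop.symm e)

theorem not_ca : ¬ c ∣ a := fun e => h.ne (Nat.dvd_antisymm h.ac e)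

theorem not_cb : ¬ c ∣ b := fun e => h.not_ab (h.ac.trans e)

theorem c1 : 1 < c := by
  obtain ⟨x, rfl⟩ := h.exc
  exact h.a1.trans_le (Nat.le_of_dvd (cs_pos x) h.ac)

theorem symm (hb : b ∣ c) : T3 G b a c :=
  ⟨h.hZ, fun x hx => or_left_comm.1 (h.all x hx), hb, fun e => h.not_cb (e ▸ dvd_rfl), h.cop.symm,
    h.b1, h.a1, h.exb, h.exa, h.exc⟩

theorem maxa {x y : G} (hx : cs⟦x⟧ = a) (hy : y ≠ 1) (e : Cx⟦x⟧ ≤ Cx⟦y⟧) : Cx⟦x⟧ = Cx⟦y⟧ := by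
  have d := hx ▸ cs_dvd_of_le e
  rcases h.all y hy with e1 | e1 | e1
  exacts [eq_of_le_of_index e (hx.trans e1.symm), (h.not_ba (e1 ▸ d)).elim, (h.not_ca (e1 ▸ d)).elim]

theorem maxb {x y : G} (hx : cs⟦x⟧ = b) (hy : y ≠ 1) (e : Cx⟦x⟧ ≤ Cx⟦y⟧) : Cx⟦x⟧ = Cx⟦y⟧ := by
  have d := hx ▸ cs_dvd_of_le e
  rcases h.all y hy with e1 | e1 | e1
  exacts [(h.not_ab (e1 ▸ d)).elim, eq_of_le_of_index e (hx.trans e1.symm), (h.not_cb (e1 ▸ d)).elim]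

theorem of_dvd {x : G} {d : ℕ} (hd : 1 < d) (e : d ∣ cs⟦x⟧) : cs⟦x⟧ = a ∨ cs⟦x⟧ = b ∨ cs⟦x⟧ = c :=
  h.all x fun e1 => hd.ne' (Nat.dvd_one.1 (by rwa [e1, cs_one] at e))

theorem minc {x y : G} (hx : cs⟦x⟧ = c) (e : Cx⟦y⟧ ≤ Cx⟦x⟧) : Cx⟦x⟧ ≤ Cx⟦y⟧ := by
  have d := hx ▸ cs_dvd_of_le e
  rcases h.of_dvd h.c1 d with e1 | e1 | e1
  exacts [(h.not_ca (e1 ▸ d)).elim, (h.not_cb (e1 ▸ d)).elim,
    (eq_of_le_of_index e (e1.trans hx.symm)).ge]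

theorem minb (hb : ¬ b ∣ c) {x y : G} (hx : cs⟦x⟧ = b) (e : Cx⟦y⟧ ≤ Cx⟦x⟧) : Cx⟦x⟧ ≤ Cx⟦y⟧ := by
  have d := hx ▸ cs_dvd_of_le e
  rcases h.of_dvd h.b1 d with e1 | e1 | e1
  exacts [(h.not_ba (e1 ▸ d)).elim, (eq_of_le_of_index e (e1.trans hx.symm)).ge, (hb (e1 ▸ d)).elim]

theorem of_a_dvd {x : G} (e : a ∣ cs⟦x⟧) : cs⟦x⟧ = a ∨ cs⟦x⟧ = c :=
  (h.of_dvd h.a1 e).imp_right fun e1 => e1.resolve_left fun e2 => h.not_ab (e2 ▸ e)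

theorem a_dvd : a ∣ Nat.card G := by
  obtain ⟨x, rfl⟩ := h.exa
  exact cs_dvd_card x

theorem b_dvd : b ∣ Nat.card G := by
  obtain ⟨x, rfl⟩ := h.exb
  exact cs_dvd_card x

theorem c_dvd : c ∣ Nat.card G := by
  obtain ⟨x, rfl⟩ := h.exc
  exact cs_dvd_card x

theorem repa {r : ℕ} (hr : r.Prime) (hb : r ∣ b) (hc : r ∣ c) {x : G} (hx : cs⟦x⟧ = a) :
    ∃ z : G, orderOf z = r ∧ Cx⟦z⟧ = Cx⟦x⟧ :=
  exists_rep h.a1 hr (hb.trans h.b_dvd)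
    (fun e => hr.ne_one (Nat.eq_one_of_dvd_coprimes h.cop e hb))
    (fun y hy => (h.all y hy).imp_right fun e => e.elim (fun e => e ▸ hb) fun e => e ▸ hc) hx

theorem repb {r : ℕ} (hr : r.Prime) (ha : r ∣ a) {y : G} (hy : cs⟦y⟧ = b) :
    ∃ z : G, orderOf z = r ∧ Cx⟦z⟧ = Cx⟦y⟧ :=
  exists_rep h.b1 hr (ha.trans h.a_dvd)
    (fun e => hr.ne_one (Nat.eq_one_of_dvd_coprimes h.cop ha e))
    (fun y hy => (or_left_comm.1 (h.all y hy)).imp_right fun e =>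
      e.elim (fun e => e ▸ ha) fun e => e ▸ ha.trans h.ac) hy

theorem not_le_ab {x y : G} (hx : cs⟦x⟧ = a) (hy : cs⟦y⟧ = b) : ¬ Cx⟦x⟧ ≤ Cx⟦y⟧ :=
  fun e => h.not_ba (hx ▸ hy ▸ cs_dvd_of_le e)

theorem not_le_ba {x y : G} (hx : cs⟦x⟧ = a) (hy : cs⟦y⟧ = b) : ¬ Cx⟦y⟧ ≤ Cx⟦x⟧ :=
  fun e => h.not_ab (hx ▸ hy ▸ cs_dvd_of_le e)

/-- If the centralisers of index `b` are `q`-groups and no prime `r ≠ q` divides both `b` and `c`,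
the group is solvable. -/
theorem solv_of_pgroup {q : ℕ} [hq : Fact q.Prime] {y : G} (hy : cs⟦y⟧ = b) (hB : IsPGroup q Cx⟦y⟧)
    (hc : ∀ r : ℕ, r.Prime → r ≠ q → r ∣ b → ¬ r ∣ c) : Group.IsSolvable G := by
  obtain ⟨j, hj⟩ := hB.exists_card_eq
  obtain ⟨k, hk⟩ : ∃ k, c = q ^ k := ⟨_, Nat.eq_prime_pow_of_unique_prime_dvd h.c1.ne_bot
    fun {r} hr hrc => by_contra fun e => by
      have := hrc.trans h.c_dvd
      rw [← card_Cx_mul_cs y, hj, hy] at this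
      exact ((Nat.Prime.dvd_mul hr).1 this).elim (fun e1 =>
        e ((Nat.prime_dvd_prime_iff_eq hr hq.out).1 (hr.dvd_of_dvd_pow e1))) fun e1 => hc r hr e e1 hrc⟩
  refine solvable_of_ppow hq.out fun w hw => ?_
  rcases eq_or_ne w 1 with rfl | hw1
  · exact ⟨0, cs_one⟩
  rcases h.all w hw1 with e | e | e
  · obtain ⟨i, -, hi⟩ := (Nat.dvd_prime_pow hq.out).1 (hk ▸ h.ac)
    exact ⟨i, e.trans hi⟩
  · exact (hw1 (IsPElt.eq_one_of_not_dvd (isPElt_of_mem (IsPGroup.of_card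
      ((card_eq_of_index (e.trans hy.symm)).trans hj)) (self_mem_Cx w)) hw)).elim
  · exact ⟨k, e.trans hk⟩

theorem solv_of_not_dvd (hb : ¬ b ∣ c) {x y : G} (hx : cs⟦x⟧ = a) (hy : cs⟦y⟧ = b)
    (hxy : x ∈ Cx⟦y⟧) : Group.IsSolvable G := by
  obtain ⟨q, hq, hqa⟩ := Nat.exists_prime_and_dvd h.a1.ne'
  haveI := Fact.mk hq
  obtain ⟨y', ho, e⟩ := h.repb hq hqa hy
  have hy' : cs⟦y'⟧ = b := e ▸ hy
  rcases pgroup_or_comm ho (fun u => h.minb hb hy') fun u hu e => (h.maxb hy' hu e).ge with hB | hB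
  · refine h.solv_of_pgroup hy' hB fun r hr rq rb rc => ?_
    obtain ⟨z, hz, e1⟩ := h.repa hr rb rc hx
    exact not_dvd_of_pElt hr hq rq.symm (isPElt_of_mem hB (mem_Cx_comm.1
      (e1 ▸ mem_Cx_comm.1 (e ▸ hxy)))) (hz ▸ dvd_rfl)
  · exact (h.not_le_ba hx hy' (hB x (e ▸ hxy))).elim

theorem eq_mul (hb : b ∣ c) {x y : G} (hx : cs⟦x⟧ = a) (hy : cs⟦y⟧ = b) (hxy : y ∈ Cx⟦x⟧) :
    c = a * b := by
  obtain ⟨r, hr, hra⟩ := Nat.exists_prime_and_dvd h.a1.ne'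
  obtain ⟨s, hs, hsb⟩ := Nat.exists_prime_and_dvd h.b1.ne'
  obtain ⟨y', ho, e⟩ := h.repb hr hra hy
  obtain ⟨x', ho', e'⟩ := h.repa hs hsb (hsb.trans hb) hx
  have hc : (orderOf x').Coprime (orderOf y') := by
    rw [ho, ho']
    exact (h.cop.symm.coprime_dvd_left hsb).coprime_dvd_right hra
  have e1 : cs⟦x' * y'⟧ = a * b := by
    rw [Cx_mul_of_coprime (mem_Cx_iff_commute.1 (e' ▸ mem_Cx_comm.1 (e ▸ mem_Cx_comm.1 hxy))) hc,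
      e, e', index_inf_of_coprime (hx ▸ hy ▸ h.cop), hx, hy]
  rcases h.of_a_dvd (e1 ▸ dvd_mul_right a b) with e2 | e2
  · exact (h.not_ba (e2 ▸ e1 ▸ dvd_mul_left b a)).elim
  · exact e2.symm.trans e1

theorem prime_unique (hb : b ∣ c) {x y : G} (hx : cs⟦x⟧ = a) (hy : cs⟦y⟧ = b) (hxy : y ∈ Cx⟦x⟧)
    {s₁ s₂ : ℕ} (h1 : s₁.Prime) (h2 : s₂.Prime) (d1 : s₁ ∣ b) (d2 : s₂ ∣ b) : s₁ = s₂ := by
  by_contra h12
  have hc := h.eq_mul hb hx hy hxy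
  obtain ⟨r, hr, hra⟩ := Nat.exists_prime_and_dvd h.a1.ne'
  obtain ⟨y', ho, e⟩ := h.repb hr hra hy
  have hy' : y' ∈ Cx⟦x⟧ := mem_Cx_comm.1 (e ▸ mem_Cx_comm.1 hxy)
  have rs : ∀ {s : ℕ}, s ∣ b → r ≠ s := fun hs e =>
    hr.ne_one (Nat.eq_one_of_dvd_coprimes h.cop hra (e ▸ hs))
  have key : ∀ {s : ℕ}, s.Prime → s ∣ b → ∀ w : Cx⟦x⟧, ¬ s ∣ orderOf w → cs⟦w⟧ = 1 ∨ cs⟦w⟧ = b := by
    intro s hs d w hw
    haveI := Fact.mk hs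
    obtain ⟨x', ho', e'⟩ := h.repa hs d (d.trans hb) hx
    have hcop := H35.coprime_orderOf (pElt_of_prime ho') (y := (w : G)) (by rwa [orderOf_coe])
    have e1 := cs_mul_of_coprime (mem_Cx_iff_commute.1 (e'.ge w.2)) hcop
    rw [e', hx, ← cs_subtype] at e1
    have a0 : 0 < a := h.a1.trans' one_pos
    rcases h.of_a_dvd (e1 ▸ dvd_mul_left a _) with e2 | e2
    · exact .inl (Nat.eq_of_mul_eq_mul_right a0 (by rw [← e1, e2, one_mul]))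
    · exact .inr (Nat.eq_of_mul_eq_mul_right a0 (by rw [← e1, e2, hc, mul_comm]))
  have nc : (⟨y', hy'⟩ : Cx⟦x⟧) ∉ center Cx⟦x⟧ := fun hz => h.not_le_ab hx hy fun g hg =>
    e ▸ (mem_Cx (x := y')).2 (congrArg Subtype.val (mem_center_iff.1 hz ⟨g, hg⟩))
  have hy1 : IsPElt r (⟨y', hy'⟩ : Cx⟦x⟧) := (isPElt_coe _).1 (pElt_of_prime ho)
  have cy : cs⟦(⟨y', hy'⟩ : Cx⟦x⟧)⟧ = b := (key h1 d1 _ (not_dvd_of_pElt h1 hr (rs d1) hy1)).resolve_left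
    (one_lt_cs_iff.2 nc).ne'
  haveI := Fact.mk h1
  obtain ⟨u, -, hu, hu'⟩ := exists_pElt_not_mem (p := s₁) (Z := center Cx⟦x⟧) (M := ⊤)
    (by rw [relIndex_top_right]; exact (cy ▸ d1).trans (cs_dvd_index_center _))
  rcases two_cs (all_two_cs h1 h2 h12 hr h1 (rs d1) (rs d2) (rs d1).symm
    (fun w hw => hw.elim (key h1 d1 w) (key h2 d2 w)) hy1 nc hu' hu) with e1 | ⟨p, hp, k, -, -, e1, -⟩
  · exact nc (mem_center_iff.2 fun g => e1 _ _)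
  · exact h12 (((Nat.prime_dvd_prime_iff_eq h1 hp.out).1 (h1.dvd_of_dvd_pow (e1 ▸ d1))).trans
      ((Nat.prime_dvd_prime_iff_eq h2 hp.out).1 (h2.dvd_of_dvd_pow (e1 ▸ d2))).symm)

/-- Step 2: commuting elements of class sizes `a` and `b`. -/
theorem solv_of_comm {x y : G} (hx : cs⟦x⟧ = a) (hy : cs⟦y⟧ = b) (hxy : y ∈ Cx⟦x⟧) :
    Group.IsSolvable G := by
  by_cases hb : b ∣ c
  swap
  · exact h.solv_of_not_dvd hb hx hy (mem_Cx_comm.1 hxy)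
  obtain ⟨r, hr, hra⟩ := Nat.exists_prime_and_dvd h.a1.ne'
  obtain ⟨s, hs, hsb⟩ := Nat.exists_prime_and_dvd h.b1.ne'
  refine H8.isSolvable_of_two_primes hr hs fun l hl hlG => ?_
  obtain ⟨z, ho, hz⟩ := exists_cs_not_dvd hl hlG
  haveI := Fact.mk hl
  by_cases d : l ∣ a * b
  · exact ((Nat.Prime.dvd_mul hl).1 d).imp
      (fun d => (h.symm hb).prime_unique h.ac hy hx (mem_Cx_comm.1 hxy) hl hr d hra)
      fun d => h.prime_unique hb hx hy hxy hl hs d hsb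
  obtain ⟨P⟩ : Nonempty (Sylow l G) := inferInstance
  refine (P.ne_bot_of_dvd_card hlG (eq_bot_iff.2 (h.hZ ▸ sylow_le_center_of_forall_not_dvd
    (fun w e => d ?_) P))).elim
  rcases h.of_dvd hl.one_lt e with e1 | e1 | e1 <;> rw [e1] at e
  exacts [e.mul_right b, e.mul_left a, h.eq_mul hb hx hy hxy ▸ e]

end T3

end H32
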