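import Mathlib
import Cfsg.Agent.Base
import Cfsg.Agent.Lib.Char.More
import Cfsg.Agent.Lib.Char.Mackey
import Cfsg.Agent.Lib.Char.InduceChar
import Cfsg.Agent.Lib.Core.Frobenius

/-! An abelian self-centralising TI-subgroup complementing a centraliser `C(x)`: the element `x`
commutes with none or with all of its other conjugates. -/

set_option autoImplicit false
set_option linter.unusedSectionVars false
set_option linter.style.haveILetI false

namespace H32

open Subgroup Cfsg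
open scoped ComplexConjugate Classical

variable {G : Type*} [Group G] [Fintype G]

/-- An abelian subgroup containing the centralisers of its non-identity elements. -/
structure SCA (B : Subgroup G) : Prop where
  comm : ∀ a ∈ B, ∀ b ∈ B, a * b = b * a
  cent : ∀ y ∈ B, y ≠ 1 → ∀ g : G, g * y = y * g → g ∈ B

namespace SCA

variable {B : Subgroup G} (h : SCA B)
include h

theorem norm {g y : G} (hy : y ∈ B) (h1 : y ≠ 1) (hg : g⁻¹ * y * g ∈ B) {k : G} (hk : k ∈ B) :
    g⁻¹ * k * g ∈ B :=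
  h.cent _ hg (mt H2.inv_conj_eq_one_iff.1 h1) _ (by
    calc _ = g⁻¹ * (k * y) * g := by group
      _ = _ := by rw [h.comm k hk y hy]; group)

omit h in
/-- The conjugate of a linear character. -/
def cjl {g : G} (hg : ∀ k ∈ B, g⁻¹ * k * g ∈ B) (l : B →* ℂˣ) : B →* ℂˣ :=
  l.comp { toFun := fun k => ⟨g⁻¹ * k * g, hg k k.2⟩
           map_one' := by ext; simp
           map_mul' := fun a b => by ext; simp [mul_assoc] }

theorem cjl_eq {g : G} (hg : ∀ k ∈ B, g⁻¹ * k * g ∈ B) {l : B →* ℂˣ} (hl : l ≠ 1) :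
    cjl hg l = l ↔ g ∈ B := by
  refine ⟨fun e => by_contra fun hc => hl (MonoidHom.ext fun k => ?_), fun hB => MonoidHom.ext fun k =>
    congrArg l (Subtype.ext (by
      show g⁻¹ * k * g = k
      rw [mul_assoc, h.comm _ k.2 g hB, inv_mul_cancel_left]))⟩
  have hn : g⁻¹ ∈ normalizer (B : Set G) := mem_normalizer_fintype fun k hk => by simpa using hg k hk
  obtain ⟨x, hx, e'⟩ := H2.exists_commutator_eq_of_fpf hn
    (H2.inf_centralizer_singleton_eq_bot_iff.2 fun k hk e => by_contra fun h1 =>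
      hc (inv_mem_iff.1 (h.cent k hk h1 _ e.symm))) k.2
  have := DFunLike.congr_fun e ⟨x⁻¹, inv_mem hx⟩
  rw [show k = ⟨x, hx⟩ * ⟨g⁻¹ * x⁻¹ * g, hg _ (inv_mem hx)⟩ from Subtype.ext (by
    rw [← e']; simp [mul_assoc]), map_mul]
  change l ⟨x, hx⟩ * cjl hg l ⟨x⁻¹, inv_mem hx⟩ = 1
  rw [this, ← map_mul, ← map_one l]
  exact congrArg l (Subtype.ext (mul_inv_cancel x))

omit h in
theorem mult_cjl {g : G} (hg : ∀ k ∈ B, g⁻¹ * k * g ∈ B) (l : B →* ℂˣ) {χ : G → ℂ}
    (hχ : IsClassFunction G χ) : classInner (fun k : B => χ k) (fun k => (cjl hg l k : ℂ)) =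
      classInner (fun k : B => χ k) (fun k => (l k : ℂ)) := by
  let f : B → B := fun k => ⟨g⁻¹ * k * g, hg k k.2⟩
  have hf : Function.Bijective f := Finite.injective_iff_bijective.1 fun a b e => Subtype.ext (by
    simpa [f] using e)
  rw [← H6.classInner_comp_equiv (Equiv.ofBijective f hf) (fun k : B => χ k) fun k => (l k : ℂ)]
  congr 1
  ext k
  exact (H6.classFun_conj' hχ k g).symm

theorem inner_two {l m : B →* ℂˣ} (hl : l ≠ 1) (hm : m ≠ 1)
    (hlm : ∀ (g : G) (hg : ∀ k ∈ B, g⁻¹ * k * g ∈ B), cjl hg l ≠ m ∧ cjl hg m ≠ l) :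
    classInner (indFun B ((fun k => (l k : ℂ)) - fun k => (m k : ℂ)))
      (indFun B ((fun k => (l k : ℂ)) - fun k => (m k : ℂ))) = 2 := by
  rw [H7.classInner_indFun_indFun]
  have hB := H6.card_ne_zero (G := B)
  have : ∀ g : G, ∑ k : B, extendByZero B ((fun k => (l k : ℂ)) - fun k => (m k : ℂ)) (g⁻¹ * k * g) *
      conj (((fun k => (l k : ℂ)) - fun k => (m k : ℂ)) k) =
      if g ∈ B then (2 * Nat.card B : ℂ) else 0 := fun g => by
    by_cases hg : ∀ k ∈ B, g⁻¹ * k * g ∈ B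
    · have e : ∀ k : B, extendByZero B ((fun k => (l k : ℂ)) - fun k => (m k : ℂ)) (g⁻¹ * k * g) =
          ((fun k => (cjl hg l k : ℂ)) - fun k => (cjl hg m k : ℂ)) k := fun k =>
        H7.extendByZero_of_mem B _ (hg k k.2)
      simp only [e]
      rw [← H6.card_mul_classInner, H6.classInner_sub_left, H6.classInner_sub_right,
        H6.classInner_sub_right, H6.hom_inner, H6.hom_inner, H6.hom_inner, H6.hom_inner,
        if_neg (hlm g hg).1, if_neg (hlm g hg).2]
      simp only [h.cjl_eq hg hl, h.cjl_eq hg hm]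
      split_ifs <;> ring
    · rw [if_neg fun hB => hg fun k hk => mul_mem (mul_mem (inv_mem hB) hk) hB]
      refine Finset.sum_eq_zero fun k _ => ?_
      by_cases h1 : k = 1
      · simp [h1]
      · rw [H7.extendByZero_of_not_mem B _ fun e =>
          hg fun _ => h.norm k.2 (fun e => h1 (Subtype.ext e)) e, zero_mul]
  simp only [this]
  rw [← Finset.sum_filter, Finset.sum_const, ← Fintype.card_subtype, ← Nat.card_eq_fintype_card]
  simp only [nsmul_eq_mul]
  field_simp

theorem vanish {x : G} (hx : ∀ u v : G, ∀ y ∈ B, ∀ z ∈ B, x ≠ (u * y * u⁻¹) * (v * z * v⁻¹))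
    {χ : G → ℂ} (hχ : IsIrrCharacter G χ) {l m : B →* ℂˣ} (hl : l ≠ 1) (hm : m ≠ 1)
    (hne : classInner (fun k : B => χ k) (fun k => (l k : ℂ)) ≠
      classInner (fun k : B => χ k) (fun k => (m k : ℂ))) : χ x = 0 := by
  have hc := H6.irr_isClassFunction hχ
  have h2 := h.inner_two hl hm fun g hg => ⟨fun e => hne (by rw [← e, mult_cjl hg l hc]),
    fun e => hne (by rw [← e, mult_cjl hg m hc])⟩
  have h3 := H7.classInner_indFun_right B ((fun k => (l k : ℂ)) - fun k => (m k : ℂ)) hc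
  have h0 : ∀ g : G, indFun B ((fun k => (l k : ℂ)) - fun k => (m k : ℂ)) g ≠ 0 →
      ∃ u : G, ∃ y ∈ B, g = u * y * u⁻¹ := fun g hg => by
    by_contra hc
    exact hg (H7.indFun_eq_zero_of_not_conj B _ g fun u hu => hc ⟨u, _, hu, by group⟩)
  obtain ⟨α, β, hα, hβ, hαβ, e⟩ := H6.exists_sub_of_inner_self_eq_two
    (H7.isGeneralizedCharacter_indFun B (H6.isGen_sub (H6.char_isGen (H6.isCharacter_hom l))
      (H6.char_isGen (H6.isCharacter_hom m)))) h2 (by simp [H7.indFun_one])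
  have h1 : (α - β) 1 = 0 := by rw [← e]; simp [H7.indFun_one]
  rw [e] at h0 h3
  have h4 : (α - β) x = 0 := by
    by_contra hc
    obtain ⟨u, y, hy, e⟩ := h0 x hc
    exact hx u 1 y hy 1 (one_mem B) (by simpa using e)
  have h5 : ∑ g : G, (α - β) (g * x) * conj ((α - β) g) = 0 := Finset.sum_eq_zero fun g _ => by
    by_contra hc
    obtain ⟨u, y, hy, e1⟩ := h0 _ (left_ne_zero_of_mul hc)
    obtain ⟨v, z, hz, e2⟩ := h0 _ (fun e => right_ne_zero_of_mul hc (by rw [e, map_zero]))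
    exact hx v u z⁻¹ (inv_mem hz) y hy (by rw [← e1, e2]; group)
  simp only [Pi.sub_apply, map_sub, sub_mul, mul_sub, Finset.sum_sub_distrib,
    H6.sum_irr_mul_conj hα hα, H6.sum_irr_mul_conj hα hβ, H6.sum_irr_mul_conj hβ hα,
    H6.sum_irr_mul_conj hβ hβ, if_neg hαβ, if_neg hαβ.symm, if_true, sub_eq_zero] at h1 h4 h5
  have h6 : β x = 0 := by
    have := H6.irr_one_ne_zero hβ
    have := H6.card_ne_zero (G := G)
    rw [h1, h4] at h5
    field_simp at h5
    exact mul_left_cancel₀ this (by linear_combination h5 / 2)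
  rw [H6.classInner_sub_right, H6.classInner_sub_right, H6.irr_inner hχ hα, H6.irr_inner hχ hβ] at h3
  by_cases e1 : χ = α
  · rw [e1, h4, h6]
  by_cases e2 : χ = β
  · rw [e2, h6]
  exact (hne (by rw [if_neg e1, if_neg e2] at h3; linear_combination -h3)).elim

theorem theta {x : G} (hx : ∀ u v : G, ∀ y ∈ B, ∀ z ∈ B, x ≠ (u * y * u⁻¹) * (v * z * v⁻¹))
    {θ : G → ℂ} (hθ : IsCharacter G θ) (h1 : ∀ l : B →* ℂˣ,
      classInner (fun k : B => θ k) (fun k => (l k : ℂ)) = if l = 1 then 0 else 1) :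
    θ x = 0 ∨ (IsIrrCharacter G θ ∧ B ≠ ⊥) := by
  have hB : ∀ a b : B, a * b = b * a := fun a b => Subtype.ext (h.comm _ a.2 _ b.2)
  refine or_iff_not_imp_left.2 fun h0 => ?_
  rw [H6.classFun_apply_eq_sum_irr (H6.char_isClassFunction hθ)] at h0
  obtain ⟨⟨χ, hχ⟩, -, h0⟩ := Finset.exists_ne_zero_of_sum_ne_zero h0
  have hψ := H6.isCharacter_sub_of_inner_ne_zero hθ hχ (left_ne_zero_of_mul h0)
  have nat : ∀ {φ : G → ℂ}, IsCharacter G φ → ∀ l : B →* ℂˣ,
      ∃ n : ℕ, classInner (fun k : B => φ k) (fun k => (l k : ℂ)) = n := fun hφ l =>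
    H6.char_inner_nat (H6.isCharacter_restrict B hφ) (H6.isCharacter_hom l)
  have und : ∀ {φ : G → ℂ}, IsCharacter G φ → φ 1 ≠ 0 → ∃ l : B →* ℂˣ,
      classInner (fun k : B => φ k) (fun k => (l k : ℂ)) ≠ 0 := fun hφ e => by
    obtain ⟨ξ, h1, h2⟩ := H6.exists_irr_inner_ne_zero
      (H6.char_isClassFunction (H6.isCharacter_restrict B hφ)) (fun e' => e (congrFun e' 1))
    obtain ⟨l, rfl⟩ := H6.irr_eq_hom_of_comm hB h1
    exact ⟨l, h2⟩
  choose a ha using nat (H6.irr_isCharacter hχ)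
  choose b hb using nat hψ
  have hab : ∀ l, a l + b l = if l = 1 then 0 else 1 := fun l => by
    have : ((a l + b l : ℕ) : ℂ) = ((if l = 1 then 0 else 1 : ℕ) : ℂ) := by
      rw [Nat.cast_add, ← ha, ← hb, ← H6.classInner_add_left, Nat.cast_ite, Nat.cast_zero,
        Nat.cast_one, ← h1]
      congr 1
      ext k
      simp
    exact_mod_cast this
  obtain ⟨l, hl⟩ := und (H6.irr_isCharacter hχ) (H6.irr_one_ne_zero hχ)
  have l1 : l ≠ 1 := fun e => by
    have := hab l
    rw [ha] at hl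
    rw [if_pos e] at this
    exact hl (by rw [show a l = 0 by omega, Nat.cast_zero])
  refine ⟨?_, fun e => l1 (MonoidHom.ext fun k => by
    rw [show k = 1 from Subtype.ext (mem_bot.1 (e ▸ k.2)), map_one, map_one])⟩
  rw [sub_eq_zero.1 (H6.char_eq_zero_of_one hψ (by_contra fun e => ?_))]
  · exact hχ
  obtain ⟨m, hm⟩ := und hψ e
  have := hab m
  rw [hb, Nat.cast_ne_zero] at hm
  split_ifs at this with m1
  · omega
  refine right_ne_zero_of_mul h0 (h.vanish hx hχ l1 m1 fun e => hl ?_)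
  rw [e, ha, show a m = 0 by omega, Nat.cast_zero]

theorem fix {x : G} (hx : ∀ u v : G, ∀ y ∈ B, ∀ z ∈ B, x ≠ (u * y * u⁻¹) * (v * z * v⁻¹))
    (hreg : ∀ g : G, ∃ b ∈ B, g * x * g⁻¹ = b * x * b⁻¹)
    (hcard : (centralizer ({x} : Set G)).index = Nat.card B) :
    (∀ g : G, x * (g * x * g⁻¹) = g * x * g⁻¹ * x → g * x * g⁻¹ = x) ∨
      ∀ g : G, x * (g * x * g⁻¹) = g * x * g⁻¹ * x := by
  set A := centralizer ({x} : Set G)
  let π : G → ℂ := fun g => Nat.card (MulAction.fixedBy (G ⧸ A) g)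
  have hπ : IsCharacter G π := H6.isCharacter_fixedBy _
  have key : ∀ y g : G, (g : G ⧸ A) ∈ MulAction.fixedBy (G ⧸ A) y ↔
      y * (g * x * g⁻¹) = g * x * g⁻¹ * y := fun y g => by
    rw [MulAction.mem_fixedBy, MulAction.Quotient.smul_coe, eq_comm, QuotientGroup.eq,
      mem_centralizer_singleton_iff, smul_eq_mul]
    constructor <;> intro e
    · calc _ = g * (g⁻¹ * (y * g) * x) * g⁻¹ := by group
        _ = _ := by rw [e]; group
    · calc _ = g⁻¹ * (y * (g * x * g⁻¹)) * g := by group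
        _ = _ := by rw [e]; group
  have p1 : π 1 = Nat.card B := by
    simp only [π, MulAction.fixedBy_one_eq_univ, Nat.card_univ, ← hcard, index]
  have p2 : ∀ y ∈ B, y ≠ 1 → π y = 0 := fun y hy h1 => by
    haveI : IsEmpty (MulAction.fixedBy (G ⧸ A) y) := ⟨fun ⟨q, hq⟩ => by
      obtain ⟨g, rfl⟩ := QuotientGroup.mk_surjective q
      exact hx g⁻¹ 1 _ (h.cent y hy h1 _ ((key y g).1 hq).symm) 1 (one_mem B) (by group)⟩
    simp only [π, Nat.card_of_isEmpty, Nat.cast_zero]
  set θ : G → ℂ := π - fun _ => 1 with hθe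
  have hθ : IsCharacter G θ := H6.isCharacter_sub_of_inner_ne_zero hπ H6.isIrrCharacter_one (by
    rw [H6.classInner_fixedBy_one, Nat.cast_ne_zero]; exact Nat.card_pos.ne')
  have hc := H6.char_isClassFunction hθ
  have hx1 : ((1 : G) : G ⧸ A) ∈ MulAction.fixedBy (G ⧸ A) x := (key x 1).2 (by group)
  have c1 : π x = 1 → ∀ g : G, x * (g * x * g⁻¹) = g * x * g⁻¹ * x → g * x * g⁻¹ = x := fun e g hg => by
    haveI := (Nat.card_eq_one_iff_unique.1 (Nat.cast_eq_one.1 e)).1
    have := QuotientGroup.eq.1 (congrArg Subtype.val (Subsingleton.elim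
      (⟨_, hx1⟩ : MulAction.fixedBy (G ⧸ A) x) ⟨_, (key x g).2 hg⟩))
    rw [inv_one, one_mul, mem_centralizer_singleton_iff] at this
    rw [this, mul_inv_cancel_right]
  rcases h.theta hx hθ fun l => by
    rw [show (fun k : B => θ k) = H6.regChar B - fun k => ((1 : B →* ℂˣ) k : ℂ) from
      funext fun k => by
        by_cases e : k = 1
        · simp [θ, e, p1, H6.regChar_one]
        · simp [θ, p2 k k.2 fun e' => e (Subtype.ext e'), H6.regChar_ne e],
      H6.classInner_sub_left, H6.classInner_regChar_left, H6.hom_inner]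
    by_cases e : l = 1 <;> simp [e, eq_comm (a := (1 : B →* ℂˣ))] with e | ⟨hi, hB⟩
  · exact .inl (c1 (sub_eq_zero.1 e))
  obtain ⟨y, hy, y1⟩ := (bot_or_exists_ne_one B).resolve_left hB
  have f := H6.sum_mul_irr_mul hi (H6.isClassFunction_classInd y) x
  rw [H6.sum_classInd_mul y hc, Finset.sum_congr rfl (g := fun g => H6.classInd y g *
    (fun _ => θ (y * x)) g) fun g _ => by
      by_cases e : IsConj y g
      · obtain ⟨c, rfl⟩ := isConj_iff.1 e
        obtain ⟨b, hb, e⟩ := hreg c⁻¹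
        rw [← hc (y * x) (c * b), show c * b * (y * x) * (c * b)⁻¹ =
          c * (b * y) * b⁻¹ * (b * x * b⁻¹) * c⁻¹ by group, ← e, h.comm b hb y hy]
        congr 2
        group
      · simp [H6.classInd_of_not_isConj e],
    H6.sum_classInd_mul y (H6.isClassFunction_const _)] at f
  have i0 := H6.irr_one_ne_zero hi
  have i1 : ((centralizer ({y} : Set G)).index : ℂ) ≠ 0 := Nat.cast_ne_zero.2 index_ne_zero_of_finite
  simp only [θ, Pi.sub_apply, p1, p2 y hy y1] at f i0
  field_simp at f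
  simp only [π] at f c1
  have hp : 0 < Nat.card (MulAction.fixedBy (G ⧸ A) x) := Nat.card_pos_iff.2 ⟨⟨⟨_, hx1⟩⟩, inferInstance⟩
  have hB1 : 1 < Nat.card B := (one_lt_card_iff_ne_bot B).2 hB
  generalize Nat.card (MulAction.fixedBy (G ⧸ A) (y * x)) = n at f
  have f' : ((n : ℤ) - 1) * (Nat.card B - 1) = 1 - Nat.card (MulAction.fixedBy (G ⧸ A) x) := by
    have : (((n : ℤ) - 1) * (Nat.card B - 1) : ℤ) =
        ((1 - Nat.card (MulAction.fixedBy (G ⧸ A) x) : ℤ) : ℂ) := by
      push_cast; linear_combination f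
    exact_mod_cast this
  rcases n with _ | n
  · refine .inr fun g => (key x g).1 ?_
    have : Nat.card (MulAction.fixedBy (G ⧸ A) x) = Nat.card (G ⧸ A) := by
      rw [← index, hcard]; omega
    rw [Set.eq_of_subset_of_ncard_le (Set.subset_univ (MulAction.fixedBy (G ⧸ A) x))
      (by rw [Set.ncard_univ, ← this]; rfl)]
    trivial
  · refine .inl (c1 (Nat.cast_eq_one.2 ?_))
    have : (0 : ℤ) ≤ (n : ℤ) * (Nat.card B - 1) := mul_nonneg (by omega) (by omega)
    push_cast at f'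
    rw [add_sub_cancel_right] at f'
    omega

end SCA

end H32
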