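import Mathlib
import Cfsg.Agent.Base
import Cfsg.Agent.Lib.CIT.Cls2
import Cfsg.Agent.Lib.CIT.Szep
import Cfsg.Agent.S0215

/-! Centreless groups with three non-trivial class sizes: the case `|G| = a b`. -/

set_option autoImplicit false
set_option linter.unusedSectionVars false
set_option linter.style.haveILetI false

namespace H32

open Subgroup H69 H80 H35 Matrix
open scoped MatrixGroups Pointwise

variable {G : Type*} [Group G] [Finite G]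

theorem pxq {p : ℕ} [Fact p.Prime] {t z : G} (ht : IsPElt p t) (hz : ¬ p ∣ orderOf z)
    (h : Cx⟦t⟧ ≤ Cx⟦z⟧) : z ∈ 𝐂(Cfsg.pCore p G) :=
  zpowers_le.1 (H2.thompson_PxQ (isPElt_iff_zpowers.1 ht)
    (by rw [Nat.card_zpowers]; exact ((Fact.out : p.Prime).coprime_iff_not_dvd.2 hz).symm)
    H1.isPGroup_pCore (by rw [H80.centralizer_zpowers]; exact zpowers_le.2 (h (self_mem_Cx t)))
    le_normalizer_of_normal le_normalizer_of_normal
    (by rw [H80.centralizer_zpowers, H80.centralizer_zpowers]; exact inf_le_right.trans h))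

theorem mem_pCore_of_mem_fitting {p : ℕ} [Fact p.Prime] {t : G} (ht : IsPElt p t)
    (h : t ∈ Cfsg.fittingSubgroup G) : t ∈ Cfsg.pCore p G :=
  zpowers_le.1 (H1.le_pCore_of_le_fitting (isPElt_iff_zpowers.1 ht) (zpowers_le.2 h))

theorem T3.card_or {a b c : ℕ} (h : T3 G a b c)
    (hn : ∀ x y : G, cs⟦x⟧ = a → cs⟦y⟧ = b → y ∉ Cx⟦x⟧) :
    Group.IsSolvable G ∨ Nat.card G = a * b := by
  obtain ⟨x, hx⟩ := h.exa
  obtain ⟨y, hy⟩ := h.exb
  refine or_iff_not_imp_right.2 fun hc => ?_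
  have hne : Cx⟦x⟧ ⊓ Cx⟦y⟧ ≠ ⊥ := fun e => hc (by
    rw [← index_bot, ← e, index_inf_of_coprime (hx ▸ hy ▸ h.cop), hx, hy])
  have aux : ∀ l : ℕ, l.Prime → l ∣ Nat.card (Cx⟦x⟧ ⊓ Cx⟦y⟧ : Subgroup G) →
      (∀ r : ℕ, r.Prime → r ∣ a → r = l) ∧ ∀ r : ℕ, r.Prime → r ≠ l → r ∣ b → ¬ r ∣ c := by
    intro l hl hd
    haveI := Fact.mk hl
    obtain ⟨w, ⟨hwx, hwy⟩, ho⟩ := H1.exists_mem_orderOf_eq_prime hl hd
    have hw : cs⟦w⟧ = c := ((h.all w (ne_one_of_prime (ho ▸ hl))).resolve_left fun e =>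
      hn w y e hy (mem_Cx_comm.1 hwy)).resolve_left fun e => hn x w hx e hwx
    have key : ∀ {r : ℕ} {u : G}, r.Prime → r ≠ l → orderOf u = r → w ∈ Cx⟦u⟧ →
        x ∈ Cx⟦u⟧ ∧ y ∈ Cx⟦u⟧ := fun hr rl hu e =>
      have := le_of_min (fun u => h.minc hw) (mem_Cx_comm.1 e)
        (cop_of_pElt hl hr rl.symm (pElt_of_prime ho) (pElt_of_prime hu))
      ⟨this (mem_Cx_comm.1 hwx), this (mem_Cx_comm.1 hwy)⟩
    refine ⟨fun r hr ra => by_contra fun rl => ?_, fun r hr rl rb rc => ?_⟩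
    · obtain ⟨z, hz, e⟩ := h.repb hr ra hy
      exact hn x y hx hy (mem_Cx_comm.1 (e.le (key hr rl hz (e.ge hwy)).1))
    · obtain ⟨z, hz, e⟩ := h.repa hr rb rc hx
      exact hn x y hx hy (e.le (key hr rl hz (e.ge hwx)).2)
  obtain ⟨l, hl, hd⟩ := Nat.exists_prime_and_dvd (mt card_eq_one.1 hne)
  obtain ⟨r, hr, hra⟩ := Nat.exists_prime_and_dvd h.a1.ne'
  haveI := Fact.mk hl
  refine h.solv_of_pgroup (q := l) hy (IsPGroup.of_card (Nat.eq_prime_pow_of_unique_prime_dvd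
    Nat.card_pos.ne' fun {s} hs d => ?_)) (aux l hl hd).2
  rw [← H1.card_inf_mul_relIndex Cx⟦x⟧, relIndex_eq_index_of_coprime (hx ▸ hy ▸ h.cop), hx] at d
  exact ((Nat.Prime.dvd_mul hs).1 d).elim
    (fun d => ((aux s hs d).1 r hr hra).symm.trans ((aux l hl hd).1 r hr hra)) ((aux l hl hd).1 s hs)

structure T4 (G : Type*) [Group G] (a b c : ℕ) : Prop extends T3 G a b c where
  card : Nat.card G = a * b

namespace T4

variable {a b c : ℕ} (h : T4 G a b c)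
include h

theorem cardB {y : G} (hy : cs⟦y⟧ = b) : Nat.card Cx⟦y⟧ = a :=
  Nat.eq_of_mul_eq_mul_right (one_pos.trans h.b1) (by rw [← h.card, ← card_Cx_mul_cs y, hy])

theorem cardA {x : G} (h1 : x ≠ 1) (hx : cs⟦x⟧ ≠ b) : Nat.card Cx⟦x⟧ ∣ b := by
  obtain ⟨k, hk⟩ : a ∣ cs⟦x⟧ := by
    rcases h.all x h1 with e | e | e
    exacts [e ▸ dvd_rfl, (hx e).elim, e ▸ h.ac]
  exact ⟨k, Nat.eq_of_mul_eq_mul_left (one_pos.trans h.a1) (by
    rw [← h.card, ← card_Cx_mul_cs x, hk]; ring)⟩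

theorem isB {x : G} (h1 : x ≠ 1) (ho : orderOf x ∣ a) : cs⟦x⟧ = b := by_contra fun e =>
  h1 (orderOf_eq_one_iff.1 (Nat.eq_one_of_dvd_coprimes h.cop ho
    ((H1.orderOf_dvd_card_of_mem (self_mem_Cx x)).trans (h.cardA h1 e))))

theorem commB {y w : G} (hy : cs⟦y⟧ = b) (hw : w ∈ Cx⟦y⟧) (h1 : w ≠ 1) : cs⟦w⟧ = b :=
  h.isB h1 (h.cardB hy ▸ H1.orderOf_dvd_card_of_mem hw)

theorem notB {x : G} {p : ℕ} (hpa : ¬ p ∣ a) (hx : p ∣ orderOf x) : cs⟦x⟧ ≠ b :=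
  fun e => hpa (hx.trans (h.cardB e ▸ H1.orderOf_dvd_card_of_mem (self_mem_Cx x)))

theorem not_bc : ¬ b ∣ c := fun e => by
  obtain ⟨z, hz⟩ := h.exc
  have h1 := h.cop.mul_dvd_of_dvd_of_dvd h.ac e
  rw [← h.card, ← card_Cx_mul_cs z, hz] at h1
  have h2 : Nat.card Cx⟦z⟧ = 1 := Nat.dvd_one.1 (Nat.dvd_of_mul_dvd_mul_right (one_pos.trans h.c1)
    (by rwa [one_mul]))
  exact ne_one_of_cs h.c1 hz (mem_bot.1 (card_eq_one.1 h2 ▸ self_mem_Cx z))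

theorem ac_of_even (ha : 2 ∣ a) : AC G := ac_of fun t u v ht hu hv h1 e => by
  have hb := h.isB (H9.ne_one_of_orderOf_two ht) (ht ▸ ha)
  have hu1 : u ≠ 1 := fun e1 => not_mem_center h.hZ h1 (Cx_eq_top_iff.1 (eq_top_iff.2
    (by rwa [e1, Cx_one] at e)))
  exact (eq_of_le_of_index e ((h.commB hb hu hu1).trans (h.commB hb hv h1).symm)).ge

theorem le_fitting {N : Subgroup G} [N.Normal] (hN : Nat.card N ∣ b) : N ≤ Cfsg.fittingSubgroup G := by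
  obtain ⟨r, hr, hra⟩ := Nat.exists_prime_and_dvd h.a1.ne'
  obtain ⟨y, hy⟩ := h.exb
  obtain ⟨z, hz, e⟩ := h.repb hr hra hy
  refine H1.le_fitting (nilpotent_of_fpf (hz ▸ hr) (le_normalizer_of_normal (mem_top z))
    fun x hx e1 => orderOf_eq_one_iff.1 (Nat.eq_one_of_dvd_coprimes h.cop ?_
      ((H1.orderOf_dvd_card_of_mem hx).trans hN)))
  exact h.cardB hy ▸ H1.orderOf_dvd_card_of_mem (e.le (mem_Cx.2 e1))

theorem le_fitting' {N : Subgroup G} [N.Normal] {w : G} (h1 : w ≠ 1) (hw : cs⟦w⟧ ≠ b)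
    (hN : N ≤ Cx⟦w⟧) : N ≤ Cfsg.fittingSubgroup G :=
  h.le_fitting ((card_dvd_of_le hN).trans (h.cardA h1 hw))

variable (ha : ¬ 2 ∣ a)
include ha

theorem invol {t : G} (ht : orderOf t = 2) : cs⟦t⟧ ≠ b := h.notB ha (ht ▸ dvd_rfl)

theorem inverts {t y : G} (ht : orderOf t = 2) (hy : cs⟦y⟧ = b) {V : Subgroup G} (hV : V ≤ Cx⟦y⟧)
    (hn : t ∈ 𝐍(V)) {v : G} (hv : v ∈ V) : t * v * t⁻¹ = v⁻¹ :=
  inverts_of_fpf (H9.mul_self_of_orderOf_two ht) hn (fun _ hx e => by_contra fun h1 =>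
    h.invol ha ht (h.commB (h.commB hy (hV hx) h1) (mem_Cx.2 e) (H9.ne_one_of_orderOf_two ht))) hv

theorem n1 {V : Subgroup G} [V.Normal] {y : G} (hyV : y ∈ V) (hy : cs⟦y⟧ = b) (hV : V ≤ Cx⟦y⟧) :
    Group.IsSolvable G := by
  by_contra hs
  obtain ⟨t, ht⟩ := H9.exists_involution_of_even (even_of_not_solvable hs)
  have tt := H9.mul_self_of_orderOf_two ht
  have t1 := H9.ne_one_of_orderOf_two ht
  have hD : 𝐂(V) ≤ Cx⟦y⟧ := fun g hg => mem_Cx'.2 (hg y hyV)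
  have hodd : Odd (Nat.card 𝐂(V)) := Nat.not_even_iff_odd.1 fun e =>
    ha ((even_iff_two_dvd.1 e).trans (h.cardB hy ▸ card_dvd_of_le hD))
  have hm : ∀ g : G, t * (g * t * g⁻¹) ∈ 𝐂(V) := fun g v hv => by
    have e1 := h.inverts ha ht hy hV (le_normalizer_of_normal (mem_top _)) (inv_mem hv)
    have e2 := h.inverts ha ((H9.orderOf_conj g t).trans ht) hy hV
      (le_normalizer_of_normal (mem_top _)) hv
    rw [inv_inv] at e1
    calc v * (t * (g * t * g⁻¹)) = t * v⁻¹ * t⁻¹ * (t * (g * t * g⁻¹)) := by rw [e1]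
      _ = _ := by rw [← e2]; group
  have hle : ∀ u ∈ Cx⟦t⟧, u ≠ 1 → Cx⟦u⟧ ≤ Cx⟦t⟧ := fun u hu h1 g hg => by
    have e : t * (g * t * g⁻¹) ∈ Cx⟦u⟧ :=
      mul_mem (mem_Cx_comm.1 hu) (mul_mem (mul_mem hg (mem_Cx_comm.1 hu)) (inv_mem hg))
    have e1 : t * (g * t * g⁻¹) = 1 := by_contra fun e1 => h.invol ha ht (h.commB (h.commB
      (h.commB hy (hD (hm g)) e1) (mem_Cx_comm.1 e) h1) (mem_Cx_comm.1 hu) t1)
    rw [mem_Cx_iff_conj, ← mul_right_inj t, e1, tt]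
  have hA : Group.IsSolvable Cx⟦t⟧ := solvable_of_two (k := c / cs⟦t⟧) fun u => by
    rcases eq_or_ne u 1 with rfl | h1
    · exact .inl cs_one
    have h1' : (u : G) ≠ 1 := fun e => h1 (Subtype.ext e)
    have e := relIndex_mul_index (hle u u.2 h1')
    rw [← cs_subtype] at e
    rcases h.all u h1' with e1 | e1 | e1
    · refine .inl (Nat.eq_of_mul_eq_mul_right (cs_pos t) ?_)
      rw [e, one_mul, (h.maxa e1 t1 (hle u u.2 h1'))]
    · exact (h.invol ha ht (h.commB e1 (mem_Cx_comm.1 u.2) t1)).elim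
    · exact .inr (by rw [← e1, ← e, Nat.mul_div_cancel _ (cs_pos t)])
  have h3 := H1.isSolvable_sup_of_normal hA (isSolvable_of_odd hodd)
  rw [(eq_top_iff' (Cx⟦t⟧ ⊔ 𝐂(V))).2 fun g => ?_] at h3
  · exact hs (H1.isSolvable_of_mulEquiv topEquiv h3)
  obtain ⟨m, e⟩ := H9.exists_pow_conj_of_odd tt (H9.mul_self_of_orderOf_two
    ((H9.orderOf_conj g t).trans ht)) (hodd.of_dvd_nat (H1.orderOf_dvd_card_of_mem (hm g)))
  rw [← mul_inv_cancel_left ((t * (g * t * g⁻¹)) ^ m) g]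
  refine mul_mem (mem_sup_right (pow_mem (hm g) m)) (mem_sup_left (mem_Cx_iff_conj.2 ?_))
  generalize (t * (g * t * g⁻¹)) ^ m = d at e
  calc d⁻¹ * g * t * (d⁻¹ * g)⁻¹ = d⁻¹ * (g * t * g⁻¹) * d := by group
    _ = t := by rw [← e]; group

theorem n2 (hT : Cfsg.pCore 2 G ≠ ⊥) : Group.IsSolvable G := by
  by_contra hs
  set T := Cfsg.pCore 2 G
  set F := Cfsg.fittingSubgroup G
  have two : ∀ {t : G}, IsPElt 2 t → t ≠ 1 → cs⟦t⟧ ≠ b := fun ht h1 => h.notB ha (ht.dvd_orderOf h1)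
  obtain ⟨v, hv, v1⟩ := (om T).bot_or_exists_ne_one.resolve_left (om_ne_bot H1.isPGroup_pCore hT)
  have hvT := om_le T hv
  have hv2 : IsPElt 2 v := isPElt_of_mem H1.isPGroup_pCore hvT
  have hCT : 𝐂(T) ≤ F := h.le_fitting' v1 (two hv2 v1) fun g hg => mem_Cx'.2 (hg v hvT)
  have hX : ∀ {x : G}, x ∉ F → cs⟦x⟧ ≠ b → cs⟦x⟧ = c := fun {x} h1 h2 =>
    ((h.all x fun e => h1 (e ▸ one_mem _)).resolve_left fun e => h1 (hCT (le_Cx_iff.1
      (le_Cx_of_normal_of_coprime (H1.coprime_card_of_isPGroup_of_coprime H1.isPGroup_pCore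
        (e ▸ (Nat.prime_two.coprime_iff_not_dvd.2 ha).symm)))))).resolve_left h2
  have hq : ¬ Group.IsSolvable (G ⧸ F) := fun e => hs (H1.isSolvable_of_normal_of_quotient F
    inferInstance e)
  obtain ⟨t, -, htF, ht⟩ := exists_pElt_not_mem (p := 2) (Z := F) (M := ⊤)
    (by rw [relIndex_top_right]; exact even_iff_two_dvd.1 (even_of_not_solvable hq))
  have tc := hX htF (two ht fun e => htF (e ▸ one_mem _))
  obtain ⟨r, z, hr, r2, hz, hzF, zb⟩ : ∃ (r : ℕ) (z : G), r.Prime ∧ r ≠ 2 ∧ IsPElt r z ∧ z ∉ F ∧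
      cs⟦z⟧ ≠ b := by
    by_contra hc
    have hc' : ∀ {r : ℕ} {z : G}, r.Prime → r ≠ 2 → IsPElt r z → z ∉ F → cs⟦z⟧ = b :=
      fun {r z} h1 h2 h3 h4 => by_contra fun e => hc ⟨r, z, h1, h2, h3, h4, e⟩
    refine hq (solvable_of_ppow Nat.prime_two fun x hx => ⟨_, Nat.eq_prime_pow_of_unique_prime_dvd
      (cs_ne_zero x) fun {r} hr d => by_contra fun r2 => ?_⟩)
    obtain ⟨y, hy, rfl⟩ := exists_not_dvd_mk_eq 2 F hx
    have yF : y ∉ F := fun e => hr.ne_one (by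
      rwa [(QuotientGroup.eq_one_iff y).2 e, cs_one, Nat.dvd_one] at d)
    obtain ⟨q, u, hq, hq', hu, huy, huF⟩ := exists_pElt_zpowers yF
    have yb := h.commB (hc' hq (fun e => hy (e ▸ hq')) hu huF)
      (Cx_le_of_mem_zpowers huy (self_mem_Cx y)) fun e => yF (e ▸ one_mem _)
    haveI := Fact.mk hr
    obtain ⟨w, -, hw, hw'⟩ := exists_pElt_not_mem (p := r) (Z := F) (M := ⊤)
      (by rw [relIndex_top_right]; exact d.trans (cs_dvd_card _))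
    exact h.notB (fun e => hr.ne_one (Nat.eq_one_of_dvd_coprimes h.cop e
      (yb ▸ d.trans (cs_mk_dvd F y)))) (hw'.dvd_orderOf fun e => hw (e ▸ one_mem _)) (hc' hr r2 hw' hw)
  haveI := Fact.mk hr
  have zc := hX hzF zb
  have z2 := not_dvd_of_pElt Nat.prime_two hr r2 hz
  obtain ⟨w, hw, ho⟩ := H1.exists_mem_orderOf_eq_prime hr (card_eq_of_index (zc.trans tc.symm) ▸
    (hz.dvd_orderOf fun e => hzF (e ▸ one_mem _)).trans (H1.orderOf_dvd_card_of_mem (self_mem_Cx z)))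
  have w2 := not_dvd_of_pElt Nat.prime_two hr r2 (pElt_of_prime ho)
  have hwr := mem_pCore_of_mem_fitting (pElt_of_prime ho) (hCT (pxq ht w2
    (le_of_min (fun u => h.minc tc) hw (H35.coprime_orderOf ht w2))))
  have w1 := ne_one_of_prime (ho ▸ hr)
  have key : ∀ w ∈ Cfsg.pCore r G, w ≠ 1 → Cx⟦w⟧ = Cx⟦v⟧ ∧ cs⟦v⟧ = a := fun w hw w1 => by
    have hwT : T ≤ Cx⟦w⟧ := le_Cx_iff.2 (H1.pCore_le_centralizer_pCore r2 hw)
    have e := Cx_mul_of_coprime (mem_Cx_iff_commute'.1 (hwT hvT))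
      (cop_of_pElt Nat.prime_two hr r2.symm hv2 (isPElt_of_mem H1.isPGroup_pCore hw))
    have hT' : T ≤ Cx⟦v * w⟧ := e ▸ le_inf (le_Cx_iff.2 (om_le_cent T hv)) hwT
    rcases h.of_dvd (one_lt_cs_iff.2 (not_mem_center h.hZ v1)) (cs_dvd_of_le (e ▸ inf_le_left))
      with e1 | e1 | e1
    · have e2 := h.maxa e1 v1 (e ▸ inf_le_left)
      exact ⟨(h.maxa e1 w1 (e ▸ inf_le_right)).symm.trans e2, e2 ▸ e1⟩
    · exact (two hv2 v1 (h.commB e1 (hT' hvT) v1)).elim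
    obtain ⟨S, hS⟩ := H69.exists_isSylowIn 2 Cx⟦z⟧
    have hST : S ≤ T := fun u hu => by
      have u2 := isPElt_of_mem hS.2 hu
      refine mem_pCore_of_mem_fitting u2 (by_contra fun uF => hzF (hCT (pxq u2 z2 ?_)))
      exact h.minc (hX uF (two u2 fun e => uF (e ▸ one_mem _))) (le_of_min (fun u => h.minc zc)
        (hS.le hu) (H35.coprime_orderOf u2 z2).symm)
    refine (hzF (hCT (le_Cx_iff.1 ((eq_of_le_of_card_ge hST (Nat.le_of_dvd Nat.card_pos ?_)).ge.trans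
      hS.le)))).elim
    have d := card_dvd_of_le hT'
    rw [card_eq_of_index (e1.trans zc.symm), ← H1.card_mul_relIndex_of_le hS.le] at d
    exact (H1.coprime_card_of_isPGroup_of_coprime H1.isPGroup_pCore (Nat.prime_two.coprime_iff_not_dvd.2
      hS.not_dvd_relIndex).symm).dvd_of_dvd_mul_right d
  haveI : (Cx⟦v⟧).Normal := H1.normal_of_forall_conj_smul_le fun g => by
    rw [← (key w hwr w1).1, ← Cx_conj, (key w hwr w1).1,
      (key _ (Normal.conj_mem inferInstance w hwr g) (by simpa using w1)).1]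
  have hle := h.le_fitting' v1 (two hv2 v1) le_rfl
  exact htF (ht.mem_of_index fun e => ha (e.trans ((key w hwr w1).2 ▸ index_dvd_of_le hle)))

theorem n3 (hO : Cfsg.pCore 2 G = ⊥) (hn : ∀ t : G, orderOf t = 2 → cs⟦t⟧ ≠ a) :
    Group.IsSolvable G := by
  by_contra hs
  have he := even_of_not_solvable hs
  have tc : ∀ {t : G}, orderOf t = 2 → cs⟦t⟧ = c := fun {t} ht =>
    ((h.all t (H9.ne_one_of_orderOf_two ht)).resolve_left (hn t ht)).resolve_left (h.invol ha ht)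
  have c2 : ¬ 2 ∣ c := by
    obtain ⟨t, ht, e⟩ := exists_cs_not_dvd Nat.prime_two (even_iff_two_dvd.1 he)
    exact tc ht ▸ e
  have ev : ∀ {x : G}, x ≠ 1 → cs⟦x⟧ ≠ b → Even (Nat.card Cx⟦x⟧) := fun {x} h1 h2 => by
    rw [← card_Cx_mul_cs x, Nat.even_mul] at he
    refine he.resolve_right fun e => ?_
    rcases h.all x h1 with e1 | e1 | e1
    exacts [ha (e1 ▸ even_iff_two_dvd.1 e), h2 e1, c2 (e1 ▸ even_iff_two_dvd.1 e)]
  have inv : ∀ {t d : G}, t * t = 1 → ¬ 2 ∣ orderOf d → t * d * t⁻¹ = d⁻¹ → d ≠ 1 → cs⟦d⟧ = b := by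
    intro t d ht hd e d1
    by_contra hb
    obtain ⟨s, hs, ho, e1⟩ := exists_invol_comm (ev d1 hb) ht (H1.mem_normalizer_iff_conj_smul_eq.2
      (by rw [← Cx_conj, e, Cx_inv]))
    have e2 := le_of_min (fun u => h.minc (tc ho)) (mem_Cx_comm.1 hs)
      (H35.coprime_orderOf (pElt_of_prime ho) hd) (mem_Cx'.2 e1)
    rw [mem_Cx_iff_conj.1 e2, eq_inv_iff_mul_eq_one, ← sq, ← orderOf_dvd_iff_pow_eq_one,
      Nat.dvd_prime Nat.prime_two, orderOf_eq_one_iff] at e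
    exact e.elim d1 fun e => hd (e ▸ dvd_rfl)
  obtain ⟨x, hx⟩ := h.exa
  have x1 := ne_one_of_cs h.a1 hx
  have xb : cs⟦x⟧ ≠ b := fun e => h.not_ab (hx ▸ e ▸ dvd_rfl)
  have nb : ∀ {d : G}, d ∈ Cx⟦x⟧ → cs⟦d⟧ ≠ b := fun hd e => xb (h.commB e (mem_Cx_comm.1 hd) x1)
  have se : ∀ {t g : G}, orderOf t = 2 → t ∈ Cx⟦x⟧ → g⁻¹ * t * g ∈ Cx⟦x⟧ → g ∈ Cx⟦x⟧ := by
    intro t g ht h1 h2
    obtain ⟨y, hy, y1, e⟩ := exists_inverted hO ht
    have yb := inv (H9.mul_self_of_orderOf_two ht) (Odd.not_two_dvd_nat hy) e y1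
    obtain ⟨k, hk, u, hu, rfl⟩ := exists_mul_of_coprime_index
      (H := Cx⟦y⟧) (K := Cx⟦x⟧) (hx ▸ yb ▸ h.cop.symm) g
    have e1 := h.inverts ha ht yb le_rfl (H1.mem_normalizer_iff_conj_smul_eq.2
      (by rw [← Cx_conj, e, Cx_inv])) hk
    have e2 : k⁻¹ * k⁻¹ ∈ Cx⟦x⟧ := by
      have := mul_mem (mul_mem (mul_mem hu h2) (inv_mem hu)) (inv_mem h1)
      rwa [show u * ((k * u)⁻¹ * t * (k * u)) * u⁻¹ * t⁻¹ = k⁻¹ * (t * k * t⁻¹) by group, e1] at this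
    have e3 : k⁻¹ * k⁻¹ = 1 := by_contra fun e3 =>
      nb e2 (h.commB yb (mul_mem (inv_mem hk) (inv_mem hk)) e3)
    have e4 : k = 1 := by_contra fun e4 => h.invol ha (H9.orderOf_eq_two_of_mul_self
      (inv_ne_one.2 e4) e3) (h.commB yb (inv_mem hk) (inv_ne_one.2 e4))
    rwa [e4, one_mul]
  have cl : ∀ {t : G}, orderOf t = 2 → t ∈ Cx⟦x⟧ → Cx⟦t⟧ ≤ Cx⟦x⟧ := fun ht h1 g hg =>
    se ht h1 (by rwa [mem_Cx_iff_conj'.1 hg])
  obtain ⟨t, htx, ht⟩ := (H9.even_card_iff_exists_involution _).1 (ev x1 xb)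
  have tt := H9.mul_self_of_orderOf_two ht
  obtain ⟨g, hg⟩ : ∃ g, g ∉ Cx⟦x⟧ := by
    by_contra hc
    exact not_mem_center h.hZ x1 (Cx_eq_top_iff.1 ((eq_top_iff' _).2 fun g =>
      by_contra fun e => hc ⟨g, e⟩))
  obtain ⟨w, hw, hwx⟩ : ∃ w : G, orderOf w = 2 ∧ w ∉ Cx⟦x⟧ :=
    ⟨g⁻¹ * t * g, (H9.orderOf_conj' g t).trans ht, fun e => hg (se ht htx e)⟩
  have ww := H9.mul_self_of_orderOf_two hw
  have wi := H9.inv_eq_of_orderOf_two hw
  have uniq : ∀ s ∈ Cx⟦x⟧, orderOf s = 2 → s = t := fun s hs ho => by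
    have ss := H9.mul_self_of_orderOf_two ho
    have uu := H9.mul_self_of_orderOf_two ((H9.orderOf_conj w t).trans ht)
    have odd : Odd (orderOf (s * (w * t * w⁻¹))) := Nat.not_even_iff_odd.1 fun e => by
      obtain ⟨e1, e2⟩ := H9.pow_half_commute ss uu e
      have e3 := H9.orderOf_pow_half e
      refine hwx (se e3 (cl ho hs (mem_Cx_iff_commute'.2 e1)) (cl ht htx ?_))
      rw [← conj_mem_Cx_conj (g := w)]
      simpa [mul_assoc] using mem_Cx_iff_commute'.2 e2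
    obtain ⟨m, hm⟩ := H9.exists_pow_conj_of_odd ss uu odd
    have ii := H9.zpow_mul_left_mul_self ss uu m
    rw [zpow_natCast] at ii
    generalize (s * (w * t * w⁻¹)) ^ m = k at hm ii
    have e1 : (w * (k * s))⁻¹ * t * (w * (k * s)) = s := by
      have : t = w⁻¹ * (k * s * k⁻¹) * w := by rw [hm]; group
      rw [this, wi]
      calc _ = s⁻¹ * k⁻¹ * (w⁻¹ * w) * (k * s * k⁻¹) * (w * w) * (k * s) := by group
        _ = s := by rw [ww]; group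
    have e2 := se ht htx (e1.symm ▸ hs)
    have e3 := H9.left_inverts ww ii
    have e4 : w * (k * s) = 1 := by_contra fun e4 => nb e2 (inv ww (fun e => ?_) e3 e4)
    · rw [← e1, e4]; simp
    have e5 := even_iff_two_dvd.2 e
    exact hwx (cl (H9.orderOf_pow_half e5) (pow_mem e2 _)
      (mem_Cx_iff_commute.2 (H9.pow_half_commute ww ii e5).1))
  refine hn t ht (h.maxa hx (H9.ne_one_of_orderOf_two ht) (fun g hg => mem_Cx_iff_conj.2 (uniq _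
    (mul_mem (mul_mem hg htx) (inv_mem hg)) ((H9.orderOf_conj g t).trans ht))) ▸ hx)

theorem n4 (hO : Cfsg.pCore 2 G = ⊥) {t : G} (ht : orderOf t = 2) (hta : cs⟦t⟧ = a) :
    Group.IsSolvable G := by
  by_contra hs
  have t1 := H9.ne_one_of_orderOf_two ht
  have hR : Rad1 G := rad1_of fun N _ hN => by
    by_contra hne
    obtain ⟨w, hw, w1⟩ := N.bot_or_exists_ne_one.resolve_left hne
    have hle : N ≤ Cx⟦w⟧ := fun g hg =>
      mem_Cx.2 (congrArg Subtype.val (hN.is_comm.comm (⟨g, hg⟩ : N) ⟨w, hw⟩))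
    have wb : cs⟦w⟧ ≠ b := fun e => hs (h.n1 ha hw e hle)
    exact t1 (mem_bot.1 (hO ▸ mem_pCore_of_mem_fitting (pElt_of_prime ht) (h.le_fitting' (N := 𝐂(N)) w1 wb
      (fun g hg => mem_Cx'.2 (hg w hw)) (le_Cx_iff.1 (le_Cx_of_normal_of_coprime (hta ▸
        h.cop.symm.coprime_dvd_left ((card_dvd_of_le hle).trans (h.cardA w1 wb))))))))
  obtain ⟨q, hq, hqa⟩ := Nat.exists_prime_and_dvd h.a1.ne'
  haveI := Fact.mk hq
  obtain ⟨y₀, hy₀⟩ := h.exb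
  obtain ⟨y, ho, e⟩ := h.repb hq hqa hy₀
  have hy : cs⟦y⟧ = b := e ▸ hy₀
  rcases pgroup_or_comm ho (fun u => h.minb h.not_bc hy) fun u hu e => (h.maxb hy hu e).ge with hB | hB
  · obtain ⟨j, hj⟩ := hB.exists_card_eq
    exact t1 (mem_bot.1 (hR (Cfsg.solvableRadical G) inferInstance inferInstance ▸
      kazarin hq (hta.trans ((h.cardB hy).symm.trans hj))))
  haveI := Fintype.ofFinite G
  have S : SCA Cx⟦y⟧ := ⟨fun u hu v hv => (mem_Cx.1 (hB u hu hv)).symm,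
    fun u hu u1 g hg => (h.maxb hy u1 (hB u hu)).ge (mem_Cx.2 hg)⟩
  have hx : ∀ u v : G, ∀ k ∈ Cx⟦y⟧, ∀ l ∈ Cx⟦y⟧, t ≠ u * k * u⁻¹ * (v * l * v⁻¹) := by
    intro u v k hk l hl e
    have cb : ∀ g : G, ∀ k ∈ Cx⟦y⟧, cs⟦g * k * g⁻¹⟧ = 1 ∨ cs⟦g * k * g⁻¹⟧ = b := fun g k hk => by
      rw [cs_conj]
      exact (eq_or_ne k 1).imp (fun e => by rw [e, cs_one]) (h.commB hy hk)
    rcases eq_or_ne k 1 with rfl | k1
    · rw [mul_one, mul_inv_cancel, one_mul] at e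
      exact (e ▸ cb v l hl).elim (fun e => h.a1.ne' (hta.symm.trans e)) (h.invol ha ht)
    have e1 := (cs_conj u _).trans (h.commB hy (inv_mem hk) (inv_ne_one.2 k1))
    obtain ⟨N, _, h1, h2⟩ := H78.QBaer.exists_normal_of_coprime (x := u * k⁻¹ * u⁻¹) (y := t)
      (e1 ▸ hta ▸ h.cop.symm) (by
        rw [e, show u * k⁻¹ * u⁻¹ * (u * k * u⁻¹ * (v * l * v⁻¹)) = v * l * v⁻¹ by group, e1]
        exact (cb v l hl).elim (fun e => e ▸ h.b1.le) le_of_eq)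
    have h3 := (h.le_fitting (e1 ▸ h1)).trans (hR _ inferInstance inferInstance).le
    exact not_mem_center h.hZ t1 (mem_center_iff.2 fun g => by
      have := mem_bot.1 (h3 (h2 g))
      rwa [mul_inv_eq_one, mul_inv_eq_iff_eq_mul] at this)
  have hreg : ∀ g : G, ∃ k ∈ Cx⟦y⟧, g * t * g⁻¹ = k * t * k⁻¹ := fun g => by
    obtain ⟨k, hk, u, hu, rfl⟩ := exists_mul_of_coprime_index
      (H := Cx⟦y⟧) (K := Cx⟦t⟧) (hta ▸ hy ▸ h.cop.symm) g
    exact ⟨k, hk, by conv_rhs => rw [← mem_Cx_iff_conj.1 hu]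
                     group⟩
  refine t1 (hR.eq_one ((S.fix hx hreg (hta.trans (h.cardB hy).symm)).resolve_left fun e => ?_))
  obtain ⟨P, h1, h2⟩ := exists_sylow_ge_le_of_not_dvd_index (hta ▸ ha)
    (isPElt_iff_zpowers.1 (pElt_of_prime ht)) (zpowers_le_Cx t)
  obtain ⟨N, _, h3, h4⟩ := Cfsg.Agent.S0215.result P t ht (h1 (mem_zpowers t))
    fun g hg => e g (mem_Cx'.1 (h2 hg))
  rw [hR N inferInstance (isSolvable_of_odd h3)] at h4
  exact not_mem_center h.hZ t1 (mem_center_iff.2 fun g => by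
    have := mem_bot.1 (h4 g)
    rw [mul_inv_eq_one, mul_inv_eq_iff_eq_mul] at this
    exact this.symm)

end T4

theorem ac_of_three (hZ : center G = ⊥) (h : Nat.card {n : ℕ | 1 < n ∧ ∃ x : G, cs⟦x⟧ = n} ≤ 3)
    (hs : ¬ Group.IsSolvable G) : AC G := by
  by_cases hF : ∀ u v : G, v ≠ 1 → Cx⟦u⟧ ≤ Cx⟦v⟧ → Cx⟦v⟧ ≤ Cx⟦u⟧
  · exact ac_of fun _ u v _ _ _ => hF u v
  push Not at hF
  obtain ⟨u, v, hv, h1, h2⟩ := hF
  obtain ⟨b, h3⟩ := exists_T3 hZ h hv h1 h2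
  have h4 : T4 G _ b _ := ⟨h3, (h3.card_or fun x y hx hy e =>
    hs (h3.solv_of_comm hx hy e)).resolve_left hs⟩
  refine h4.ac_of_even (by_contra fun ha => hs ?_)
  by_cases hO : Cfsg.pCore 2 G = ⊥
  · by_cases ht : ∃ t : G, orderOf t = 2 ∧ cs⟦t⟧ = cs⟦v⟧
    · obtain ⟨t, ht, e⟩ := ht
      exact h4.n4 ha hO ht e
    · exact h4.n3 ha hO fun t e1 e2 => ht ⟨t, e1, e2⟩
  · exact h4.n2 ha hO

end H32
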