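import Mathlib
import Cfsg.Agent.Base
import Cfsg.Agent.Lib.CIT.Cls3
import Cfsg.Agent.Lib.CIT.EPPO

/-! Groups of conjugate type rank three. -/

set_option autoImplicit false
set_option linter.unusedSectionVars false
set_option linter.style.haveILetI false

namespace H32

open Subgroup H69 H80 H35 Matrix
open scoped MatrixGroups Pointwise

variable {G : Type*} [Group G] [Finite G]

/-- The set of class sizes of non-central elements. -/
def sizes (G : Type*) [Group G] : Set ℕ := {n : ℕ | 1 < n ∧ ∃ x : G, cs⟦x⟧ = n}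

theorem sizes_eq : {m : ℕ | ∃ x : G, x ∉ center G ∧ m = cs⟦x⟧} = sizes G :=
  Set.ext fun _ => ⟨fun ⟨x, h, e⟩ => ⟨e ▸ one_lt_cs_iff.2 h, x, e.symm⟩,
    fun ⟨h, x, e⟩ => ⟨x, one_lt_cs_iff.1 (e ▸ h), e.symm⟩⟩

theorem sizes_equiv {H : Type*} [Group H] (e : G ≃* H) : sizes G = sizes H :=
  Set.ext fun _ => and_congr_right fun _ => ⟨fun ⟨x, h⟩ => ⟨e x, (cs_equiv e x).trans h⟩,
    fun ⟨x, h⟩ => ⟨e.symm x, (cs_equiv e.symm x).trans h⟩⟩

theorem index_eq_of_card {H K : Subgroup G} (e : Nat.card H = Nat.card K) : H.index = K.index :=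
  Nat.eq_of_mul_eq_mul_left Nat.card_pos (by rw [card_mul_index, e, card_mul_index])

open H64.SL2 in
theorem ncard_sizes_sl2 {F : Type*} [Field F] [Fintype F] {m : ℕ} (hm : 2 ≤ m)
    (hF : Fintype.card F = 2 ^ m) : (sizes SL(2, F)).ncard = 3 := by
  have h2 := two_eq_zero_of_card hF
  have h4 : (4 : F) = 0 := by rw [show (4 : F) = 2 * 2 by norm_num, h2, mul_zero]
  have hq : 4 ≤ Nat.card F := by
    rw [Nat.card_eq_fintype_card, hF]
    exact Nat.pow_le_pow_right (by norm_num : 0 < 2) hm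
  have ev : 2 ∣ Nat.card F := by
    rw [Nat.card_eq_fintype_card, hF]
    exact dvd_pow_self 2 (by omega)
  obtain ⟨y, hy⟩ := exists_not_split (F := F)
  obtain ⟨a, ha⟩ : ∃ a : Fˣ, a ≠ 1 := by
    haveI : Nontrivial Fˣ := Finite.one_lt_card_iff_nontrivial.1 (by rw [Nat.card_units]; omega)
    exact exists_ne 1
  have hx : tr (diagHom a) ^ 2 ≠ 4 := tr_sq_ne_four_of_diag (by simp [diagHom_apply, mk_10])
    (by
      rw [diagHom_apply, mk_00, Ne, _root_.sq_eq_one_iff]
      exact fun e => ha (Units.ext (e.elim id fun e => e.trans (by rw [Units.val_one]; linear_combination -h2))))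
  have cx := card_centralizer_of_split hx (split_of_10_eq_zero (by simp [diagHom_apply, mk_10]))
  have cy := card_centralizer_of_not_split hy
  have z1 : comp (0 : F) ∉ center SL(2, F) := fun e => by
    simpa [H64.SL2.comp, mk_01] using (mem_center_iff_entries.1 e).1
  have cz : 2 ∣ Nat.card Cx⟦comp (0 : F)⟧ := by
    haveI : CharP F 2 := CharTwo.of_one_ne_zero_of_two_eq_zero one_ne_zero h2
    exact (dvd_of_eq (orderOf_eq_prime (pow_char_eq_one_of_tr_eq_two 2 ((tr_comp 0).trans h2.symm))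
      fun e => z1 (e ▸ one_mem _)).symm).trans (H1.orderOf_dvd_card_of_mem (self_mem_Cx _))
  refine Set.ncard_eq_three.2 ⟨cs⟦comp (0 : F)⟧, cs⟦diagHom a⟧, cs⟦y⟧, fun e => ?_, fun e => ?_,
    fun e => ?_, ?_⟩
  · have := card_eq_of_index e
    omega
  · have := card_eq_of_index e
    omega
  · have := card_eq_of_index e
    omega
  rw [← sizes_eq]
  refine Set.ext fun n => ⟨?_, ?_⟩
  · rintro ⟨g, hg, rfl⟩
    by_cases e : tr g ^ 2 = 4
    · rw [h4, pow_eq_zero_iff two_ne_zero] at e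
      exact .inl (cs_eq_of_isConj (e ▸ isConj_comp_of_two_eq_zero h2 hg)).symm
    by_cases s : Split g
    · exact .inr (.inl (index_eq_of_card ((card_centralizer_of_split e s).trans cx.symm)))
    · exact .inr (.inr (index_eq_of_card ((card_centralizer_of_not_split s).trans cy.symm)))
  · rintro (rfl | rfl | rfl)
    exacts [⟨_, z1, rfl⟩, ⟨_, not_mem_center_of_tr hx, rfl⟩,
      ⟨_, not_mem_center_of_tr (tr_sq_ne_four_of_not_split hy), rfl⟩]

theorem psl2_of_three (hZ : center G = ⊥) (h : (sizes G).ncard ≤ 3) (hs : ¬ Group.IsSolvable G) :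
    ∃ (F : Type) (_ : Field F) (_ : Fintype F) (n : ℕ), 2 ≤ n ∧ Fintype.card F = 2 ^ n ∧
      Nonempty (G ≃* PSL(2, F)) :=
  (ac_of_three hZ h hs).psl2' hZ hs

theorem not_solvable_of_simple' [IsSimpleGroup G] (h : ¬ IsMulCommutative G) : ¬ Group.IsSolvable G :=
  fun e => h ⟨⟨IsSimpleGroup.comm_iff_isSolvable.2 e⟩⟩

theorem center_eq_bot_of_simple [IsSimpleGroup G] (h : ¬ IsMulCommutative G) : center G = ⊥ :=
  (IsSimpleGroup.eq_bot_or_eq_top_of_normal _ inferInstance).resolve_right fun e =>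
    h ⟨⟨fun a b => mem_center_iff.1 (e ▸ mem_top b) a⟩⟩

theorem not_comm_of_sizes {n : ℕ} (h : (sizes G).ncard = n + 1) : ¬ IsMulCommutative G := fun e => by
  obtain ⟨_, h1, x, rfl⟩ := Set.nonempty_of_ncard_ne_zero (s := sizes G) (by omega)
  exact one_lt_cs_iff.1 h1 (mem_center_iff.2 fun g => e.is_comm.comm g x)

end H32
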