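import Mathlib
import Cfsg.Agent.Base
import Cfsg.Agent.Lib.CIT.PG

/-! Large CIT-groups with a given prime graph. -/

set_option autoImplicit false
set_option linter.unusedSectionVars false
set_option linter.style.haveILetI false

namespace H32

open Subgroup H69 Matrix
open scoped MatrixGroups

variable {G : Type*} [Group G] [Finite G] {F : Type*} [Field F] [Fintype F] {d : ℕ}

/-- The action on `n` copies of a module. -/
noncomputable def actN (ρ : G →* Matrix (Fin d) (Fin d) F) (n : ℕ) :
    G →* MulAut (Multiplicative (Matrix (Fin d) (Fin n) F)) where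
  toFun g :=
    { toFun := fun x => Multiplicative.ofAdd (ρ g * x.toAdd)
      invFun := fun x => Multiplicative.ofAdd (ρ g⁻¹ * x.toAdd)
      left_inv := fun x => by
        simp only [toAdd_ofAdd]
        rw [← Matrix.mul_assoc, ← map_mul, inv_mul_cancel, map_one, Matrix.one_mul, ofAdd_toAdd]
      right_inv := fun x => by
        simp only [toAdd_ofAdd]
        rw [← Matrix.mul_assoc, ← map_mul, mul_inv_cancel, map_one, Matrix.one_mul, ofAdd_toAdd]
      map_mul' := fun x y => by simp [Matrix.mul_add] }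
  map_one' := by ext x; simp
  map_mul' g h := by ext x; simp [Matrix.mul_assoc]

theorem exists_large (hG : CIT G) (h2 : 2 ∣ Nat.card G) {k : ℕ} (hF : Fintype.card F = 2 ^ k)
    (ρ : G →* Matrix (Fin (d + 1)) (Fin (d + 1)) F)
    (hρ : ∀ g : G, Odd (orderOf g) → g ≠ 1 → ∀ v, ρ g *ᵥ v = v → v = 0) (N : ℕ) :
    ∃ (H : Type) (_ : Group H) (_ : Finite H), N < Nat.card H ∧ PG G H := by
  let H₀ := Multiplicative (Matrix (Fin (d + 1)) (Fin N) F) ⋊[actN ρ N] G
  have hc : Nat.card H₀ = Fintype.card F ^ ((d + 1) * N) * Nat.card G := by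
    rw [Nat.card_congr SemidirectProduct.equivProd, Nat.card_prod,
      Nat.card_congr Multiplicative.toAdd, Nat.card_eq_fintype_card]
    congr 1
    show Fintype.card (Fin (d + 1) → Fin N → F) = _
    simp [← pow_mul, mul_comm]
  haveI : Finite H₀ := Finite.of_equiv _ SemidirectProduct.equivProd.symm
  have two := two_eq_zero_of_card hF
  have hk : IsPGroup 2 (SemidirectProduct.rightHom : H₀ →* G).ker := isPGroup_of_sq fun y hy => by
    obtain ⟨x, rfl⟩ : y ∈ (SemidirectProduct.inl : _ →* H₀).range := by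
      rwa [SemidirectProduct.range_inl_eq_ker_rightHom]
    rw [← map_mul, show x * x = 1 from ?_, map_one]
    apply Multiplicative.toAdd.injective
    ext i j
    show x.toAdd i j + x.toAdd i j = 0
    rw [← two_mul, two, zero_mul]
  have ho : ∀ y : H₀, Odd (orderOf y) → orderOf y.right = orderOf y := fun y hy => by
    refine Nat.dvd_antisymm (orderOf_map_dvd SemidirectProduct.rightHom y) ?_
    obtain ⟨j, hj⟩ := pow_of_mem_pgroup hk (x := y ^ orderOf y.right)
      (by rw [MonoidHom.mem_ker, map_pow]; exact pow_orderOf_eq_one _)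
    rw [← pow_mul] at hj
    exact ((Nat.coprime_two_right.2 hy).pow_right j).dvd_of_dvd_mul_right (orderOf_dvd_of_pow_eq_one hj)
  have hH : CIT H₀ := cit_of fun t x ht hx e => by
    by_contra h1
    have h3 := ho x hx
    have h4 : x.right ≠ 1 := fun e => h1 (orderOf_eq_one_iff.1 (by rw [← h3, e, orderOf_one]))
    have h5 : t.right = 1 := hG.two_eq_one (k := 1) (by
      rw [pow_one, pow_two]; exact congrArg SemidirectProduct.right (H9.mul_self_of_orderOf_two ht)) (h3 ▸ hx) h4
      (congrArg SemidirectProduct.right e)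
    have h6 := congrArg SemidirectProduct.left e
    rw [SemidirectProduct.mul_left, SemidirectProduct.mul_left, h5, map_one, MulAut.one_apply,
      mul_comm, mul_right_inj] at h6
    refine H9.ne_one_of_orderOf_two ht (SemidirectProduct.ext ?_ h5)
    apply Multiplicative.toAdd.injective
    ext i j
    exact congrFun (hρ _ (h3 ▸ hx) h4 (fun i => t.left.toAdd i j) (funext fun i =>
      (congrFun (congrFun (congrArg Multiplicative.toAdd h6) i) j).symm)) i
  let e : Shrink.{0} H₀ ≃* H₀ := Shrink.mulEquiv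
  haveI : Finite (Shrink.{0} H₀) := Finite.of_equiv _ e.toEquiv.symm
  refine ⟨Shrink.{0} H₀, inferInstance, this, ?_, fun r hr => ?_, fun r s hr hs hrs => ⟨?_, ?_⟩⟩
  · rw [Nat.card_congr e.toEquiv, hc]
    calc N ≤ (d + 1) * N := Nat.le_mul_of_pos_left _ d.succ_pos
      _ < Fintype.card F ^ ((d + 1) * N) := Nat.lt_pow_self Fintype.one_lt_card
      _ ≤ _ := Nat.le_mul_of_pos_right _ Nat.card_pos
  · rw [Nat.card_congr e.toEquiv, hc, hr.dvd_mul, hF, ← pow_mul, or_iff_right_of_imp]
    exact fun h => (Nat.prime_dvd_prime_iff_eq hr Nat.prime_two).1 (hr.dvd_of_dvd_pow h) ▸ h2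
  · rintro ⟨x, hx⟩
    exact exists_order_of_equiv e ⟨SemidirectProduct.inr x, by
      rw [orderOf_injective _ SemidirectProduct.inr_injective, hx]⟩
  · intro h
    obtain ⟨y, hy⟩ := exists_order_of_equiv e.symm h
    by_cases h1 : r = 2
    · subst h1; exact absurd ⟨y, hy⟩ (hH.not_order hs hrs)
    by_cases h2 : s = 2
    · subst h2; exact absurd ⟨y, by rw [hy, mul_comm]⟩ (hH.not_order hr hrs.symm)
    exact ⟨y.right, by rw [ho y (hy ▸ (hr.odd_of_ne_two h1).mul (hs.odd_of_ne_two h2)), hy]⟩

theorem sl2_fpf (two : (2 : F) = 0) {g : SL(2, F)} (hg : Odd (orderOf g)) (h1 : g ≠ 1)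
    {v : Fin 2 → F} (hv : (g : Matrix (Fin 2) (Fin 2) F) *ᵥ v = v) : v = 0 := by
  haveI : CharP F 2 := (CharP.charP_iff_prime_eq_zero Nat.prime_two).2 two
  have ht : H64.SL2.tr g ≠ 2 := fun e =>
    h1 (eq_one_of_odd_of_pow hg (k := 1) (H64.SL2.pow_char_eq_one_of_tr_eq_two 2 e))
  have h0 := congrFun hv 0
  have h2 := congrFun hv 1
  have h3 := H64.SL2.det_eq g
  simp only [mulVec, dotProduct, Fin.sum_univ_two] at h0 h2
  have h4 : H64.SL2.tr g - 2 ≠ 0 := sub_ne_zero.2 ht
  unfold H64.SL2.tr at h4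
  ext i
  fin_cases i
  · exact (mul_eq_zero.1 (show (g 0 0 + g 1 1 - 2) * v 0 = 0 by
      linear_combination (1 - g 1 1) * h0 + g 0 1 * h2 + v 0 * h3)).resolve_left h4
  · exact (mul_eq_zero.1 (show (g 0 0 + g 1 1 - 2) * v 1 = 0 by
      linear_combination g 1 0 * h0 + (1 - g 0 0) * h2 + v 1 * h3)).resolve_left h4

theorem exists_large_psl2 {k : ℕ} (hF : Fintype.card F = 2 ^ k) (N : ℕ) :
    ∃ (H : Type) (_ : Group H) (_ : Finite H), N < Nat.card H ∧ PG PSL(2, F) H := by
  have two := two_eq_zero_of_card hF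
  have k0 : k ≠ 0 := by rintro rfl; exact absurd (hF ▸ Fintype.one_lt_card) (lt_irrefl 1)
  refine exists_large (cit_psl2_even k0 hF) (card_psl2_even hF ▸
    ((dvd_pow_self 2 k0).mul_right _).mul_right _) hF
    (Matrix.SpecialLinearGroup.coeMonoidHom.comp (H64.SL2.projEquiv two).symm.toMonoidHom)
    (fun g h1 h2 v hv => sl2_fpf two (g := (H64.SL2.projEquiv two).symm g)
      (by rwa [MulEquiv.orderOf_eq]) (by simpa using h2) hv) N

end H32
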