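import Mathlib
import Cfsg.Agent.Base
import Cfsg.Agent.Lib.Push.SL2Mod
import Cfsg.Agent.Lib.GL.Simple

/-! Modules for `SL₂(2ⁿ)` on which the elements of order three act without fixed points. -/

set_option autoImplicit false
set_option linter.unusedSectionVars false
set_option linter.style.haveILetI false

namespace H32

open Subgroup H69 H68.Push H59.MP Matrix H64.SL2 H68S
open H24 (upT loT upT_add loT_add upT_zero loT_zero upT_00 upT_01 upT_10 upT_11 loT_00 loT_01
  loT_10 loT_11 eq_top_of_upT_loT)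
open scoped MatrixGroups commutatorElement

variable {F : Type*} [Field F] {V : Type*} [AddCommGroup V] [DistribMulAction SL(2, F) V]

/-- Elements of trace one are killed by `1 + X + X²`. -/
def Cub (F : Type*) [Field F] (V : Type*) [AddCommGroup V] [DistribMulAction SL(2, F) V] : Prop :=
  ∀ s : SL(2, F), tr s = 1 → ∀ v : V, v + s • v + s • s • v = 0

variable [CharP F 2]

theorem Cub.tri (h : Cub F V) {a b c : SL(2, F)} (e : ∀ i j, c i j = a i j + b i j) (v : V) :
    a • v + b • v + c • v = 0 := by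
  have h2 : (2 : F) = 0 := CharTwo.two_eq_zero
  have ha := det_eq a
  have hb := det_eq b
  have hc := det_eq c
  simp only [e] at hc
  have ht : tr (a * b⁻¹) = 1 := by
    simp only [ent]
    linear_combination hc - ha - hb - h2
  have := h _ ht (b • v)
  have e2 : a * b⁻¹ * a = c := by
    simp only [ent] at ht ⊢
    simp only [e]
    refine ⟨?_, ?_, ?_, ?_⟩
    · linear_combination (a 0 0) * ht - b 0 0 * ha - b 0 0 * h2
    · linear_combination (a 0 1) * ht - b 0 1 * ha - b 0 1 * h2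
    · linear_combination (a 1 0) * ht - b 1 0 * ha - b 1 0 * h2
    · linear_combination (a 1 1) * ht - b 1 1 * ha - b 1 1 * h2
  rw [← mul_smul, inv_mul_cancel_right, ← mul_smul, e2] at this
  rw [← this]; abel

theorem Cub.key (h : Cub F V) {l μ : F} (hl : l ≠ 0) (hl1 : l ≠ 1) (hμ : μ ≠ 0) (t : F) (v : V) :
    v + upT (l * μ) • v = hT l hl • upT t • (v + upT μ • v) := by
  have h2 : (2 : F) = 0 := CharTwo.two_eq_zero
  have hδ : l + l⁻¹ ≠ 0 := fun e => hl1 (by
    have : (l - 1) ^ 2 = 0 := by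
      have : l * l⁻¹ = 1 := mul_inv_cancel₀ hl
      linear_combination l * e - this - l * h2
    exact sub_eq_zero.1 (pow_eq_zero_iff two_ne_zero |>.1 this))
  obtain ⟨z, hz⟩ : ∃ z, l * μ * z = l + l⁻¹ := ⟨(l + l⁻¹) / (l * μ), by field_simp⟩
  have hz0 : z ≠ 0 := fun e => hδ (by rw [← hz, e, mul_zero])
  obtain ⟨x, hx⟩ : ∃ x, x * (l + l⁻¹) = l⁻¹ + 1 + l * t * z :=
    ⟨_, div_mul_cancel₀ _ hδ⟩
  obtain ⟨y, hy⟩ : ∃ y, y * z = 1 + x * (1 + x) := ⟨(1 + x * (1 + x)) / z, by field_simp⟩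
  have hi : l * l⁻¹ = 1 := mul_inv_cancel₀ hl
  let a : SL(2, F) := mk x y z (1 + x) (by linear_combination -hy - h2)
  let a1 : SL(2, F) := mk (1 + x) y z (1 + (1 + x)) (by linear_combination -hy + x * h2)
  let a2 : SL(2, F) := mk (l + x) (l * t + l * μ + y) z (l⁻¹ + (1 + x)) (by
    linear_combination -hy + hx - hz + hi)
  let a3 : SL(2, F) := mk (l + (1 + x)) (l * t + y) z (l⁻¹ + (1 + (1 + x))) (by
    linear_combination -hy + hx + hi + (l + l⁻¹ + 1 + x) * h2)
  have e1 := h.tri (a := 1) (b := a) (c := a1) (fun i j => by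
    fin_cases i <;> fin_cases j <;> simp [a, a1, ent]) v
  have e2 := h.tri (a := hT l hl * upT t * upT μ) (b := a) (c := a2) (fun i j => by
    fin_cases i <;> fin_cases j <;> simp [a, a2, ent, hT, upT]
    ring) v
  have e3 := h.tri (a := hT l hl * upT t) (b := a1) (c := a3) (fun i j => by
    fin_cases i <;> fin_cases j <;> simp [a1, a3, ent, hT, upT]) v
  have e4 := h.tri (a := upT (l * μ)) (b := a2) (c := a3) (fun i j => by
    fin_cases i <;> fin_cases j <;> simp [a2, a3, ent, upT]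
    · ring
    · linear_combination -(l * μ) * h2
    · ring) v
  rw [one_smul] at e1
  simp only [mul_smul, smul_add] at e2 e3 ⊢
  linear_combination (norm := abel) e1 + e4 - e2 - e3

theorem Cub.fix (h : Cub F V) {l : F} (hl : l ≠ 0) (hl1 : l ≠ 1) {μ : F} (hμ : μ ≠ 0) (t : F)
    (v : V) : upT t • (v + upT μ • v) = v + upT μ • v := by
  have := (h.key hl hl1 hμ t v).symm.trans (h.key hl hl1 hμ 0 v)
  rwa [smul_left_cancel_iff, upT_zero, one_smul] at this

theorem w_loT (t : F) : loT t = nT (1 : F) one_ne_zero * upT t * (nT (1 : F) one_ne_zero)⁻¹ := by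
  rw [eq_mul_inv_iff_mul_eq, loT_mul_nT, CharTwo.neg_eq, one_pow, mul_one]

theorem Cub.hd (h : Cub F V) {n : ℕ} (hn : ∀ v : V, 2 ^ n • v = 0) (v : V)
    (h1 : ∀ s : F, upT s • v = v) (h2 : ∀ s : F, loT s • v = v) : v = 0 := by
  have := h (upT 1 * loT 1) (by
    simp only [ent, upT, loT]
    linear_combination (CharTwo.two_eq_zero : (2 : F) = 0)) v
  simp only [mul_smul, h1, h2] at this
  have h3 : 3 • v = 0 := by rw [← this]; abel
  have hc : Nat.Coprime 3 (2 ^ n) := Nat.Coprime.pow_right _ (by norm_num)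
  rw [← addOrderOf_dvd_iff_nsmul_eq_zero] at h3
  exact AddMonoid.addOrderOf_eq_one_iff.1 (Nat.eq_one_of_dvd_coprimes hc h3
    (addOrderOf_dvd_iff_nsmul_eq_zero.2 (hn v)))

theorem Cub.two (h : Cub F V) {l : F} (hl : l ≠ 0) (hl1 : l ≠ 1) {n : ℕ}
    (hn : ∀ v : V, 2 ^ n • v = 0) (v : V) : v + v = 0 := by
  have hc : ∀ s t : F, ∀ v : V, upT s • upT t • v = upT t • upT s • v := fun s t v => by
    rw [← mul_smul, ← mul_smul, ← upT_add, ← upT_add, add_comm]
  have hu : ∀ (t : F) (v : V), upT t • (v + v) = v + v := fun t v => by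
    have key : ∀ μ : F, μ ≠ 0 → ∀ v : V,
        upT μ • (upT t • v - v) = -(upT t • v - v) := fun μ hμ v => by
      have := h.fix hl hl1 hμ t v
      rw [smul_add, hc] at this
      rw [smul_sub]
      linear_combination (norm := abel) this
    have e1 := key (1 + l) (fun e => hl1 (by
      linear_combination e - (CharTwo.two_eq_zero : (2 : F) = 0))) v
    rw [upT_add, mul_smul, key l hl, smul_neg, key 1 one_ne_zero, neg_neg] at e1
    rw [smul_add]
    linear_combination (norm := abel) e1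
  refine h.hd hn _ (hu · v) fun s => ?_
  rw [w_loT, mul_smul, mul_smul, smul_add, hu, ← smul_add, smul_inv_smul]

theorem Cub.quad (h : Cub F V) {l : F} (hl : l ≠ 0) (hl1 : l ≠ 1) (h2 : ∀ v : V, v + v = 0)
    (s t : F) (v : V) : upT s • (upT t • v - v) = upT t • v - v := by
  rcases eq_or_ne t 0 with rfl | ht
  · simp [upT_zero]
  · rw [sub_eq_add_neg, neg_eq_of_add_eq_zero_left (h2 v), add_comm, h.fix hl hl1 ht]

omit [CharP F 2] in
theorem exists_embed' (hd : ∀ v : V, (∀ s : F, upT s • v = v) → (∀ s : F, loT s • v = v) → v = 0)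
    {f : V} (hf0 : f ≠ 0) (hf : ∀ s : F, loT s • f = f)
    (he : ∀ s t : F, upT s • (upT t • f - f) = upT t • f - f) :
    ∃ φ : (Fin 2 → F) →+ V, Function.Injective φ ∧ φ ![0, 1] = f ∧
      ∀ (g : SL(2, F)) (x : Fin 2 → F), φ ((g : Matrix (Fin 2) (Fin 2) F) *ᵥ x) = g • φ x := by
  let e : F →+ V := AddMonoidHom.mk' (fun t => upT t • f - f) fun s t => by
    have := he s t
    rw [smul_sub] at this
    rw [upT_add, mul_smul, sub_eq_iff_eq_add.1 this]; abel
  have he' : ∀ t, e t = upT t • f - f := fun _ => rfl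
  let w := nT (1 : F) one_ne_zero
  have hw : w * w = -1 := nT_sq _ _
  have hn : ∀ t (ht : t ≠ 0), nT t ht • f = e t := fun t ht => (nT_smul hd hf ht (he · t)).1
  have hm : (-1 : SL(2, F)) • f = -f := (nT_smul hd hf one_ne_zero (he · 1)).2
  have hme : ∀ t, (-1 : SL(2, F)) • e t = -e t := fun t => by
    rw [he', smul_sub, ← mul_smul, neg_one_mul, ← mul_neg_one, mul_smul, hm, smul_neg]; abel
  have hh : ∀ c (hc : c ≠ 0), w⁻¹ • e c = hT c⁻¹ (inv_ne_zero hc) • f := fun c hc => by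
    rw [inv_smul_eq_iff, ← mul_smul, nT_mul_hT _ _ _ hc, hn, one_mul]
  have hx : ∀ t c, upT t • w⁻¹ • e c = e (t * c) + w⁻¹ • e c := fun t c => by
    rcases eq_or_ne c 0 with rfl | hc
    · simp
    rcases eq_or_ne t 0 with rfl | ht
    · simp [upT_zero]
    rw [hh c hc, ← sub_eq_iff_eq_add, ← hn _ (mul_ne_zero ht hc), ← nT_mul_hT _ _ ht hc, mul_smul]
    refine (nT_smul hd (fun s => by rw [← mul_smul, loT_mul_hT, mul_smul, hf]) ht fun s => ?_).1.symm
    rw [← mul_smul _ _ f, upT_mul_hT, mul_smul, ← smul_sub, ← mul_smul, upT_mul_hT, mul_smul, he]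
  let φ : (Fin 2 → F) →+ V := AddMonoidHom.mk' (fun x => e (x 0) + w⁻¹ • e (x 1)) fun x y => by
    simp only [Pi.add_apply, map_add, smul_add]; abel
  have hφ : ∀ x, φ x = e (x 0) + w⁻¹ • e (x 1) := fun _ => rfl
  let K : Subgroup SL(2, F) :=
    { carrier := {g | ∀ x, φ ((g : Matrix (Fin 2) (Fin 2) F) *ᵥ x) = g • φ x}
      one_mem' := fun x => by simp
      mul_mem' := fun {a b} ha hb x => by
        rw [mul_mulVec, ha, hb, mul_smul]
      inv_mem' := fun {a} ha x => by
        rw [eq_inv_smul_iff, ← ha, ← mul_mulVec, mul_inv_cancel]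
        simp }
  have hup : ∀ t, upT t ∈ K := fun t x => by
    rw [upT_mulVec, hφ, hφ, smul_add, hx, he' (x 0), he, ← he']
    simp only [cons_val_zero, cons_val_one, map_add]; abel
  have hwK : w ∈ K := fun x => by
    have h1 : (w : Matrix (Fin 2) (Fin 2) F) *ᵥ x = ![x 1, -x 0] := by
      ext i; fin_cases i <;> simp [w, nT, H64.SL2.coe_mk, mulVec, dotProduct, Fin.sum_univ_two]
    have h2 : w⁻¹ = -1 * w := by
      rw [inv_eq_iff_mul_eq_one, ← mul_assoc, mul_neg_one, neg_mul, hw, neg_neg]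
    rw [h1, hφ, hφ, smul_add, smul_inv_smul]
    simp only [cons_val_zero, cons_val_one, map_neg, smul_neg]
    rw [h2, neg_one_mul, ← mul_neg_one, mul_smul, hme, smul_neg, neg_neg, add_comm]
  have hK : K = ⊤ := eq_top_of_upT_loT hup fun c => by
    have h1 := loT_mul_nT c (1 : F) one_ne_zero
    rw [← eq_mul_inv_iff_mul_eq] at h1
    rw [h1]; exact K.mul_mem (K.mul_mem hwK (hup _)) (K.inv_mem hwK)
  have hK' : ∀ g : SL(2, F), g ∈ K := fun g => hK ▸ mem_top g
  have h01 : φ ![0, 1] = f := by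
    rw [hφ]
    simp only [cons_val_zero, cons_val_one, map_zero, zero_add]
    rw [← hn 1 one_ne_zero, inv_smul_smul]
  refine ⟨φ, (injective_iff_map_eq_zero φ).2 fun x hx0 => by_contra fun hne => hf0 ?_, h01, hK'⟩
  obtain ⟨m, hm⟩ := exists_sl_mulVec hne (t := ![0, 1]) (by simp)
  have h1 := hK' m x
  rwa [hm, hx0, smul_zero, h01] at h1

/-- The module is spanned by natural submodules. -/
theorem Cub.span (h : Cub F V) {l : F} (hl : l ≠ 0) (hl1 : l ≠ 1) {n : ℕ}
    (hn : ∀ v : V, 2 ^ n • v = 0) (Y : AddSubgroup V)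
    (hY : ∀ φ : (Fin 2 → F) →+ V, Function.Injective φ →
      (∀ (g : SL(2, F)) (x : Fin 2 → F), φ ((g : Matrix (Fin 2) (Fin 2) F) *ᵥ x) = g • φ x) →
      φ.range ≤ Y) (v : V) : v ∈ Y := by
  have h2 := h.two hl hl1 hn
  have hq := h.quad hl hl1 h2
  have hlo : ∀ (f : V) (g : SL(2, F)), (∀ s : F, loT s • f = f) → g • f ∈ Y := fun f g hf => by
    rcases eq_or_ne f 0 with rfl | h0
    · rw [smul_zero]; exact Y.zero_mem
    obtain ⟨φ, h1, h3, h4⟩ := exists_embed' (h.hd hn) h0 hf (hq · · f)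
    exact hY φ h1 h4 ⟨_, by rw [h4, h3]⟩
  let w := nT (1 : F) one_ne_zero
  have hup : ∀ (f : V) (g : SL(2, F)), (∀ s : F, upT s • f = f) → g • f ∈ Y := fun f g hf => by
    have := hlo (w • f) (g * w⁻¹) (nT_smul_lo hf _ _)
    rwa [mul_smul, inv_smul_smul] at this
  have hx : ∀ (g : SL(2, F)) (u : V), g • (upT (1 : F) • u - u) ∈ Y := fun g u => hup _ g (hq · 1 u)
  have hy : ∀ (g : SL(2, F)) (u : V), g • (loT (1 : F) • u - u) ∈ Y := fun g u => by
    have := hx (g * w) (w⁻¹ • u)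
    rwa [mul_smul, smul_sub w, smul_inv_smul, ← mul_smul w, ← mul_smul (w * _), ← w_loT] at this
  have hs : ∀ u : V, (upT (1 : F) * loT (1 : F)) • u - u ∈ Y := fun u => by
    have := Y.add_mem (hy (upT 1) u) (hx 1 u)
    rw [one_smul, smul_sub, ← mul_smul] at this
    convert this using 1
    abel
  have := h (upT 1 * loT 1) (by
    simp only [ent, upT, loT]
    linear_combination (CharTwo.two_eq_zero : (2 : F) = 0)) v
  have e : v = (upT (1 : F) * loT (1 : F)) • (upT (1 : F) * loT (1 : F)) • v -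
      (upT (1 : F) * loT (1 : F)) • v := by
    linear_combination (norm := abel) this - h2 ((upT (1 : F) * loT (1 : F)) •
      (upT (1 : F) * loT (1 : F)) • v)
  rw [e]; exact hs _

end H32
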