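import Mathlib
import Cfsg.Agent.Base
import Cfsg.Agent.Lib.CIT.Hig1
import Cfsg.Agent.Lib.Thompson.Replacement

/-! Higman's theorem on `2`-groups with `SL₂(2ⁿ)` acting, elements of order three acting without
fixed points. -/

set_option autoImplicit false
set_option linter.unusedSectionVars false
set_option linter.style.haveILetI false

namespace H32

open Subgroup H69 H68.Push H59.MP Matrix H64.SL2 H68S
open H24 (upT loT)
open scoped MatrixGroups commutatorElement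

universe u

/-- An additive model of the section `A / B` with the action of the image of `π`. -/
structure SMod {G P W : Type*} [Group G] [Group P] [AddCommGroup W] [DistribMulAction P W]
    (π : G →* P) (A B : Subgroup G) (ψ : G → W) : Prop where
  mul : ∀ u ∈ A, ∀ v ∈ A, ψ (u * v) = ψ u + ψ v
  surj : ∀ w, ∃ v ∈ A, ψ v = w
  ker : ∀ v ∈ A, ψ v = 0 ↔ v ∈ B
  smul : ∀ x : G, ∀ v ∈ A, π x • ψ v = ψ (x * v * x⁻¹)

theorem exists_smod {G : Type u} {P : Type*} [Group G] [Group P] (π : G →* P)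
    (hπ : Function.Surjective π) {A B : Subgroup G} [hA : A.Normal] [B.Normal] (hBA : B ≤ A)
    (h1 : ⁅A, A⁆ ≤ B) (h2 : ⁅π.ker, A⁆ ≤ B) :
    ∃ (W : Type u) (_ : AddCommGroup W) (_ : DistribMulAction P W) (ψ : G → W), SMod π A B ψ := by
  obtain ⟨W, _, _, ψ, m1, m2, m3, m4⟩ := IsSec.exists_model (L := ⊤) (V := A) (D := B)
    ⟨by rw [normalizer_eq_top], by rw [normalizer_eq_top], hBA, h1⟩
  have key : ∀ x y : (⊤ : Subgroup G), π x = π y → ∀ w : W, x • w = y • w := fun x y e w => by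
    obtain ⟨v, hv, rfl⟩ := m2 w
    have hk : (x : G) * (y : G)⁻¹ ∈ π.ker := by simp [MonoidHom.mem_ker, e]
    have hv' := hA.conj_mem _ hv y
    have := commutator_mem_commutator hk hv'
    rw [m4 _ _ hv, m4 _ _ hv, ← zero_add (ψ (y * v * _)), ← (m3 _ (hBA (h2 this))).2 (h2 this),
      ← m1 _ (hBA (h2 this)) _ hv']
    congr 1
    simp [commutatorElement_def, mul_assoc]
  let σ : P → (⊤ : Subgroup G) := fun p => ⟨Function.surjInv hπ p, trivial⟩
  have hσ : ∀ p, π (σ p) = p := Function.surjInv_eq hπ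
  letI : DistribMulAction P W :=
    { smul := fun p w => σ p • w
      one_smul := fun w => (key _ 1 (by simp [hσ]) w).trans (one_smul _ _)
      mul_smul := fun p q w => (key _ (σ p * σ q) (by simp [hσ]) w).trans (mul_smul _ _ _)
      smul_zero := fun p => smul_zero (σ p)
      smul_add := fun p => smul_add (σ p) }
  exact ⟨W, _, this, ψ, m1, m2, m3, fun x v hv =>
    (key _ ⟨x, trivial⟩ (hσ _) _).trans (m4 _ v hv)⟩

namespace SMod

variable {G P W : Type*} [Group G] [Group P] [AddCommGroup W] [DistribMulAction P W]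
  {π : G →* P} {A B : Subgroup G} {ψ : G → W}

theorem one (m : SMod π A B ψ) : ψ 1 = 0 := (m.ker 1 A.one_mem).2 B.one_mem

theorem inv (m : SMod π A B ψ) {v : G} (hv : v ∈ A) : ψ v⁻¹ = -ψ v := by
  rw [eq_neg_iff_add_eq_zero, ← m.mul _ (A.inv_mem hv) _ hv, inv_mul_cancel, m.one]

theorem pow (m : SMod π A B ψ) {v : G} (hv : v ∈ A) (n : ℕ) : ψ (v ^ n) = n • ψ v := by
  induction n with
  | zero => rw [pow_zero, m.one, zero_smul]
  | succ n ih => rw [pow_succ, m.mul _ (A.pow_mem hv n) _ hv, ih, succ_nsmul]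

theorem finite [Finite G] (m : SMod π A B ψ) : Finite W :=
  Finite.of_surjective ψ fun w => let ⟨v, _, h⟩ := m.surj w; ⟨v, h⟩

theorem tors [Finite G] {p : ℕ} [Fact p.Prime] (m : SMod π A B ψ) (h : IsPGroup p A) :
    ∃ n : ℕ, ∀ w : W, p ^ n • w = 0 := by
  obtain ⟨n, hn⟩ := h.exists_card_eq
  refine ⟨n, fun w => ?_⟩
  obtain ⟨v, hv, rfl⟩ := m.surj w
  have : v ^ p ^ n = 1 := by
    have := pow_card_eq_one' (x := (⟨v, hv⟩ : A))
    rw [hn] at this
    exact congrArg Subtype.val this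
  rw [← m.pow hv, this, m.one]

theorem ext_of_closure (m : SMod π A B ψ) {s : Set G} (hs : A = closure s) (Y : AddSubgroup W)
    (h : ∀ x ∈ s, ψ x ∈ Y) (w : W) : w ∈ Y := by
  obtain ⟨v, hv, rfl⟩ := m.surj w
  subst hs
  induction hv using closure_induction with
  | mem x hx => exact h x hx
  | one => rw [m.one]; exact Y.zero_mem
  | mul x y hx hy h1 h2 => rw [m.mul _ hx _ hy]; exact Y.add_mem h1 h2
  | inv x hx h1 => rw [m.inv hx]; exact Y.neg_mem h1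

variable {Q : Subgroup G} [hQ : Q.Normal]

theorem comm_left (m : SMod π ⁅Q, Q⁆ B ψ) (hk : Q ≤ π.ker) {a b c : G} (ha : a ∈ Q) (hb : b ∈ Q)
    (hc : c ∈ Q) : ψ ⁅a * b, c⁆ = ψ ⁅a, c⁆ + ψ ⁅b, c⁆ := by
  have h1 := commutator_mem_commutator hb hc
  rw [commutatorElement_mul_left_eq_conj_mul, m.mul _ ((inferInstance : (⁅Q, Q⁆).Normal).conj_mem _ h1 a)
    _ (commutator_mem_commutator ha hc), ← m.smul _ _ h1, hk ha, one_smul, add_comm]

theorem comm_right (m : SMod π ⁅Q, Q⁆ B ψ) (hk : Q ≤ π.ker) {a b c : G} (ha : a ∈ Q) (hb : b ∈ Q)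
    (hc : c ∈ Q) : ψ ⁅a, b * c⁆ = ψ ⁅a, b⁆ + ψ ⁅a, c⁆ := by
  have h1 := commutator_mem_commutator ha hc
  rw [commutatorElement_mul_right_eq_mul_conj, mul_assoc, mul_assoc, ← mul_assoc b,
    m.mul _ (commutator_mem_commutator ha hb) _
    ((inferInstance : (⁅Q, Q⁆).Normal).conj_mem _ h1 b), ← m.smul _ _ h1, hk hb, one_smul]

theorem comm_smul (m : SMod π ⁅Q, Q⁆ B ψ) (x : G) {a b : G} (ha : a ∈ Q) (hb : b ∈ Q) :
    π x • ψ ⁅a, b⁆ = ψ ⁅x * a * x⁻¹, x * b * x⁻¹⁆ := by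
  rw [m.smul _ _ (commutator_mem_commutator ha hb), conjugate_commutatorElement]

end SMod

variable {G : Type u} [Group G]

/-- The norm identity of a fixed point free element of order three. -/
def Fp3 (Q : Subgroup G) (s : G) : Prop :=
  s * s * s = 1 ∧ ∀ q ∈ Q, q * (s * q * s⁻¹) * (s * (s * q * s⁻¹) * s⁻¹) = 1

theorem fp3_of [Finite G] {Q : Subgroup G} [hQ : Q.Normal] {s : G} (h3 : s * s * s = 1)
    (h : ∀ q ∈ Q, s * q * s⁻¹ = q → q = 1) : Fp3 Q s := by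
  refine ⟨h3, fun q hq => ?_⟩
  let f : Q → Q := fun a => ⟨a * (s * a * s⁻¹)⁻¹, Q.mul_mem a.2 (Q.inv_mem (hQ.conj_mem _ a.2 s))⟩
  have hf : Function.Injective f := fun a b e => by
    have e1 : (a : G) * (s * a * s⁻¹)⁻¹ = b * (s * b * s⁻¹)⁻¹ := congrArg Subtype.val e
    have := h ((b : G)⁻¹ * a) (Q.mul_mem (Q.inv_mem b.2) a.2) (by
      calc s * ((b : G)⁻¹ * a) * s⁻¹ = (b : G)⁻¹ * (b * (s * b * s⁻¹)⁻¹) * (s * a * s⁻¹) := by group
        _ = _ := by rw [← e1]; group)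
    exact Subtype.ext (inv_mul_eq_one.1 this).symm
  obtain ⟨a, ha⟩ := Finite.surjective_of_injective hf ⟨q, hq⟩
  have e : q = a * (s * a * s⁻¹)⁻¹ := (congrArg Subtype.val ha).symm
  calc _ = a * (s * s * s) * (a : G)⁻¹ * (s * s * s)⁻¹ := by rw [e]; group
    _ = 1 := by rw [h3]; group

theorem Fp3.conj {Q : Subgroup G} [hQ : Q.Normal] {s : G} (h : Fp3 Q s) (g : G) :
    Fp3 Q (g * s * g⁻¹) := by
  refine ⟨by
    calc _ = g * (s * s * s) * g⁻¹ := by group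
      _ = 1 := by rw [h.1]; group, fun q hq => ?_⟩
  have := h.2 _ (hQ.conj_mem _ hq g⁻¹)
  calc _ = g * (g⁻¹ * q * g⁻¹⁻¹ * (s * (g⁻¹ * q * g⁻¹⁻¹) * s⁻¹) *
      (s * (s * (g⁻¹ * q * g⁻¹⁻¹) * s⁻¹) * s⁻¹)) * g⁻¹ := by group
    _ = 1 := by rw [this]; group

theorem Fp3.commute {Q : Subgroup G} {s : G} (h : Fp3 Q s) {q : G} (hq : q ∈ Q) :
    ⁅q, s * q * s⁻¹⁆ = 1 := by
  have h1 := eq_inv_of_mul_eq_one_right (h.2 q hq)
  have h2 := h.2 _ (Q.inv_mem hq)
  have h3 : s * (s * q⁻¹ * s⁻¹) * s⁻¹ = (s * (s * q * s⁻¹) * s⁻¹)⁻¹ := by simp [mul_assoc]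
  rw [h3, h1, inv_inv] at h2
  rw [← commutatorElement_inv, inv_eq_one, commutatorElement_eq_one_iff_mul_comm]
  calc _ = s * q * s⁻¹ * q * (q⁻¹ * (s * q⁻¹ * s⁻¹) * (q * (s * q * s⁻¹))) := by rw [h2, mul_one]
    _ = _ := by group

variable {F : Type*} [Field F] [CharP F 2] {π : G →* SL(2, F)} {Q : Subgroup G} [hQ : Q.Normal]

theorem Fp3.cub {W : Type*} [AddCommGroup W] [DistribMulAction SL(2, F) W] {A B : Subgroup G}
    [hA : A.Normal] {ψ : G → W} (m : SMod π A B ψ) (hAQ : A ≤ Q)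
    (h : ∀ t : SL(2, F), tr t = 1 → ∃ s, π s = t ∧ Fp3 Q s) : Cub F W := fun t ht w => by
  obtain ⟨s, rfl, hs⟩ := h t ht
  obtain ⟨v, hv, rfl⟩ := m.surj w
  have h1 := hA.conj_mem _ hv s
  have h2 := hA.conj_mem _ h1 s
  rw [m.smul _ _ hv, m.smul _ _ h1, ← m.mul _ hv _ h1, ← m.mul _ (A.mul_mem hv h1) _ h2,
    hs.2 v (hAQ hv), m.one]

theorem simple_sl2 [Finite F] (h4 : 4 ≤ Nat.card F) : IsSimpleGroup SL(2, F) :=
  haveI := H10.isSimpleGroup_PSL_fin (F := F) 2 le_rfl fun _ => h4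
  (projEquiv CharTwo.two_eq_zero).isSimpleGroup

theorem exists_ne_zero_one {F : Type*} [Field F] [Finite F] (h4 : 4 ≤ Nat.card F) :
    ∃ l : F, l ≠ 0 ∧ l ≠ 1 := by
  classical
  haveI := Fintype.ofFinite F
  by_contra h
  have : (Finset.univ : Finset F) ⊆ {0, 1} := fun x _ => by
    by_contra hx
    simp only [Finset.mem_insert, Finset.mem_singleton, not_or] at hx
    exact h ⟨x, hx⟩
  have h2 := (Finset.card_le_card this).trans Finset.card_le_two
  rw [Finset.card_univ, ← Nat.card_eq_fintype_card] at h2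
  omega

theorem comm_of_fp3 [Finite G] [Finite F] (h4 : 4 ≤ Nat.card F) (hπ : Function.Surjective π)
    (hk : π.ker = Q) (h2 : IsPGroup 2 Q)
    (h : ∀ t : SL(2, F), tr t = 1 → ∃ s, π s = t ∧ Fp3 Q s) : ⁅Q, Q⁆ = ⊥ := by
  have hle : ⁅Q, Q⁆ ≤ Q := commutator_le_left _ _
  obtain ⟨W, _, _, ψ, m⟩ := exists_smod π hπ (A := ⁅Q, Q⁆) (B := ⁅⁅Q, Q⁆, Q⁆)
    (commutator_le_left _ _) (commutator_mono le_rfl hle) (by rw [hk, commutator_comm])
  have hc := Fp3.cub m hle h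
  obtain ⟨n, hn⟩ := m.tors (h2.to_le hle)
  have hk' := hk.ge
  have e1 : ∀ s, Fp3 Q s → ∀ a ∈ Q, ∀ b ∈ Q, ψ ⁅a, s * b * s⁻¹⁆ = ψ ⁅s * a * s⁻¹, b⁆ := by
    intro s hs a ha b hb
    have h1 := congrArg ψ (hs.commute (Q.mul_mem ha hb))
    have ha' := hQ.conj_mem _ ha s
    have hb' := hQ.conj_mem _ hb s
    rw [show s * (a * b) * s⁻¹ = s * a * s⁻¹ * (s * b * s⁻¹) by group,
      m.comm_left hk' ha hb (Q.mul_mem ha' hb'), m.comm_right hk' ha ha' hb',
      m.comm_right hk' hb ha' hb', hs.commute ha, hs.commute hb, m.one, zero_add, add_zero,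
      ← commutatorElement_inv (s * a * s⁻¹), m.inv (commutator_mem_commutator ha' hb)] at h1
    exact add_neg_eq_zero.1 h1
  have e2 : ∀ s, Fp3 Q s → ∀ a ∈ Q, ∀ b ∈ Q, π s • ψ ⁅s * a * s⁻¹, b⁆ = ψ ⁅a, b⁆ := by
    intro s hs a ha b hb
    have ha' := hQ.conj_mem _ ha s
    rw [m.comm_smul _ ha' hb, e1 s hs _ (hQ.conj_mem _ ha' s) _ hb]
    congr 2
    calc _ = s * s * s * a * (s * s * s)⁻¹ := by simp [mul_assoc]
      _ = a := by rw [hs.1]; simp
  have e3 : ∀ s t : SL(2, F), tr s = 1 → tr t = 1 → ∀ w : W, s • t • w = t • s • w := by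
    intro s t hs' ht' w
    obtain ⟨s, rfl, hs⟩ := h s hs'
    obtain ⟨t, rfl, ht⟩ := h t ht'
    refine m.ext_of_closure (commutator_def Q Q) (AddMonoidHom.eqLocus
      ((DistribSMul.toAddMonoidHom W (π s)).comp (DistribSMul.toAddMonoidHom W (π t)))
      ((DistribSMul.toAddMonoidHom W (π t)).comp (DistribSMul.toAddMonoidHom W (π s)))) ?_ w
    rintro _ ⟨a', ha', b', hb', rfl⟩
    change π s • π t • ψ ⁅a', b'⁆ = π t • π s • ψ ⁅a', b'⁆
    obtain ⟨a, ha, rfl⟩ : ∃ a ∈ Q, s * a * s⁻¹ = a' := ⟨_, hQ.conj_mem _ ha' s⁻¹, by group⟩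
    obtain ⟨b, hb, rfl⟩ : ∃ b ∈ Q, t * b * t⁻¹ = b' := ⟨_, hQ.conj_mem _ hb' t⁻¹, by group⟩
    rw [e2 s hs a ha _ (hQ.conj_mem _ hb t), e1 t ht _ (hQ.conj_mem _ ha s) b hb,
      e2 t ht _ (hQ.conj_mem _ ha s) b hb, e2 s hs a ha b hb, e1 t ht a ha b hb, e2 t ht a ha b hb]
  haveI := simple_sl2 h4
  rcases IsSimpleGroup.eq_bot_or_eq_top_of_normal (MulAction.toPermHom SL(2, F) W).ker
    inferInstance with e | e
  · obtain ⟨l, hl, hl1⟩ := exists_ne_zero_one h4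
    have t2 : (2 : F) = 0 := CharTwo.two_eq_zero
    let s : SL(2, F) := mk 0 1 1 1 (by linear_combination -t2)
    let t : SL(2, F) := mk 0 l l⁻¹ 1 (by rw [mul_inv_cancel₀ hl]; linear_combination -t2)
    have : s * t = t * s := (MonoidHom.ker_eq_bot_iff _).1 e (Equiv.ext fun w => by
      simpa [mul_smul] using e3 s t (by simp [s, ent]) (by simp [t, ent]) w)
    simp only [s, t, ent] at this
    exact absurd (by linear_combination -this.2.1) hl1
  · refine H24.eq_bot_of_le_commutator_of_isNilpotent h2.isNilpotent hle fun v hv => ?_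
    have hw : ∀ (g : SL(2, F)) (w : W), g • w = w := fun g w => by
      have : MulAction.toPermHom SL(2, F) W g = 1 := by
        rw [← MonoidHom.mem_ker, e]; trivial
      exact Equiv.congr_fun this w
    exact (m.ker v hv).1 (hc.hd hn _ (fun _ => hw _ _) fun _ => hw _ _)

/-- From a set of minimal normal subgroups one can choose an independent family with the same
join. -/
theorem exists_iSupIndep_of_minimal [Finite G] (S : Set (Subgroup G)) (hn : ∀ A ∈ S, A.Normal)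
    (hS : ∀ A ∈ S, ∀ N : Subgroup G, N.Normal → N ≤ A → N = ⊥ ∨ N = A) :
    ∃ (k : ℕ) (B : Fin k → Subgroup G), (∀ i, B i ∈ S) ∧ iSupIndep B ∧ ⨆ i, B i = sSup S := by
  classical
  have hex : ∃ k : ℕ, ∃ B : Fin k → Subgroup G, (∀ i, B i ∈ S) ∧ ⨆ i, B i = sSup S := by
    haveI : Finite S := inferInstance
    obtain ⟨k, ⟨e⟩⟩ := Finite.exists_equiv_fin S
    refine ⟨k, fun i => (e.symm i : Subgroup G), fun i => (e.symm i).2, ?_⟩
    rw [sSup_eq_iSup']
    exact e.symm.surjective.iSup_comp (fun x : S => (x : Subgroup G))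
  obtain ⟨B, hB, hsup⟩ := Nat.find_spec hex
  refine ⟨Nat.find hex, B, hB, ?_, hsup⟩
  intro i
  rw [disjoint_iff]
  haveI := hn _ (hB i)
  haveI : ∀ j, (⨆ _ : j ≠ i, B j).Normal := fun j =>
    haveI := hn _ (hB j)
    iSup_normal _
  refine (hS _ (hB i) _ inferInstance inf_le_left).resolve_right fun hle => ?_
  rw [inf_eq_left] at hle
  obtain ⟨k, hk⟩ : ∃ k, Nat.find hex = k + 1 := Nat.exists_eq_succ_of_ne_zero (by
    intro h0
    exact absurd i.2 (by omega))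
  have hmin := Nat.find_min hex (m := k) (by omega)
  apply hmin
  let e : Fin (k + 1) ≃ Fin (Nat.find hex) := (finCongr hk).symm
  refine ⟨fun j => B (e ((e.symm i).succAbove j)), fun j => hB _, ?_⟩
  refine Eq.trans ?_ hsup
  apply le_antisymm
  · exact iSup_le fun j => le_iSup B _
  · have key : ∀ j, j ≠ i → B j ≤ ⨆ j : Fin k, B (e ((e.symm i).succAbove j)) := by
      intro j hj
      obtain ⟨l, hl⟩ := Fin.exists_succAbove_eq (x := e.symm j) (y := e.symm i)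
        (fun h => hj (e.symm.injective h))
      refine le_trans (le_of_eq ?_) (le_iSup (fun j : Fin k => B (e ((e.symm i).succAbove j))) l)
      rw [hl, Equiv.apply_symm_apply]
    refine iSup_le fun j => ?_
    by_cases hj : j = i
    · rw [hj]
      exact hle.trans (iSup₂_le key)
    · exact key j hj

theorem tr_eq_one_of_cube {t : SL(2, F)} (h3 : t * t * t = 1) (h1 : t ≠ 1) : tr t = 1 := by
  have t2 : (2 : F) = 0 := CharTwo.two_eq_zero
  have hd := det_eq t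
  have hi : t * t = t⁻¹ := eq_inv_of_mul_eq_one_left h3
  by_contra hne
  apply h1
  simp only [ent] at hi hne ⊢
  obtain ⟨e0, e1, e2, e3⟩ := hi
  have hne' : t 0 0 + t 1 1 + 1 ≠ 0 := fun e => hne (by linear_combination e - t2)
  have b0 : t 0 1 = 0 := (mul_eq_zero.1 (by linear_combination e1)).resolve_right hne'
  have c0 : t 1 0 = 0 := (mul_eq_zero.1 (by linear_combination e2)).resolve_right hne'
  have a1 : (t 0 0 - 1) * (t 0 0 + t 1 1 + 1) = 0 := by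
    linear_combination e0 + hd
  have d1 : (t 1 1 - 1) * (t 0 0 + t 1 1 + 1) = 0 := by
    linear_combination e3 + hd
  exact ⟨sub_eq_zero.1 ((mul_eq_zero.1 a1).resolve_right hne'), b0, c0,
    sub_eq_zero.1 ((mul_eq_zero.1 d1).resolve_right hne')⟩

theorem fp3_all [Finite G] [Finite F] (hπ : Function.Surjective π) (hk : π.ker = Q)
    {x : G} (hx : orderOf x = 3) (hf : ∀ q ∈ Q, x * q * x⁻¹ = q → q = 1)
    (t : SL(2, F)) (ht : tr t = 1) : ∃ s, π s = t ∧ Fp3 Q s := by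
  have h3 : x * x * x = 1 := by rw [← pow_three', ← hx, pow_orderOf_eq_one]
  have h1 : π x ≠ 1 := fun e => by
    have := hf x (hk ▸ e) (by group)
    rw [this, orderOf_one] at hx
    omega
  have t1 := tr_eq_one_of_cube (by rw [← map_mul, ← map_mul, h3, map_one]) h1
  obtain ⟨c, hc⟩ := isConj_iff.1 (isConj_of_tr_eq (g := π x) (h := t) (by
    rw [t1, one_pow, show (4 : F) = 2 * 2 by norm_num, CharTwo.two_eq_zero, zero_mul]
    exact one_ne_zero) (t1.trans ht.symm))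
  obtain ⟨c, rfl⟩ := hπ c
  exact ⟨c * x * c⁻¹, by simpa using hc, (fp3_of h3 hf).conj c⟩

theorem higman [Finite G] [Finite F] (h4 : 4 ≤ Nat.card F) (hπ : Function.Surjective π)
    (hk : π.ker = Q) (h2 : IsPGroup 2 Q) {x : G} (hx : orderOf x = 3)
    (hf : ∀ q ∈ Q, x * q * x⁻¹ = q → q = 1) :
    Cfsg.IsElementaryAbelian 2 Q ∧
      ∃ (k : ℕ) (V : Fin k → Subgroup G), (∀ i, V i ≤ Q ∧ (V i).Normal ∧
        Cfsg.ActsAsSL2OnSection F ⊤ ⊤ (V i) ⊥) ∧ iSupIndep V ∧ ⨆ i, V i = Q := by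
  have h := fp3_all hπ hk hx hf
  have hc := comm_of_fp3 h4 hπ hk h2 h
  obtain ⟨W, _, _, ψ, m'⟩ := exists_smod π hπ (A := Q) (B := ⊥) bot_le hc.le (by rw [hk, hc])
  have m : Mdl (MonoidHom.id G) π Q ψ := ⟨Function.injective_id, hπ,
    fun x => by rw [normalizer_eq_top]; trivial, m'.mul, m'.surj,
    fun v hv => (m'.ker v hv).trans mem_bot, m'.smul⟩
  have cub := Fp3.cub m' le_rfl h
  obtain ⟨n, hn⟩ := m'.tors h2
  obtain ⟨l, hl, hl1⟩ := exists_ne_zero_one h4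
  refine ⟨⟨⟨⟨fun a b => Subtype.ext (commutatorElement_eq_one_iff_mul_comm.1
    (mem_bot.1 (hc ▸ commutator_mem_commutator a.2 b.2)))⟩⟩, fun a ha => ?_⟩, ?_⟩
  · rw [← m.π_ker _ (Q.pow_mem ha 2), m.π_pow ha, two_smul, cub.two hl hl1 hn]
  let S : Set (Subgroup G) := {A | ∃ φ : (Fin 2 → F) →+ W, Function.Injective φ ∧
    (∀ (g : SL(2, F)) (x : Fin 2 → F), φ ((g : Matrix (Fin 2) (Fin 2) F) *ᵥ x) = g • φ x) ∧
      A = m.pre φ.range}
  have hN : ∀ A ∈ S, A.Normal := by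
    rintro _ ⟨φ, -, h1, rfl⟩
    refine ⟨fun v hv g => ?_⟩
    obtain ⟨hv, y, hy⟩ := m.mem_pre.1 hv
    exact m.mem_pre.2 ⟨hQ.conj_mem _ hv g, _, by rw [h1, hy, m'.smul g v hv]⟩
  obtain ⟨k, V, hV, hi, hs⟩ := exists_iSupIndep_of_minimal S hN (by
    rintro _ ⟨φ, h0, h1, rfl⟩ N hN hle
    refine (em _).imp_right fun hne => hle.antisymm fun v hv => ?_
    obtain ⟨⟨u, hu⟩, hu1⟩ := ne_bot_iff_exists_ne_one.1 hne
    obtain ⟨hv, y, hy⟩ := m.mem_pre.1 hv
    obtain ⟨hu', z, hz⟩ := m.mem_pre.1 (hle hu)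
    rcases eq_or_ne y 0 with rfl | hy0
    · rw [map_zero, eq_comm, m.π_ker _ hv] at hy
      exact hy ▸ N.one_mem
    obtain ⟨g, hg⟩ := exists_sl_mulVec (s := z) (fun e => hu1 (Subtype.ext (by
      rwa [e, map_zero, eq_comm, m.π_ker _ hu'] at hz))) hy0
    obtain ⟨g, rfl⟩ := hπ g
    rw [← hg, h1, hz, m'.smul g u hu'] at hy
    exact m.π_inj (hQ.conj_mem _ hu' g) hv hy ▸ hN.conj_mem _ hu g)
  refine ⟨k, V, fun i => ?_, hi, hs.trans (le_antisymm (sSup_le ?_) fun v hv => ?_)⟩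
  · haveI := hN _ (hV i)
    obtain ⟨φ, h0, h1, e⟩ := hV i
    have hle : V i ≤ Q := e ▸ m.pre_le _
    have hr : ∀ u : V i, ∃ y, φ y = ψ u := fun u => (m.mem_pre.1 (e.le u.2)).2
    choose σ hσ using hr
    refine ⟨hle, inferInstance, by rw [normalizer_eq_top], bot_le, π.comp (⊤ : Subgroup G).subtype,
      MonoidHom.mk' (fun u => Multiplicative.ofAdd (σ u)) fun u v => ?_,
      MonoidHom.range_eq_top.2 (hπ.comp fun g => ⟨⟨g, trivial⟩, rfl⟩), fun s => ?_, fun u => ?_,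
      fun g u => ⟨⟨_, this.conj_mem _ u.2 g⟩, rfl, h0 ?_⟩⟩
    · rw [← ofAdd_add]
      congr 1
      apply h0
      rw [map_add, hσ, hσ, hσ, ← m.π_mul _ (hle u.2) _ (hle v.2)]; rfl
    · obtain ⟨v, hv, h3⟩ := m.π_surj (φ s.toAdd)
      refine ⟨⟨v, e ▸ m.mem_pre.2 ⟨hv, _, h3.symm⟩⟩, ?_⟩
      change Multiplicative.ofAdd (σ _) = Multiplicative.ofAdd s.toAdd
      congr 1
      apply h0
      rw [hσ, h3]
    · rw [mem_bot, ← m.π_ker _ (hle u.2), ← hσ, map_eq_zero_iff φ h0]; rfl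
    · simp only [MonoidHom.mk'_apply, toAdd_ofAdd]
      rw [h1, hσ, hσ]
      exact (m'.smul g _ (hle u.2)).symm
  · rintro _ ⟨φ, -, -, rfl⟩
    exact m.pre_le _
  · obtain ⟨Y, hY⟩ := m.exists_pre (U := sSup S) (sSup_le (by
      rintro _ ⟨φ, -, -, rfl⟩
      exact m.pre_le _))
    rw [← hY]
    exact m.mem_pre.2 ⟨hv, cub.span hl hl1 hn Y (fun φ h0 h1 => by
      rw [← m.pre_le_pre, hY]; exact le_sSup ⟨φ, h0, h1, rfl⟩) _⟩

end H32
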