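import Mathlib
import Cfsg.Agent.Base
import Cfsg.Agent.Lib.CIT.Cls3
import Cfsg.Agent.Lib.FGS.NilpCover
import Cfsg.Agent.S4249

/-! Groups with an invariant partition: basic facts, and the case of a normal component. -/

set_option autoImplicit false
set_option linter.unusedSectionVars false
set_option linter.style.haveILetI false

namespace H32

open Subgroup H69 H80 H35 Matrix
open scoped MatrixGroups Pointwise

variable {G : Type*} [Group G] [Finite G]

/-- All elements outside a proper subgroup have order dividing a prime. -/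
def Hug (G : Type*) [Group G] : Prop :=
  ∃ (p : ℕ) (N : Subgroup G), p.Prime ∧ N ≠ ⊤ ∧ ∀ u : G, u ∉ N → u ^ p = 1

/-- A proper non-trivial normal subgroup containing the centralisers of its non-identity elements. -/
def FrobK (K : Subgroup G) : Prop := K.Normal ∧ K ≠ ⊥ ∧ K ≠ ⊤ ∧ ∀ x ∈ K, x ≠ 1 → Cx⟦x⟧ ≤ K

theorem FrobK.frob {K : Subgroup G} (h : FrobK K) :
    ∃ H : Subgroup G, K.IsComplement' H ∧ Cfsg.IsFrobeniusComplement H := by
  obtain ⟨_, h1, h2, h3⟩ := h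
  obtain ⟨H, hH⟩ := exists_right_complement'_of_coprime (coprime_of_cent_le h3)
  exact ⟨H, hH, (H2.isFrobeniusComplement_iff_semiregular hH h1
    fun e => h2 (isComplement'_bot_right.1 (e ▸ hH))).2 fun x hx hx1 => eq_bot_iff.2 fun y hy =>
      by_contra fun hy1 => hx1 (disjoint_def.1 hH.disjoint (h3 y hy.1 hy1 (mem_Cx_comm.1 hy.2)) hx)⟩

theorem nilpotent_of_outside {N : Subgroup G} (hN : N ≠ ⊤) {p : ℕ} (hp : p.Prime)
    (h : ∀ u : G, u ∉ N → u ^ p = 1) : Group.IsNilpotent N := by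
  haveI := Fact.mk hp
  by_cases hG : IsPGroup p G
  · exact (hG.to_subgroup N).isNilpotent
  have hle : closure {g : G | g ^ p ≠ 1} ≤ N := (closure_le _).2 fun g hg => by_contra fun e => hg (h g e)
  obtain ⟨h1, h2⟩ := Cfsg.Agent.S4249.result p hp hG fun e => hN (eq_top_iff.2 (e ▸ hle))
  rwa [← eq_of_le_of_index hle (h2.trans (((Nat.dvd_prime hp).1 (h2 ▸ index_dvd_of_le hle)).resolve_left
    (mt index_eq_one.1 hN)).symm)]

theorem Hug.solvable (h : Hug G) : Group.IsSolvable G := by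
  obtain ⟨p, N, hp, hN, h⟩ := h
  haveI := Fact.mk hp
  have hn : ∀ u : G, u ∉ N.normalCore → u ^ p = 1 := fun u hu => by
    obtain ⟨g, hg⟩ := not_forall.1 hu
    simpa using h _ hg
  haveI := nilpotent_of_outside (fun e => hN (eq_top_iff.2 (e ▸ N.normalCore_le))) hp hn
  refine H1.isSolvable_of_normal_of_quotient N.normalCore inferInstance
    (H1.isSolvable_of_isPGroup (p := p) fun x => ⟨1, ?_⟩)
  obtain ⟨g, rfl⟩ := QuotientGroup.mk_surjective x
  by_cases e : g ∈ N.normalCore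
  · rw [(QuotientGroup.eq_one_iff g).2 e, one_pow]
  · rw [pow_one, ← QuotientGroup.mk_pow, hn g e, QuotientGroup.mk_one]

theorem nilp_of_index {K : Subgroup G} [K.Normal] {p : ℕ} (hp : p.Prime) (hd : p ∣ K.index)
    (h : ∀ u : G, u ∉ K → u ^ p ∈ K → u ^ p = 1) : Group.IsNilpotent K := by
  haveI := Fact.mk hp
  obtain ⟨x, hx⟩ := exists_prime_orderOf_dvd_card' (G := G ⧸ K) p hd
  have hle : K ≤ (zpowers x).comap (QuotientGroup.mk' K) := fun k hk => by
    rw [mem_comap, QuotientGroup.mk'_apply, (QuotientGroup.eq_one_iff k).2 hk]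
    exact one_mem _
  haveI := nilpotent_of_outside (N := K.subgroupOf ((zpowers x).comap (QuotientGroup.mk' K)))
    (fun e => by
      obtain ⟨g, rfl⟩ := QuotientGroup.mk_surjective x
      exact ne_one_of_prime (hx ▸ hp) ((QuotientGroup.eq_one_iff g).2
        (subgroupOf_eq_top.1 e (mem_zpowers _)))) hp fun u hu => Subtype.ext (h u hu (by
      rw [← QuotientGroup.eq_one_iff, QuotientGroup.mk_pow, ← orderOf_dvd_iff_pow_eq_one, ← hx]
      exact orderOf_dvd_of_mem_zpowers u.2))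
  exact Group.nilpotent_of_mulEquiv (subgroupOfEquivOfLe hle)

theorem dvd_orderOf_of_pow_mem {K : Subgroup G} {u : G} {p : ℕ} (hp : p.Prime) (hu : u ∉ K)
    (h : u ^ p ∈ K) : p ∣ orderOf u := by_contra fun e => hu (by
  obtain ⟨k, hk⟩ := exists_pow_eq_self_of_coprime (x := u) ((hp.coprime_iff_not_dvd).2 e)
  exact hk ▸ pow_mem h k)

/-- The common last step. -/
theorem pow_eq_one_of {N : Subgroup G} [N.Normal] {p : ℕ} (hp : p.Prime) (hd : p ∣ N.index)
    (h1 : ∀ u : G, u ∉ N → p ∣ orderOf u → u ^ p = 1)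
    (h2 : ∀ K : Subgroup G, K.Normal → Group.IsNilpotent K → N ≤ K → K ≤ N)
    (h3 : ∀ t : G, t ∉ N → t * t = 1 → ∀ g : G, t * (g * t * g⁻¹) ∈ N)
    (h4 : ∀ (u : G) (r : ℕ), r.Prime → u ∉ N → ¬ p ∣ orderOf u → u ^ r ∈ N → u ^ r = 1)
    (u : G) (hu : u ∉ N) : u ^ p = 1 := by
  haveI := Fact.mk hp
  refine h1 u hu (by_contra fun e => ?_)
  obtain ⟨r, hr, hd'⟩ := Nat.exists_prime_and_dvd (mt orderOf_eq_one_iff.1
    (mt (QuotientGroup.eq_one_iff u).1 hu))
  have rp : r ≠ p := fun e1 => e (e1 ▸ hd'.trans (orderOf_map_dvd (QuotientGroup.mk' N) u))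
  replace hd' : r ∣ N.index := hd'.trans (orderOf_dvd_natCard _)
  have h1' : ∀ x : G ⧸ N, p ∣ orderOf x → x ^ p = 1 := fun x hx => by
    obtain ⟨g, rfl⟩ := QuotientGroup.mk_surjective x
    rw [← QuotientGroup.mk_pow, h1 g (fun e => hp.ne_one (by
      rwa [(QuotientGroup.eq_one_iff g).2 e, orderOf_one, Nat.dvd_one] at hx))
      (hx.trans (orderOf_map_dvd (QuotientGroup.mk' N) g)), QuotientGroup.mk_one]
  rcases Nat.even_or_odd N.index with he | ho
  · obtain ⟨x, hx⟩ := H9.exists_involution_of_even (G := G ⧸ N) he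
    obtain ⟨t, ht, rfl⟩ := exists_isPElt_mk_eq 2 N (pElt_of_prime hx)
    have tN : t ∉ N := mt (QuotientGroup.eq_one_iff t).2 (H9.ne_one_of_orderOf_two hx)
    have xx := H9.mul_self_of_orderOf_two hx
    have tt : t ^ 2 = 1 := (eq_or_ne p 2).elim
      (fun e => e ▸ h1 t tN (e ▸ ht.dvd_orderOf fun e => tN (e ▸ one_mem _)))
      fun e => h4 t 2 Nat.prime_two tN (not_dvd_of_pElt hp Nat.prime_two e.symm ht)
        ((QuotientGroup.eq_one_iff _).1 (by rw [sq]; exact xx))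
    obtain ⟨s, hs, s2, sd, sp⟩ : ∃ s : ℕ, s.Prime ∧ s ≠ 2 ∧ s ∣ N.index ∧ p ∣ 2 * s :=
      (eq_or_ne p 2).elim (fun e => ⟨r, hr, e ▸ rp, hd', e ▸ dvd_mul_right _ _⟩)
        fun e => ⟨p, hp, e, hd, dvd_mul_left _ _⟩
    haveI := Fact.mk hs
    obtain ⟨y, hy⟩ := exists_prime_orderOf_dvd_card' (G := G ⧸ N) s sd
    have hc : Commute (t : G ⧸ N) y := by
      obtain ⟨g, rfl⟩ := QuotientGroup.mk_surjective y
      have := (QuotientGroup.eq_one_iff _).2 (h3 t tN (sq t ▸ tt) g)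
      rw [QuotientGroup.mk_mul, ← xx, mul_right_inj] at this
      exact (mul_inv_eq_iff_eq_mul.1 this).symm
    have e1 := hc.orderOf_mul_eq_mul_orderOf_of_coprime
      (by rw [hx, hy]; exact (Nat.coprime_primes Nat.prime_two hs).2 s2.symm)
    rw [hx, hy] at e1
    have e2 := orderOf_dvd_of_pow_eq_one (h1' _ (e1 ▸ sp))
    rw [e1] at e2
    exact s2 (((Nat.prime_dvd_prime_iff_eq hs hp).1 ((dvd_mul_left _ _).trans e2)).trans
      ((Nat.prime_dvd_prime_iff_eq Nat.prime_two hp).1 ((dvd_mul_right _ _).trans e2)).symm)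
  haveI : Nontrivial (G ⧸ N) := ⟨u, 1, mt (QuotientGroup.eq_one_iff u).1 hu⟩
  obtain ⟨M, s, hs, _, M1, -, -, -, hM, -⟩ := H1.exists_elementary_abelian_normal_le
    (⊤ : Subgroup (G ⧸ N)) top_ne_bot (isSolvable_of_odd (by rwa [card_top]))
  haveI := Fact.mk hs
  have hle : N ≤ M.comap (QuotientGroup.mk' N) := fun k hk => by
    rw [mem_comap, QuotientGroup.mk'_apply, (QuotientGroup.eq_one_iff k).2 hk]
    exact one_mem _
  have hi : ∀ {q : ℕ}, q.Prime → q ≠ s → q ∣ N.index → q ∣ (M.comap (QuotientGroup.mk' N)).index := by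
    intro q hq qs d
    rw [index_comap_of_surjective _ (QuotientGroup.mk'_surjective N)]
    rw [index_eq_card, ← M.card_mul_index] at d
    obtain ⟨k, hk⟩ := hM.exists_card_eq
    exact ((Nat.Prime.dvd_mul hq).1 d).resolve_left fun e =>
      qs ((Nat.prime_dvd_prime_iff_eq hq hs).1 (hq.dvd_of_dvd_pow (hk ▸ e)))
  refine M1 (eq_bot_iff.2 fun x hx => ?_)
  obtain ⟨g, rfl⟩ := QuotientGroup.mk_surjective x
  refine (QuotientGroup.eq_one_iff g).2 (h2 _ inferInstance ?_ hle hx)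
  rcases eq_or_ne p s with rfl | ps
  · refine nilp_of_index hr (hi hr rp hd') fun v hv e => ?_
    have vp : ¬ p ∣ orderOf v := fun e1 => hv (by
      obtain ⟨k, hk⟩ := exists_pow_eq_self_of_coprime (x := v) (n := r) (Nat.Coprime.coprime_dvd_right
        (orderOf_dvd_of_pow_eq_one (h1 v (fun e => hv (hle e)) e1)) ((Nat.coprime_primes hr hp).2 rp))
      exact hk ▸ pow_mem e k)
    exact h4 v r hr (fun e => hv (hle e)) vp ((QuotientGroup.eq_one_iff _).1
      ((isPElt_of_mem hM e).eq_one_of_not_dvd (not_dvd_orderOf_map _ (not_dvd_orderOf_pow vp r))))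
  · exact nilp_of_index hp (hi hp ps hd) fun v hv e =>
      h1 v (fun e => hv (hle e)) (dvd_orderOf_of_pow_mem hp hv e)

/-- An invariant partition: `P x` is the component containing `x ≠ 1`. -/
structure Part (P : G → Subgroup G) : Prop where
  self : ∀ x, x ∈ P x
  eq : ∀ {x y : G}, x ≠ 1 → y ≠ 1 → y ∈ P x → P y = P x
  ne_top : ∀ {x : G}, x ≠ 1 → P x ≠ ⊤
  conj : ∀ g x y : G, y ∈ P x → g * y * g⁻¹ ∈ P (g * x * g⁻¹)

namespace Part

variable {P : G → Subgroup G} (h : Part P)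
include h

theorem mem_of_zpowers {x y z : G} (hx : x ≠ 1) (hz : z ∈ zpowers y) (z1 : z ≠ 1) (e : z ∈ P x) :
    y ∈ P x := by
  have y1 : y ≠ 1 := fun e1 => z1 (by simpa [e1] using hz)
  rw [← h.eq hx z1 e, h.eq y1 z1 (zpowers_le.2 (h.self y) hz)]
  exact h.self y

theorem pow_eq_one {x y : G} {k : ℕ} (hx : x ≠ 1) (hy : y ∉ P x) (e : y ^ k ∈ P x) : y ^ k = 1 :=
  by_contra fun e1 => hy (h.mem_of_zpowers hx (npow_mem_zpowers y k) e1 e)

theorem symm {x y : G} (hx : x ≠ 1) (hy : y ≠ 1) (e : y ∈ P x) : x ∈ P y := h.eq hx hy e ▸ h.self x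

theorem comm {x y : G} (hx : x ≠ 1) (hy : y ∉ P x) (e : y ∈ Cx⟦x⟧) :
    orderOf y = orderOf x ∧ (orderOf x).Prime := by
  have a : ∀ {x y : G}, x ≠ 1 → y ∉ P x → y ∈ Cx⟦x⟧ → orderOf y ∣ orderOf x := by
    intro x y hx hy e
    have y1 : y ≠ 1 := fun e => hy (e ▸ one_mem _)
    have e1 : (x * y) ^ orderOf x = y ^ orderOf x := by
      rw [(mem_Cx_iff_commute.1 e).mul_pow, pow_orderOf_eq_one, one_mul]
    exact orderOf_dvd_of_pow_eq_one (e1 ▸ h.pow_eq_one y1 (fun e => hy (h.symm y1 hx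
      ((mul_mem_cancel_right (h.self y)).1 e))) (e1 ▸ pow_mem (h.self y) _))
  have b : ∀ {x y : G}, x ≠ 1 → y ∉ P x → y ∈ Cx⟦x⟧ → orderOf y = orderOf x := fun {x y} hx hy e =>
    have y1 : y ≠ 1 := fun e => hy (e ▸ one_mem _)
    Nat.dvd_antisymm (a hx hy e) (a y1 (fun e => hy (h.symm y1 hx e)) (mem_Cx_comm.1 e))
  obtain ⟨z, hz, hp⟩ := exists_prime_zpowers hx
  exact ⟨b hx hy e, b hx hy e ▸ b (ne_one_of_prime hp) (h.eq hx (ne_one_of_prime hp)
    (zpowers_le.2 (h.self x) hz) ▸ hy) (Cx_le_of_mem_zpowers hz e) ▸ hp⟩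

theorem mem_norm {x y g : G} (hx : x ≠ 1) (hy : y ≠ 1) (h1 : y ∈ P x) (h2 : g * y * g⁻¹ ∈ P x) :
    g ∈ 𝐍(P x) := mem_normalizer_fintype fun k hk =>
  h.eq hx (by simpa using hy) h2 ▸ h.conj g y k (h.eq hx hy h1 ▸ hk)

theorem ne_bot {x : G} (hx : x ≠ 1) : P x ≠ ⊥ := fun e => hx (mem_bot.1 (e ▸ h.self x))

theorem frob_or {x : G} (hx : x ≠ 1) : Cfsg.IsFrobeniusComplement (P x) ∨ Group.IsNilpotent (P x) := by
  by_cases e : 𝐍(P x) ≤ P x
  · refine .inl ⟨h.ne_bot hx, h.ne_top hx, fun g hg => eq_bot_iff.2 fun y hy => by_contra fun y1 =>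
      hg (inv_mem_iff.1 (e (h.mem_norm hx y1 hy.1 ?_)))⟩
    simpa using H1.mem_conj_smul_iff.1 hy.2
  obtain ⟨p, hp, hd⟩ := Nat.exists_prime_and_dvd (mt (relIndex_eq_one (H := P x)).1 e)
  haveI := nilp_of_index (K := (P x).subgroupOf 𝐍(P x)) hp hd fun u hu e =>
    Subtype.ext (h.pow_eq_one hx hu e)
  exact .inr (Group.nilpotent_of_mulEquiv (subgroupOfEquivOfLe le_normalizer))

theorem inverts {x t : G} (hx : x ≠ 1) (ht : t ∉ P x) (tt : t * t = 1) (hn : t ∈ 𝐍(P x)) {k : G}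
    (hk : k ∈ P x) : t * k * t⁻¹ = k⁻¹ := by
  have e := h.pow_eq_one (k := 2) hx (mt (mul_mem_cancel_right hk).1 ht) (by
    rw [sq, show t * k * (t * k) = t * k * t⁻¹ * (t * t) * k by group, tt, mul_one]
    exact mul_mem (conj_mem_of_mem_normalizer hn hk) hk)
  rw [sq, ← mul_assoc] at e
  rw [inv_eq_of_mul_eq_one_left tt, eq_inv_of_mul_eq_one_left e]

/-- The case of a normal component. -/
theorem normal_case {x₀ : G} (h0 : x₀ ≠ 1) [(P x₀).Normal] (hn : Group.IsNilpotent (P x₀)) :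
    Hug G ∨ ∃ K : Subgroup G, FrobK K := by
  set H := P x₀
  set F := Cfsg.fittingSubgroup G
  have HF : H ≤ F := H1.le_fitting hn
  by_cases hc : ∀ x ∈ H, x ≠ 1 → Cx⟦x⟧ ≤ H
  · exact .inr ⟨H, inferInstance, h.ne_bot h0, h.ne_top h0, hc⟩
  obtain ⟨x, hx, x1, g, hg, gH⟩ : ∃ x ∈ H, x ≠ 1 ∧ ∃ g ∈ Cx⟦x⟧, g ∉ H := by
    by_contra e
    exact hc fun x hx x1 g hg => by_contra fun e1 => e ⟨x, hx, x1, g, hg, e1⟩
  have cm : ∀ {y u : G}, y ∈ H → y ≠ 1 → u ∉ H → u ∈ Cx⟦y⟧ → orderOf u = orderOf y :=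
    fun hy y1 hu e => (h.comm y1 (h.eq h0 y1 hy ▸ hu) e).1
  have hp := (h.comm x1 (h.eq h0 x1 hx ▸ gH) hg).2
  have og := cm hx x1 gH hg
  generalize ox : orderOf x = p at hp og
  haveI := Fact.mk hp
  have a : ∀ u : G, u ∉ H → p ∣ orderOf u → u ^ p = 1 := fun u hu d => by
    obtain ⟨v, hv, ov⟩ := H1.exists_mem_orderOf_eq_prime (H := zpowers u) hp (Nat.card_zpowers u ▸ d)
    have v1 := ne_one_of_prime (ov ▸ hp)
    have vH : v ∉ H := fun e => hu (h.mem_of_zpowers h0 hv v1 e)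
    obtain ⟨w, hw, ow⟩ := H1.exists_mem_orderOf_eq_prime hp (((H4.card_modEq_card_inf_centralizer
      (Q := H) (q := p) (k := 1) (le_normalizer_of_normal (mem_top v))
      (by rw [pow_one, ← ov, pow_orderOf_eq_one])).dvd_iff dvd_rfl).1
      (ox ▸ H1.orderOf_dvd_card_of_mem hx))
    have w1 := ne_one_of_prime (ow ▸ hp)
    have e := (h.comm v1 (fun e => vH ((h.eq h0 w1 hw.1).le <| h.symm v1 w1 ((mul_mem_cancel_left
      (h.mem_of_zpowers v1 hv v1 (h.self v))).1 e))) (mul_mem (Cx_le_of_mem_zpowers hv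
        (self_mem_Cx u)) hw.2)).1
    refine h.pow_eq_one h0 hu ((QuotientGroup.eq_one_iff _).1 ?_)
    have := congrArg (QuotientGroup.mk (s := H)) (ov ▸ e ▸ pow_orderOf_eq_one (u * w))
    rwa [QuotientGroup.mk_pow, QuotientGroup.mk_mul, (QuotientGroup.eq_one_iff w).2 hw.1, mul_one] at this
  have b : 𝐂(H) ≤ F := by
    by_cases e : 𝐂(H) ≤ H
    · exact e.trans HF
    obtain ⟨c, hc, cH⟩ := SetLike.not_le_iff_exists.1 e
    refine (H1.le_pCore (isPGroup_iff_isPElt.2 fun u hu => ?_)).trans (H1.pCore_le_fitting p)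
    by_cases uH : u ∈ H
    · rcases eq_or_ne u 1 with rfl | u1
      · exact isPElt_one
      exact pElt_of_prime ((cm uH u1 cH (mem_Cx'.2 (hc u uH))).symm.trans
        ((cm hx x1 cH (mem_Cx'.2 (hc x hx))).trans ox))
    · exact pElt_of_prime ((cm hx x1 uH (mem_Cx'.2 (hu x hx))).trans ox)
  have c : ∀ u ∈ F, ¬ p ∣ orderOf u → u ∈ H := fun u hu d => by_contra fun e =>
    d ((cm hx x1 e (mem_Cx_iff_commute.2 (H77.commute_of_isNilpotent_of_coprime inferInstance (HF hx) hu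
      (H35.coprime_orderOf (pElt_of_prime ox) d)))).trans ox).symm.dvd
  by_cases d : p ∣ F.index
  · refine .inl ⟨p, F, hp, fun e => hp.ne_one (by rwa [e, index_top, Nat.dvd_one] at d),
      pow_eq_one_of hp d (fun u hu => a u fun e => hu (HF e)) (fun K _ hK _ => H1.le_fitting hK)
      (fun t ht tt g => b fun k hk => ?_) fun u r _ hu e1 e2 => h.pow_eq_one h0 (fun e => hu (HF e))
        (c _ e2 (not_dvd_orderOf_pow e1 r))⟩
    have e1 := h.inverts h0 (fun e => ht (HF e)) tt (le_normalizer_of_normal (mem_top _)) (inv_mem hk)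
    have e2 := h.inverts h0 (t := g * t * g⁻¹) (fun e => ht (HF (by
      simpa [mul_assoc] using Normal.conj_mem' inferInstance _ e g))) (by
      rw [conj_mul, tt]; simp) (le_normalizer_of_normal (mem_top _)) hk
    rw [inv_inv] at e1
    calc k * (t * (g * t * g⁻¹)) = t * k⁻¹ * t⁻¹ * (t * (g * t * g⁻¹)) := by rw [e1]
      _ = _ := by rw [← e2]; group
  by_cases hF : F = ⊤
  · exact .inl ⟨p, H, hp, h.ne_top h0, fun u hu => a u hu (by_contra fun e => hu (c u (hF ▸ mem_top u) e))⟩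
  refine .inr ⟨F, inferInstance, fun e => h.ne_bot h0 (eq_bot_iff.2 (e ▸ HF)), hF,
    fun y hy y1 u hu => by_contra fun uF => ?_⟩
  have up : ¬ p ∣ orderOf u := fun e => uF (IsPElt.mem_of_index d (isPElt_of_pow_eq_one (k := 1)
    (by rw [pow_one, a u (fun e => uF (HF e)) e])))
  by_cases yH : y ∈ H
  · have e := cm yH y1 (fun e => uF (HF e)) hu
    exact up (e ▸ og ▸ (cm yH y1 gH (mem_Cx_iff_commute'.2 (H77.commute_of_isNilpotent_of_coprime
      inferInstance ((pElt_of_prime og).mem_of_index d) hy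
      (H35.coprime_orderOf (pElt_of_prime og) (e ▸ up))))).dvd)
  have yp := a y yH (by_contra fun e => yH (c y hy e))
  have e := a (y * u) (fun e => uF ((mul_mem_cancel_left hy).1 (HF e))) (H35.dvd_orderOf_mul
    (isPElt_of_pow_eq_one (k := 1) (by rwa [pow_one])) y1 up (mem_Cx_iff_commute.1 hu))
  rw [(mem_Cx_iff_commute.1 hu).mul_pow, yp, one_mul] at e
  exact uF ((isPElt_of_pow_eq_one (k := 1) (by rwa [pow_one])).eq_one_of_not_dvd up ▸ one_mem _)

end Part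

end H32
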