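import Mathlib
import Cfsg.Agent.Base
import Cfsg.Agent.Lib.CIT.Part1
import Cfsg.Agent.Lib.FGS.Ito

/-! Centralisers whose `r`- and `s`-elements are central are conjugate. -/

set_option autoImplicit false
set_option linter.unusedSectionVars false
set_option linter.style.haveILetI false

namespace H32

open Subgroup H69 H80 H35 Matrix
open scoped MatrixGroups Pointwise commutatorElement

variable {G : Type*} [Group G] [Finite G]

/-- The order of the centraliser modulo the centre. -/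
noncomputable abbrev rho (x : G) : ℕ := (center G).relIndex Cx⟦x⟧

theorem rho_ne_zero (x : G) : rho x ≠ 0 := index_ne_zero_of_finite

/-- The `q`-elements of `C(u)` are central in `C(u)`. -/
def CenQ (q : ℕ) (u : G) : Prop := ∀ w : G, IsPElt q w → w ∈ Cx⟦u⟧ → Cx⟦u⟧ ≤ Cx⟦w⟧

theorem CenQ.mem_syl {q : ℕ} [Fact q.Prime] {u : G} (h : CenQ q u) {T : Subgroup G}
    (hT : IsSylowIn q T Cx⟦u⟧) {x : G} : x ∈ T ↔ x ∈ Cx⟦u⟧ ∧ IsPElt q x := by
  refine ⟨fun hx => ⟨hT.le hx, isPElt_of_mem hT.isP hx⟩, fun ⟨h1, h2⟩ => ?_⟩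
  refine hT.le_of_le_normalizer (isPElt_iff_zpowers.1 h2) (zpowers_le.2 h1) ?_ (mem_zpowers x)
  refine le_normalizer_of_le_centralizer ?_
  rw [H80.centralizer_zpowers]
  exact hT.le.trans (h x h2 h1)

theorem Cx_cj (g x : G) : Cx⟦g * x * g⁻¹⟧ = Cx⟦x⟧ ^ᶜ g := (cj_centralizer_singleton x g).symm

theorem conj_not_mem_center {x : G} (h : x ∉ center G) (g : G) : g * x * g⁻¹ ∉ center G :=
  fun e => h (by simpa [mul_assoc] using (inferInstance : (center G).Normal).conj_mem _ e g⁻¹)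

theorem CenQ.exists_conj {q : ℕ} [Fact q.Prime] {u : G} (h : CenQ q u) (R : Sylow q G) :
    ∃ g : G, ∀ x ∈ Cx⟦g * u * g⁻¹⟧, IsPElt q x → x ∈ (R : Subgroup G) := by
  obtain ⟨T, hT⟩ := exists_isSylowIn q Cx⟦u⟧
  obtain ⟨g, -, hg⟩ := (isSylowIn_top R).exists_cj_le hT.isP le_top
  refine ⟨g, fun x hx hp => hg (mem_cj.2 ((h.mem_syl hT).2 ⟨?_, ?_⟩))⟩
  · rwa [Cx_cj, mem_cj] at hx
  · simpa using hp.conj g⁻¹

theorem card_map_mk (H : Subgroup G) :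
    Nat.card (H.map (QuotientGroup.mk' (center G))) = (center G).relIndex H := by
  rw [← relIndex_ker, QuotientGroup.ker_mk']

theorem mem_norm_Cx {u w : G} (h : ⁅u, w⁆ ∈ center G) : w ∈ 𝐍(Cx⟦u⟧) := by
  rw [← cj_eq_self_iff, ← Cx_cj]
  have : w * u * w⁻¹ = ⁅u, w⁆⁻¹ * u := by simp [commutatorElement_def, mul_assoc]
  rw [this, Cx_mul_of_mem_center' (inv_mem h)]

theorem exists_cen_mod {q : ℕ} [Fact q.Prime] {P N : Subgroup G} (hP : IsPGroup q P) (hNP : N ≤ P)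
    (hN : P ≤ 𝐍(N)) (h : ¬ N ≤ center G) :
    ∃ u ∈ N, u ∉ center G ∧ IsPElt q u ∧ ∀ g ∈ P, ⁅u, g⁆ ∈ center G := by
  obtain ⟨u, h1, h2, -, h3⟩ := H5.exists_step_of_le hP (center G) hNP hN h
  exact ⟨u, h1, h2, isPElt_of_mem hP (hNP h1), h3⟩

theorem CenQ.le_norm {q : ℕ} [Fact q.Prime] {u : G} (h : CenQ q u) {T : Subgroup G}
    (hT : IsSylowIn q T Cx⟦u⟧) : 𝐍(Cx⟦u⟧) ≤ 𝐍(T) := fun g hg =>
  mem_normalizer_of_cj_le fun x hx => by
    obtain ⟨a, ha, rfl⟩ := mem_cj'.1 hx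
    obtain ⟨h1, h2⟩ := (h.mem_syl hT).1 ha
    exact (h.mem_syl hT).2 ⟨conj_mem_of_mem_normalizer hg h1, h2.conj g⟩

theorem dvd_sub_one_mod {W T : Subgroup G} (hn : W ≤ 𝐍(T))
    (h : ∀ w ∈ W, ∀ t ∈ T, ⁅w, t⁆ ∈ center G → w ∈ center G ∨ t ∈ center G) :
    (center G).relIndex W ∣ (center G).relIndex T - 1 := by
  rw [← card_map_mk, ← card_map_mk]
  refine H2.card_dvd_sub_one_of_semiregular ((map_mono hn).trans (le_normalizer_map _)) ?_
  rintro _ ⟨w, hw, rfl⟩ h1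
  rw [eq_bot_iff]
  rintro _ ⟨⟨t, ht, rfl⟩, hc⟩
  have := commutator_mem_of_commute_mk.1 (mem_Cx_iff_commute.1 hc)
  rcases h w hw t ht this with e | e
  · exact (h1 ((QuotientGroup.eq_one_iff _).2 e)).elim
  · exact (QuotientGroup.eq_one_iff _).2 e

theorem relIndex_syl {q : ℕ} [Fact q.Prime] {T L : Subgroup G} (hT : IsSylowIn q T L) :
    (center G).relIndex T = q ^ ((center G).relIndex L).factorization q := by
  rw [← card_map_mk, ← card_map_mk]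
  exact (hT.map _).card_eq_pow_factorization

/-- Non-central `r`- or `s`-elements. -/
def NE (r s : ℕ) (u : G) : Prop := u ∉ center G ∧ (IsPElt r u ∨ IsPElt s u)

theorem NE.symm {r s : ℕ} {u : G} (h : NE r s u) : NE s r u := ⟨h.1, h.2.symm⟩

theorem NE.conj {r s : ℕ} {u : G} (h : NE r s u) (g : G) : NE r s (g * u * g⁻¹) :=
  ⟨conj_not_mem_center h.1 g, h.2.imp (·.conj g) (·.conj g)⟩

structure LH (G : Type*) [Group G] [Finite G] (r s : ℕ) : Prop where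
  hr : r.Prime
  hs : s.Prime
  ne : r ≠ s
  cen : ∀ u : G, NE r s u → CenQ r u ∧ CenQ s u
  fr : ∀ u v : G, NE r s u → NE r s v → (rho u).factorization r = (rho v).factorization r ∧
    (rho u).factorization s = (rho v).factorization s
  exr : ∃ u : G, u ∉ center G ∧ IsPElt r u
  exs : ∃ u : G, u ∉ center G ∧ IsPElt s u

namespace LH

variable {r s : ℕ} (h : LH G r s)
include h

theorem symm : LH G s r :=
  ⟨h.hs, h.hr, h.ne.symm, fun u hu => (h.cen u hu.symm).symm,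
    fun u v hu hv => (h.fr u v hu.symm hv.symm).symm, h.exs, h.exr⟩

theorem eq {u w : G} (hu : NE r s u) (hw : NE r s w) (e : w ∈ Cx⟦u⟧) : Cx⟦u⟧ = Cx⟦w⟧ :=
  le_antisymm (hw.2.elim (fun a => (h.cen u hu).1 w a e) fun a => (h.cen u hu).2 w a e)
    (hu.2.elim (fun a => (h.cen w hw).1 u a (mem_Cx_comm.1 e))
      fun a => (h.cen w hw).2 u a (mem_Cx_comm.1 e))

theorem dvd {u : G} (hu : NE r s u) : r ∣ rho u := by
  haveI := Fact.mk h.hr
  obtain ⟨v, h1, h2⟩ := h.exr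
  have h3 : r ∣ rho v := dvd_relIndex_center (self_mem_Cx v) h1 h2
  rw [h.hr.dvd_iff_one_le_factorization (rho_ne_zero _)] at h3 ⊢
  rwa [(h.fr u v hu ⟨h1, .inl h2⟩).1]

theorem exists_r {u : G} (hu : NE r s u) :
    ∃ v : G, v ∉ center G ∧ IsPElt r v ∧ Cx⟦u⟧ = Cx⟦v⟧ := by
  haveI := Fact.mk h.hr
  obtain ⟨v, h1, h2, h3⟩ := exists_pElt_not_mem (h.dvd hu)
  exact ⟨v, h2, h3, h.eq hu ⟨h2, .inl h3⟩ h1⟩

theorem half0 {u v : G} (hu : u ∉ center G) (hu' : IsPElt r u) (hv : v ∉ center G) (hv' : IsPElt r v)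
    (hn : u ∉ Cx⟦v⟧) (hc : ∀ w ∈ Cx⟦v⟧, IsPElt r w → ⁅u, w⁆ ∈ center G) :
    r ^ (rho v).factorization r ∣ s ^ (rho u).factorization s - 1 := by
  haveI := Fact.mk h.hr
  haveI := Fact.mk h.hs
  obtain ⟨W, hW⟩ := exists_isSylowIn r Cx⟦v⟧
  obtain ⟨T, hT⟩ := exists_isSylowIn s Cx⟦u⟧
  have nu : NE r s u := ⟨hu, .inl hu'⟩
  have nv : NE r s v := ⟨hv, .inl hv'⟩
  rw [← relIndex_syl hW, ← relIndex_syl hT]
  refine dvd_sub_one_mod (fun w hw => (h.cen u nu).2.le_norm hT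
    (mem_norm_Cx (hc w (hW.le hw) (isPElt_of_mem hW.isP hw)))) fun w hw t ht e => ?_
  by_contra hh
  push Not at hh
  have pw := isPElt_of_mem hW.isP hw
  have pt := isPElt_of_mem hT.isP ht
  have c := commute_of_commutator_mem_center e (cop_of_pElt h.hr h.hs h.ne pw pt)
  have e1 := h.eq nv ⟨hh.1, .inl pw⟩ (hW.le hw)
  have e2 := h.eq ⟨hh.1, .inl pw⟩ ⟨hh.2, .inr pt⟩ (mem_Cx_iff_commute.2 c)
  have e3 := h.eq nu ⟨hh.2, .inr pt⟩ (hT.le ht)
  exact hn (by rw [e1, e2, ← e3]; exact self_mem_Cx u)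

theorem half {u v : G} (hu : NE r s u) (hv : NE r s v) (hn : ∀ g : G, Cx⟦u⟧ ^ᶜ g ≠ Cx⟦v⟧) :
    r ^ (rho u).factorization r ∣ s ^ (rho u).factorization s - 1 := by
  haveI := Fact.mk h.hr
  obtain ⟨u₁, a1, a2, a3⟩ := h.exists_r hu
  obtain ⟨v₁, b1, b2, b3⟩ := h.exists_r hv
  have nu : NE r s u₁ := ⟨a1, .inl a2⟩
  have nv : NE r s v₁ := ⟨b1, .inl b2⟩
  obtain ⟨R⟩ : Nonempty (Sylow r G) := inferInstance
  obtain ⟨g, hg⟩ := (h.cen _ nu).1.exists_conj R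
  obtain ⟨k, hk⟩ := (h.cen _ nv).1.exists_conj R
  obtain ⟨z, -, z1, z2, z3⟩ := exists_cen_mod R.isPGroup' le_rfl le_normalizer
    (fun e => conj_not_mem_center a1 g (e (hg _ (self_mem_Cx _) (a2.conj g))))
  have nz : NE r s z := ⟨z1, .inl z2⟩
  by_cases c1 : z ∈ Cx⟦g * u₁ * g⁻¹⟧
  · by_cases c2 : z ∈ Cx⟦k * v₁ * k⁻¹⟧
    · have e := (h.eq (nu.conj g) nz c1).trans (h.eq (nv.conj k) nz c2).symm
      rw [Cx_cj, Cx_cj, ← a3, ← b3, cj_eq_iff, cj_cj, eq_comm, cj_eq_iff, eq_comm] at e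
      exact (hn _ e).elim
    · have := h.half0 z1 z2 (conj_not_mem_center b1 k) (b2.conj k) c2 fun w a b => z3 w (hk w a b)
      rwa [(h.fr _ u (nv.conj k) hu).1, (h.fr _ u nz hu).2] at this
  · have := h.half0 z1 z2 (conj_not_mem_center a1 g) (a2.conj g) c1 fun w a b => z3 w (hg w a b)
    rwa [(h.fr _ u (nu.conj g) hu).1, (h.fr _ u nz hu).2] at this

theorem conj {u v : G} (hu : NE r s u) (hv : NE r s v) : ∃ g : G, Cx⟦u⟧ ^ᶜ g = Cx⟦v⟧ := by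
  by_contra hn
  push Not at hn
  have h1 := h.half hu hv hn
  have h2 := h.symm.half hu.symm hv.symm hn
  have h0 := rho_ne_zero u
  have d1 := (h.hr.dvd_iff_one_le_factorization h0).1 (h.dvd hu)
  have d2 := (h.hs.dvd_iff_one_le_factorization h0).1 (h.symm.dvd hu.symm)
  have l1 := Nat.one_lt_pow (Nat.one_le_iff_ne_zero.1 d1) h.hr.one_lt
  have l2 := Nat.one_lt_pow (Nat.one_le_iff_ne_zero.1 d2) h.hs.one_lt
  have := Nat.le_of_dvd (by omega) h1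
  have := Nat.le_of_dvd (by omega) h2
  omega

end LH

end H32
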