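import Mathlib
import Cfsg.Agent.Base
import Cfsg.Agent.Lib.CIT.Ito1
import Cfsg.Agent.Lib.FGS.Kazarin

/-! Two `p`-regular class sizes `1, k` and two primes `≠ p` in `|G : Z(G)|` force `k` to be a power of `p`. -/

set_option autoImplicit false
set_option linter.unusedSectionVars false
set_option linter.style.haveILetI false

namespace H32

open Subgroup H69 H80 H35 Matrix
open scoped MatrixGroups Pointwise commutatorElement

variable {G : Type*} [Group G] [Finite G]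

theorem le_of_forall_pElt {B M : Subgroup G}
    (h : ∀ (q : ℕ) (x : G), q.Prime → IsPElt q x → x ∈ M → x ∈ B) : M ≤ B := fun _ hg =>
  mem_of_forall_isPElt_zpowers fun q x hq _ hx hz => h q x hq hx (zpowers_le.2 hg hz)

theorem pow_mem_of_zpowers {K : Subgroup G} {w y : G} {q : ℕ} (h : w ^ q ∈ K) (hy : y ∈ zpowers w) :
    y ^ q ∈ K := by
  obtain ⟨n, rfl⟩ := hy
  simp only
  rw [← zpow_natCast, ← _root_.zpow_mul, mul_comm, _root_.zpow_mul, zpow_natCast]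
  exact zpow_mem h n

theorem pReg_mem_of_pow_mem {K : Subgroup G} {w : G} {q : ℕ} [hq : Fact q.Prime] (h : w ^ q ∈ K) :
    pReg q w ∈ K :=
  mem_of_pow_mem_of_coprime (p := q) (k := 1)
    ((Nat.Prime.coprime_iff_not_dvd hq.out).2 (not_dvd_orderOf_pReg q w)).symm
    (by simpa using pow_mem_of_zpowers h (pReg_mem_zpowers q w))

theorem nilp_sec {L K N : Subgroup G} (hLK : L ≤ K) (hKN : K ≤ N) (hK : N ≤ 𝐍(K)) (hL : N ≤ 𝐍(L))
    {q : ℕ} (hq : q.Prime) {x : G} (hx : x ∈ N) (hxK : x ∉ K) (hxq : IsPElt q x)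
    (h : ∀ u ∈ N, u ∉ K → u ^ q ∈ K → u ^ q ∈ L) {a b : G} (ha : a ∈ K) (hb : b ∈ K)
    (hc : (orderOf a).Coprime (orderOf b)) : ⁅a, b⁆ ∈ L := by
  haveI := Fact.mk hq
  haveI : (L.subgroupOf N).Normal := (normal_subgroupOf_iff_le_normalizer (hLK.trans hKN)).2 hL
  haveI : (K.subgroupOf N).Normal := (normal_subgroupOf_iff_le_normalizer hKN).2 hK
  set f := QuotientGroup.mk' (L.subgroupOf N)
  have hf : Function.Surjective f := QuotientGroup.mk'_surjective _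
  have hker : f.ker ≤ K.subgroupOf N := by
    rw [QuotientGroup.ker_mk']; exact subgroupOf_mono N hLK
  haveI : ((K.subgroupOf N).map f).Normal := Normal.map inferInstance f hf
  have hm : ∀ u : N, f u ∈ (K.subgroupOf N).map f ↔ (u : G) ∈ K := fun u => by
    rw [← mem_comap, comap_map_eq_self hker, mem_subgroupOf]
  have hn : Group.IsNilpotent ((K.subgroupOf N).map f) := by
    refine nilp_of_index hq ?_ fun u hu hq' => ?_
    · by_contra hd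
      exact hxK ((hm ⟨x, hx⟩).1 (IsPElt.mem_of_index hd (((isPElt_coe _).1 hxq).map f)))
    · obtain ⟨u, rfl⟩ := hf u
      rw [← map_pow] at hq' ⊢
      exact (QuotientGroup.eq_one_iff _).2 (h u u.2 (mt (hm u).2 hu) ((hm _).1 hq'))
  have c := H77.commute_of_isNilpotent_of_coprime hn ((hm ⟨a, hKN ha⟩).2 ha) ((hm ⟨b, hKN hb⟩).2 hb)
    (Nat.Coprime.coprime_dvd_left (orderOf_map_dvd _ _) (Nat.Coprime.coprime_dvd_right
      (orderOf_map_dvd _ _) (by simpa using hc)))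
  exact (commutator_mem_of_commute_mk (N := L.subgroupOf N)).1 c

theorem comm_aux {t j x : G} (c0 : ⁅t, j⁆ ∈ center G)
    (c1 : Commute (x * t * x⁻¹) (j⁻¹ * (x * j * x⁻¹))) : Commute (t⁻¹ * (x * t * x⁻¹)) j := by
  have z := mem_center_iff.1 c0
  generalize hc : ⁅t, j⁆ = c at z
  have e1 : t * j = j * (c * t) := by
    rw [← mul_assoc, z j, ← hc]; simp [commutatorElement_def, mul_assoc]
  have e2 : x * t * x⁻¹ * (x * j * x⁻¹) = x * j * x⁻¹ * (c * (x * t * x⁻¹)) := by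
    calc _ = x * (t * j) * x⁻¹ := by group
      _ = x * j * x⁻¹ * ((x * c) * t * x⁻¹) := by rw [e1]; group
      _ = _ := by rw [z x]; group
  generalize x * t * x⁻¹ = a at *
  generalize x * j * x⁻¹ = b at *
  have e3 : a * j = j * (c * a) := by
    apply mul_right_cancel (b := j⁻¹ * b)
    calc _ = a * b := by group
      _ = j * ((j⁻¹ * b) * c) * a := by rw [e2]; group
      _ = j * c * ((j⁻¹ * b) * a) := by rw [z]; group
      _ = _ := by rw [← c1.eq]; group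
  calc t⁻¹ * a * j = t⁻¹ * (j * (c * t)) * (t⁻¹ * a) := by rw [mul_assoc, e3]; group
    _ = j * (t⁻¹ * a) := by rw [← e1]; group

theorem comm_conj {t a : G} (ha : a ∈ 𝐍(Cx⟦t⟧)) : Commute (a * t * a⁻¹) t⁻¹ :=
  (mem_Cx_iff_commute'.1 (conj_mem_of_mem_normalizer ha (self_mem_Cx t))).inv_right

/-- Non-central `p`-regular elements. -/
def Reg (p : ℕ) (u : G) : Prop := u ∉ center G ∧ ¬ p ∣ orderOf u

theorem Reg.conj {p : ℕ} {u : G} (h : Reg p u) (g : G) : Reg p (g * u * g⁻¹) :=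
  ⟨conj_not_mem_center h.1 g, by rw [orderOf_conj]; exact h.2⟩

theorem exists_nc_pElt {q : ℕ} (hq : q.Prime) (h : q ∣ (center G).index) :
    ∃ u : G, u ∉ center G ∧ IsPElt q u := by
  haveI := Fact.mk hq
  obtain ⟨u, -, h1, h2⟩ := exists_pElt_not_mem (p := q) (Z := center G) (M := ⊤) (by rwa [relIndex_top_right])
  exact ⟨u, h1, h2⟩

theorem dvd_index_center {q : ℕ} (hq : q.Prime) {u : G} (h1 : u ∉ center G) (h2 : IsPElt q u) :
    q ∣ (center G).index := by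
  haveI := Fact.mk hq
  rw [← relIndex_top_right]
  exact dvd_relIndex_center (mem_top u) h1 h2

structure TB (G : Type*) [Group G] (p k : ℕ) : Prop where
  hp : p.Prime
  cs : ∀ x : G, ¬ p ∣ orderOf x → cs⟦x⟧ = 1 ∨ cs⟦x⟧ = k
  two : ∀ q : ℕ, ∃ r : ℕ, r.Prime ∧ r ≠ p ∧ r ≠ q ∧ r ∣ (center G).index

namespace TB

variable {p k : ℕ} (h : TB G p k)
include h

theorem cs_eq {u : G} (hu : Reg p u) : cs⟦u⟧ = k :=
  (h.cs u hu.2).resolve_left fun e => hu.1 (cs_eq_one_iff.1 e)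

theorem reg {q : ℕ} (hq : q.Prime) (hqp : q ≠ p) {u : G} (h1 : u ∉ center G) (h2 : IsPElt q u) :
    Reg p u := ⟨h1, not_dvd_of_pElt h.hp hq hqp h2⟩

theorem eq_of_le {u w : G} (hu : Reg p u) (hw : Reg p w) (e : Cx⟦u⟧ ≤ Cx⟦w⟧) : Cx⟦u⟧ = Cx⟦w⟧ :=
  eq_of_le_of_index e ((h.cs_eq hu).trans (h.cs_eq hw).symm)

theorem le_of_cop {u w : G} (hu : Reg p u) (hw : ¬ p ∣ orderOf w) (e : w ∈ Cx⟦u⟧)
    (hc : (orderOf u).Coprime (orderOf w)) : Cx⟦u⟧ ≤ Cx⟦w⟧ := by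
  haveI := Fact.mk h.hp
  have c := mem_Cx_iff_commute.1 e
  refine Cx_le_of_mul e hc ((h.cs_eq ⟨fun a => hu.1 (cs_eq_one_iff.1 (Nat.dvd_one.1 ?_)),
    not_dvd_orderOf_mul hu.2 hw c⟩).trans (h.cs_eq hu).symm)
  exact cs_eq_one_iff.2 a ▸ cs_dvd_cs_mul_left c hc

theorem exists_mem {q : ℕ} (hq : q.Prime) (hqp : q ≠ p) (hd : q ∣ (center G).index) {u : G}
    (hu : Reg p u) : ∃ v ∈ Cx⟦u⟧, v ∉ center G ∧ IsPElt q v := by
  obtain ⟨v, h1, h2⟩ := exists_nc_pElt hq hd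
  exact exists_pElt_Cx hq ((h.cs_eq (h.reg hq hqp h1 h2)).trans (h.cs_eq hu).symm) (self_mem_Cx v) h1 h2

theorem le {u w : G} (hu : Reg p u) (hw : ¬ p ∣ orderOf w) (e : w ∈ Cx⟦u⟧) : Cx⟦u⟧ ≤ Cx⟦w⟧ := by
  obtain ⟨q, x, hq, d, x1, x2, x3⟩ := exists_pElt_zpowers hu.1
  haveI := Fact.mk hq
  have hqp : q ≠ p := fun a => hu.2 (a ▸ d)
  have rx := h.reg hq hqp x3 x1
  have e1 := h.eq_of_le hu rx (Cx_le_of_mem_zpowers x2)
  obtain ⟨r, hr, rp, rq, rd⟩ := h.two q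
  obtain ⟨v, v1, v2, v3⟩ := h.exists_mem hr rp rd rx
  have rv := h.reg hr rp v2 v3
  have e2 := h.eq_of_le rx rv (h.le_of_cop rx rv.2 v1 (cop_of_pElt hq hr rq.symm x1 v3))
  rw [e1] at e ⊢
  rw [centralizer_eq_inf q w]
  refine le_inf ?_ (h.le_of_cop rx (not_dvd_orderOf_of_mem_zpowers hw (pReg_mem_zpowers q w))
    (pReg_mem q e) (H35.coprime_orderOf x1 (not_dvd_orderOf_pReg q w)))
  rw [e2] at e ⊢
  exact h.le_of_cop rv (not_dvd_orderOf_of_mem_zpowers hw (pPart_mem_zpowers q w)) (pPart_mem q e)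
    (cop_of_pElt hr hq rq v3 (isPElt_pPart q w))

theorem eq {u w : G} (hu : Reg p u) (hw : Reg p w) (e : w ∈ Cx⟦u⟧) : Cx⟦u⟧ = Cx⟦w⟧ :=
  h.eq_of_le hu hw (h.le hu hw.2 e)

theorem cenQ {q : ℕ} (hq : q.Prime) (hqp : q ≠ p) {u : G} (hu : Reg p u) : CenQ q u :=
  fun _ a b => h.le hu (not_dvd_of_pElt h.hp hq hqp a) b

theorem exists_eq {q : ℕ} (hq : q.Prime) (hqp : q ≠ p) (hd : q ∣ (center G).index) {u : G}
    (hu : Reg p u) : ∃ v : G, v ∉ center G ∧ IsPElt q v ∧ Cx⟦u⟧ = Cx⟦v⟧ := by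
  obtain ⟨v, h1, h2, h3⟩ := h.exists_mem hq hqp hd hu
  exact ⟨v, h2, h3, h.eq hu (h.reg hq hqp h2 h3) h1⟩

theorem conj {u v : G} (hu : Reg p u) (hv : Reg p v) : ∃ g : G, Cx⟦u⟧ ^ᶜ g = Cx⟦v⟧ := by
  obtain ⟨r, hr, rp, -, rd⟩ := h.two p
  obtain ⟨s, hs, sp, sr, sd⟩ := h.two r
  have ne : ∀ x : G, NE r s x → Reg p x := fun x hx =>
    hx.2.elim (h.reg hr rp hx.1) (h.reg hs sp hx.1)
  have L : LH G r s := ⟨hr, hs, sr.symm, fun x hx => ⟨h.cenQ hr rp (ne x hx), h.cenQ hs sp (ne x hx)⟩,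
    fun x y hx hy => by
      simp [rho, relIndex_center_eq ((h.cs_eq (ne x hx)).trans (h.cs_eq (ne y hy)).symm)],
    exists_nc_pElt hr rd, exists_nc_pElt hs sd⟩
  obtain ⟨x, x1, x2, x3⟩ := h.exists_eq hr rp rd hu
  obtain ⟨y, y1, y2, y3⟩ := h.exists_eq hr rp rd hv
  rw [x3, y3]
  exact L.conj ⟨x1, .inl x2⟩ ⟨y1, .inl y2⟩

theorem not_dvd_index_norm {q : ℕ} (hq : q.Prime) (hqp : q ≠ p) {u : G} (hu : Reg p u) :
    ¬ q ∣ (𝐍(Cx⟦u⟧)).index := by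
  haveI := Fact.mk hq
  obtain ⟨Q⟩ : Nonempty (Sylow q G) := inferInstance
  by_cases hQ : (Q : Subgroup G) ≤ center G
  · exact not_dvd_index_of_sylow_le Q (hQ.trans ((center_le_Cx u).trans le_normalizer))
  obtain ⟨z, -, z1, z2, z3⟩ := exists_cen_mod Q.isPGroup' le_rfl le_normalizer hQ
  obtain ⟨g, hg⟩ := h.conj (h.reg hq hqp z1 z2) hu
  refine not_dvd_index_of_sylow_le (g • Q) ?_
  rw [coe_smul_sylow, ← hg, ← cj_normalizer]
  exact cj_mono g fun w hw => mem_norm_Cx (z3 w hw)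

/-- A `p`-regular element of `M = C(u)` commuting with an element outside `M` is central. -/
theorem mem_center {u x y : G} (hu : Reg p u) (hx : x ∈ Cx⟦u⟧) (hx' : ¬ p ∣ orderOf x)
    (hy : y ∉ Cx⟦u⟧) (c : Commute x y) : x ∈ center G := by
  by_contra e
  exact hy (h.eq hu ⟨e, hx'⟩ hx ▸ mem_Cx_iff_commute.2 c)

theorem comm_lemma {u j x : G} (hu : Reg p u) {q : ℕ} (hq : q.Prime) (hqp : q ≠ p)
    (hj : j ∈ 𝐍(Cx⟦u⟧)) (jq : IsPElt q j) (jM : j ∉ Cx⟦u⟧) (hx : x ∈ 𝐍(Cx⟦u⟧))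
    (xq : ¬ q ∣ orderOf x) (c : j⁻¹ * (x * j * x⁻¹) ∈ Cx⟦u⟧) : x ∈ Cx⟦u⟧ := by
  haveI := Fact.mk hq
  obtain ⟨T, hT⟩ := exists_isSylowIn q Cx⟦u⟧
  have cq := h.cenQ hq hqp hu
  have jT : zpowers j ≤ 𝐍(T) := zpowers_le.2 (cq.le_norm hT hj)
  obtain ⟨v, v1, v2, v3⟩ := h.exists_mem hq hqp
    (dvd_index_center hq (fun e => jM (center_le_Cx u e)) jq) hu
  obtain ⟨t, t1, t2, t3, t4⟩ := exists_cen_mod
    (isPGroup_sup_of_le_normalizer_left hT.isP (isPElt_iff_zpowers.1 jq) jT) le_sup_left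
    (sup_le le_normalizer jT) fun e => v2 (e ((cq.mem_syl hT).2 ⟨v1, v3⟩))
  have c0 := t4 j (mem_sup_right (mem_zpowers j))
  have t5 : x * t * x⁻¹ ∈ T := conj_mem_of_mem_normalizer (cq.le_norm hT hx) t1
  have c1 : Commute (x * t * x⁻¹) (j⁻¹ * (x * j * x⁻¹)) :=
    mem_Cx_iff_commute.1 (cq _ (t3.conj x) (hT.le t5) c)
  have c2 : Commute (t⁻¹ * (x * t * x⁻¹)) j := comm_aux c0 c1
  have c3 := h.mem_center hu (hT.le (mul_mem (inv_mem t1) t5)) (not_dvd_of_pElt h.hp hq hqp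
    (isPElt_of_mem hT.isP (mul_mem (inv_mem t1) t5))) jM c2
  have c4 : ⁅t⁻¹, x⁆ ∈ center G := by simpa [commutatorElement_def, mul_assoc] using c3
  have c5 := commute_of_commutator_mem_center c4 (H35.coprime_orderOf t3.inv xq)
  rw [h.eq hu (h.reg hq hqp t2 t3) (hT.le t1), ← Cx_inv]
  exact mem_Cx_iff_commute.2 c5

theorem comm_or {u j x : G} (hu : Reg p u) {q l : ℕ} (hq : q.Prime) (hl : l.Prime) (hql : q ≠ l)
    (hj : j ∈ 𝐍(Cx⟦u⟧)) (jq : IsPElt q j) (hx : x ∈ 𝐍(Cx⟦u⟧)) (xl : IsPElt l x) (c : Commute j x) :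
    j ∈ Cx⟦u⟧ ∨ x ∈ Cx⟦u⟧ := by
  by_contra hh
  push Not at hh
  by_cases e : q = p
  · exact hh.1 (h.comm_lemma hu hl (e ▸ hql.symm) hx xl hh.2 hj (not_dvd_of_pElt hl hq hql jq)
      (by rw [c.eq]; simp [mul_assoc, one_mem]))
  · exact hh.2 (h.comm_lemma hu hq e hj jq hh.1 hx (not_dvd_of_pElt hq hl hql.symm xl)
      (by rw [← c.eq]; simp [mul_assoc, one_mem]))

theorem mem_sylP [Fact p.Prime] {u : G} (hu : Reg p u) {T : Subgroup G} (hT : IsSylowIn p T Cx⟦u⟧)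
    {x : G} : x ∈ T ↔ x ∈ Cx⟦u⟧ ∧ IsPElt p x := by
  refine ⟨fun hx => ⟨hT.le hx, isPElt_of_mem hT.isP hx⟩, fun ⟨h1, h2⟩ => ?_⟩
  refine hT.le_of_le_normalizer' (isPElt_iff_zpowers.1 h2) (zpowers_le.2 h1)
    ((zpowers_le.2 h1).trans ?_) (mem_zpowers x)
  by_contra hn
  obtain ⟨q, hq, hd⟩ := Nat.exists_prime_and_dvd (mt relIndex_eq_one.1 hn)
  haveI := Fact.mk hq
  by_cases e : q = p
  · subst e
    rw [← inf_relIndex_right] at hd
    exact hT.not_dvd_relIndex_of_le (le_inf le_normalizer hT.le) inf_le_right hd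
  · obtain ⟨y, y1, y2, y3⟩ := exists_pElt_not_mem hd
    exact y2 (centralizer_le_normalizer _ (le_Cx_iff.1 (hT.le.trans (h.cenQ hq e hu y y3 y1))))

theorem claimK {u : G} (hu : Reg p u) {K : Subgroup G} (hMK : Cx⟦u⟧ ≤ K) (hKN : K ≤ 𝐍(Cx⟦u⟧))
    (hK : 𝐍(Cx⟦u⟧) ≤ 𝐍(K)) {l : ℕ} [hl : Fact l.Prime] (hKl : ∀ x ∈ K, pReg l x ∈ Cx⟦u⟧)
    (hne : ¬ K ≤ Cx⟦u⟧) {q : ℕ} (hq : q.Prime) (hql : q ≠ l) {x : G} (hx : x ∈ 𝐍(Cx⟦u⟧))
    (xq : IsPElt q x) : x ∈ Cx⟦u⟧ := by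
  haveI := Fact.mk h.hp
  haveI := Fact.mk hq
  have hK' : ∀ y ∈ K, IsPElt q y → y ∈ Cx⟦u⟧ := fun y a b =>
    pReg_eq_self (not_dvd_of_pElt hl.out hq hql b) ▸ hKl y a
  by_contra xM
  obtain ⟨T, hT⟩ := exists_isSylowIn p Cx⟦u⟧
  have nT : 𝐍(Cx⟦u⟧) ≤ 𝐍(T) := fun g hg => mem_normalizer_of_cj_le fun x hx => by
    obtain ⟨a, ha, rfl⟩ := mem_cj'.1 hx
    obtain ⟨h1, h2⟩ := (h.mem_sylP hu hT).1 ha
    exact (h.mem_sylP hu hT).2 ⟨conj_mem_of_mem_normalizer hg h1, h2.conj g⟩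
  obtain ⟨j, j1, j2⟩ := SetLike.not_le_iff_exists.1 hne
  have j3 : pPart l j ∉ Cx⟦u⟧ := fun e => j2 ((mem_iff_pPart_mem_and_pReg_mem l).2 ⟨e, hKl j j1⟩)
  obtain ⟨s, hs, sp, sl, sd⟩ := h.two l
  obtain ⟨t, t1, t2, t3⟩ := h.exists_mem hs sp sd hu
  have rt := h.reg hs sp t2 t3
  have cop := cop_of_pElt hl.out hs sl.symm (isPElt_pPart l j) t3
  have key : ⁅pPart l j, t⁆ ∈ T ⊔ center G := by
    refine nilp_sec (sup_le (hT.le.trans hMK) ((center_le_Cx u).trans hMK)) hKN hK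
      (le_normalizer_sup nT (le_top.trans (normalizer_eq_top _).ge)) hq hx
      (fun e => xM (hK' x e xq)) xq (fun w w1 w2 w3 => ?_) (pPart_mem l j1) (hMK t1) cop
    have a1 : pReg q w ∈ K := pReg_mem_of_pow_mem w3
    have a2 : pPart q w ∉ Cx⟦u⟧ := fun e => w2 ((mem_iff_pPart_mem_and_pReg_mem q).2 ⟨hMK e, a1⟩)
    have a3 : pReg q w ∈ Cx⟦u⟧ := (mem_iff_pPart_mem_and_pReg_mem l).2
      ⟨(h.comm_or hu hq hl.out hql (pPart_mem q w1) (isPElt_pPart q w) (pPart_mem l (pReg_mem q w1))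
        (isPElt_pPart l _) (commute_pPart_of_commute l (commute_pPart_pReg q w))).resolve_left a2,
        hKl _ a1⟩
    have a4 : w ^ q ∈ Cx⟦u⟧ := by
      rw [← pPart_mul_pReg q w, (commute_pPart_pReg q w).mul_pow]
      exact mul_mem (hK' _ (pow_mem_of_zpowers w3 (pPart_mem_zpowers q w)) ((isPElt_pPart q w).pow q))
        (pow_mem a3 q)
    rw [← pPart_mul_pReg p (w ^ q)]
    exact mul_mem (mem_sup_left ((h.mem_sylP hu hT).2 ⟨pPart_mem p a4, isPElt_pPart p _⟩))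
      (mem_sup_right (h.mem_center hu (pReg_mem p a4) (not_dvd_orderOf_pReg p _)
        (fun e => w2 (hMK e)) (commute_pReg_of_commute p (Commute.refl w |>.pow_right q)).symm))
  have e := h.eq hu rt t1
  have c1 : pPart l j * t * (pPart l j)⁻¹ ∈ Cx⟦u⟧ :=
    conj_mem_of_mem_normalizer (hKN (pPart_mem l j1)) t1
  have c2 : ¬ p ∣ orderOf ⁅pPart l j, t⁆ := not_dvd_orderOf_mul (rt.conj _).2
    (by rw [orderOf_inv]; exact rt.2) (mem_Cx_iff_commute'.1 (e ▸ c1)).inv_right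
  obtain ⟨a, ha, z, hz, ez⟩ := (mem_sup_of_le_normalizer_right
    (le_top.trans (normalizer_eq_top _).ge)).1 key
  have c3 : ⁅pPart l j, t⁆ ∈ center G := by
    rw [← pReg_eq_self c2, ez, pReg_pElt_mul (isPElt_of_mem hT.isP ha) (mem_center_iff.1 hz a)]
    exact pReg_mem p hz
  exact j3 (e ▸ mem_Cx_iff_commute'.2 (commute_of_commutator_mem_center c3 cop))

theorem exists_K {u : G} (hu : Reg p u) (hne : ¬ 𝐍(Cx⟦u⟧) ≤ Cx⟦u⟧) :
    ∃ (K : Subgroup G) (l : ℕ) (_ : Fact l.Prime), Cx⟦u⟧ ≤ K ∧ K ≤ 𝐍(Cx⟦u⟧) ∧ 𝐍(Cx⟦u⟧) ≤ 𝐍(K) ∧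
      (∀ x ∈ K, pReg l x ∈ Cx⟦u⟧) ∧ ¬ K ≤ Cx⟦u⟧ := by
  by_cases ho : Odd ((Cx⟦u⟧).relIndex 𝐍(Cx⟦u⟧))
  · set M := Cx⟦u⟧
    set f := QuotientGroup.mk' (M.subgroupOf 𝐍(M))
    have hf : Function.Surjective f := QuotientGroup.mk'_surjective _
    haveI : Group.IsSolvable (𝐍(M) ⧸ M.subgroupOf 𝐍(M)) := Cfsg.Agent.S0205.result ho
    obtain ⟨V, l, hl, hV, V1, -, -, -, V2, -⟩ := H1.exists_elementary_abelian_normal_le
      (⊤ : Subgroup (𝐍(M) ⧸ M.subgroupOf 𝐍(M))) (fun e => hne fun x hx => by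
        have : f ⟨x, hx⟩ ∈ (⊥ : Subgroup _) := e ▸ mem_top _
        exact (QuotientGroup.eq_one_iff (N := M.subgroupOf 𝐍(M)) _).1 this) inferInstance
    haveI := Fact.mk hl
    refine ⟨(V.comap f).map (𝐍(M)).subtype, l, this, fun x hx => ⟨⟨x, le_normalizer hx⟩, ?_, rfl⟩,
      map_subtype_le _, normal_iff_le_normalizer_map.1 inferInstance, ?_, fun e => V1 ?_⟩
    · have : f ⟨x, le_normalizer hx⟩ = 1 := (QuotientGroup.eq_one_iff _).2 hx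
      simp [this, one_mem]
    · rintro _ ⟨x, hx, rfl⟩
      have := (isPElt_mk_iff l _ x).1 (isPElt_of_mem V2 hx)
      rwa [mem_subgroupOf, ← pReg_coe] at this
    · rw [eq_bot_iff]
      intro x hx
      obtain ⟨x, rfl⟩ := hf x
      exact (QuotientGroup.eq_one_iff (N := M.subgroupOf 𝐍(M)) _).2 (e ⟨x, hx, rfl⟩)
  haveI : Fact (Nat.Prime 2) := ⟨Nat.prime_two⟩
  obtain ⟨y, y1, y2, i, y3⟩ := exists_pElt_not_mem (even_iff_two_dvd.1 (Nat.not_odd_iff_even.1 ho))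
  obtain ⟨n, t2, t3⟩ := H5.exists_pow_not_mem_pow_mem (p := 2) (k := i) y2
    (by rw [← y3, pow_orderOf_eq_one]; exact one_mem _)
  have t1 := pow_mem y1 (2 ^ n)
  generalize y ^ 2 ^ n = t at t1 t2 t3
  obtain ⟨s, hs, sp, s2, sd⟩ := h.two 2
  haveI := Fact.mk hs
  obtain ⟨T, hT⟩ := exists_isSylowIn s Cx⟦u⟧
  have cs := h.cenQ hs sp hu
  have nT := cs.le_norm hT
  set π := QuotientGroup.mk' (center G)
  set K := 𝐍(Cx⟦u⟧) ⊓ (𝐂(T.map π)).comap π with hK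
  have mK : ∀ g : G, g ∈ K ↔ g ∈ 𝐍(Cx⟦u⟧) ∧ ∀ x ∈ T, ⁅x, g⁆ ∈ center G := fun g => by
    simp only [hK, mem_inf, mem_comap, mem_centralizer_iff_commute, and_congr_right_iff]
    refine fun _ => ⟨fun a x hx => commutator_mem_of_commute_mk.1 (a _ ⟨x, hx, rfl⟩), ?_⟩
    rintro a _ ⟨x, hx, rfl⟩
    exact commutator_mem_of_commute_mk.2 (a x hx)
  have cT : ∀ x ∈ T, ∀ m ∈ Cx⟦u⟧, Commute x m := fun x hx m hm =>
    mem_Cx_iff_commute.1 (cs x (isPElt_of_mem hT.isP hx) (hT.le hx) hm)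
  by_cases hKM : K ≤ Cx⟦u⟧
  · have inv : ∀ t ∈ 𝐍(Cx⟦u⟧), t ∉ Cx⟦u⟧ → t ^ 2 ∈ Cx⟦u⟧ → ∀ x ∈ T.map π,
        π t * x * (π t)⁻¹ = x⁻¹ := by
      rintro t t1 t2 t3 _ ⟨x, hx, rfl⟩
      have a1 := conj_mem_of_mem_normalizer (nT t1) hx
      have a2 : Commute (t * x * t⁻¹ * x) t := by
        have b1 := (cT x hx _ t3).eq
        have b2 := (cT x hx _ (hT.le a1)).eq
        calc t * x * t⁻¹ * x * t = (x * t ^ 2) * t⁻¹ * x := by rw [← b2, pow_two]; group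
          _ = _ := by rw [b1, pow_two]; group
      have a3 := h.mem_center hu (hT.le (mul_mem a1 hx)) (not_dvd_of_pElt h.hp hs sp
        (isPElt_of_mem hT.isP (mul_mem a1 hx))) t2 a2
      rw [eq_inv_iff_mul_eq_one]
      rw [← map_inv, ← map_mul, ← map_mul, ← map_mul]
      exact (QuotientGroup.eq_one_iff _).2 a3
    refine ⟨Cx⟦u⟧ ⊔ zpowers t, 2, inferInstance, le_sup_left, sup_le le_normalizer (zpowers_le.2 t1),
      fun g hg => mem_normalizer_of_cj_le ?_, fun x hx => pReg_mem_of_pow_mem ?_,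
      fun e => t2 (e (mem_sup_right (mem_zpowers t)))⟩
    · rw [cj_sup, cj_eq_of_mem_normalizer hg, cj_zpowers]
      refine sup_le le_sup_left (zpowers_le.2 ?_)
      have g1 : g * t * g⁻¹ ∈ 𝐍(Cx⟦u⟧) := mul_mem (mul_mem hg t1) (inv_mem hg)
      have g2 := inv _ g1 (fun e => t2 (by
        simpa [mul_assoc] using conj_mem_of_mem_normalizer' hg e))
        (by rw [conj_pow]; exact conj_mem_of_mem_normalizer hg t3)
      have g3 : t⁻¹ * (g * t * g⁻¹) ∈ K := by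
        refine mem_inf.2 ⟨mul_mem (inv_mem t1) g1, mem_centralizer_iff_commute.2 fun a ha => ?_⟩
        generalize g * t * g⁻¹ = t' at *
        have e1 := inv t t1 t2 t3 a ha
        have e2 := g2 a ha
        rw [map_mul, map_inv]
        calc a * ((π t)⁻¹ * π t') = (π t)⁻¹ * (π t * a * (π t)⁻¹) * π t' := by group
          _ = _ := by rw [e1, ← e2]; group
      have := mul_mem (mem_sup_right (mem_zpowers t)) (mem_sup_left (hKM g3) : _ ∈ Cx⟦u⟧ ⊔ zpowers t)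
      simpa using this
    · obtain ⟨m, hm, i, rfl⟩ := (H5.mem_sup_zpowers_iff t1).1 hx
      have : (m * t ^ i) ^ 2 = m * (t ^ i * m * (t ^ i)⁻¹) * (t ^ i) ^ 2 := by rw [pow_two, pow_two]; group
      rw [this]
      exact mul_mem (mul_mem hm (conj_mem_of_mem_normalizer (zpow_mem t1 i) hm))
        (pow_mem_of_zpowers t3 ⟨i, rfl⟩)
  refine ⟨K, s, inferInstance, fun m hm => (mK m).2 ⟨le_normalizer hm, fun x hx => ?_⟩, inf_le_left,
    le_normalizer_inf le_normalizer fun g hg => ?_, fun x hx => ?_, hKM⟩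
  · rw [(commutatorElement_eq_one_iff_commute).2 (cT x hx m hm)]; exact one_mem _
  · rw [← cj_eq_self_iff, comap_cj, cj_centralizer, ← map_cj, cj_eq_of_mem_normalizer (nT hg)]
  · obtain ⟨v, v1, v2, v3⟩ := h.exists_mem hs sp sd hu
    rw [h.eq hu (h.reg hs sp v2 v3) v1]
    exact mem_Cx_iff_commute.2 (commute_of_commutator_mem_center (((mK _).1 (pReg_mem s hx)).2 v
      ((cs.mem_syl hT).2 ⟨v1, v3⟩)) (H35.coprime_orderOf v3 (not_dvd_orderOf_pReg s x)))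

theorem not_dvd {r q : ℕ} (hr : r.Prime) (rp : r ≠ p) (rk : r ∣ k) (hq : q.Prime) (qp : q ≠ p)
    (qr : q ≠ r) : ¬ q ∣ k := by
  obtain ⟨s, hs, sp, -, sd⟩ := h.two p
  obtain ⟨u, u1, u2⟩ := exists_nc_pElt hs sd
  have hu := h.reg hs sp u1 u2
  have key : ∀ r : ℕ, r.Prime → r ≠ p → r ∣ k → ∃ x ∈ 𝐍(Cx⟦u⟧), x ∉ Cx⟦u⟧ ∧ IsPElt r x := by
    intro r hr rp rk
    haveI := Fact.mk hr
    rw [← h.cs_eq hu, ← relIndex_mul_index le_normalizer] at rk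
    exact exists_pElt_not_mem ((hr.dvd_mul.1 rk).resolve_right (h.not_dvd_index_norm hr rp hu))
  intro qk
  obtain ⟨x, x1, x2, x3⟩ := key r hr rp rk
  obtain ⟨y, y1, y2, y3⟩ := key q hq qp qk
  obtain ⟨K, l, _, a1, a2, a3, a4, a5⟩ := h.exists_K hu fun e => x2 (e x1)
  by_cases e : r = l
  · exact y2 (h.claimK hu a1 a2 a3 a4 a5 hq (e ▸ qr) y1 y3)
  · exact x2 (h.claimK hu a1 a2 a3 a4 a5 hr e x1 x3)

theorem exists_out {r : ℕ} [Fact r.Prime] (rk : r ∣ k) (S : Sylow r G) {u : G} (hu : Reg p u) :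
    ∃ g ∈ (S : Subgroup G), g ∉ Cx⟦u⟧ :=
  SetLike.not_le_iff_exists.1 fun e => not_dvd_index_of_sylow_le S e (h.cs_eq hu ▸ rk)

theorem no_sec {H : Type*} [Group H] [Finite H] {φ : G →* H} (hφ : Function.Surjective φ)
    (k1 : ∀ x : G, φ x = 1 → ¬ p ∣ orderOf x → x ∈ center G) (k2 : ∀ x ∈ center G, φ x = 1)
    {V : Subgroup H} [hV : V.Normal] {l : ℕ} (hl : l.Prime) (lp : l ≠ p) (Vl : IsPGroup l V)
    (V1 : V ≠ ⊥) {r : ℕ} (hr : r.Prime) (rp : r ≠ p) : ¬ r ∣ k := by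
  intro rk
  haveI := Fact.mk h.hp
  haveI := Fact.mk hl
  haveI := Fact.mk hr
  have claim : ∀ t a : G, Reg p t → a ∈ 𝐍(Cx⟦t⟧) → (orderOf a).Coprime (orderOf t) →
      φ ⁅a, t⁆ = 1 → a ∈ Cx⟦t⟧ := fun t a ht ha c e =>
    mem_Cx_iff_commute'.2 (commute_of_commutator_mem_center (k1 _ e (not_dvd_orderOf_mul (ht.conj a).2
      (by rw [orderOf_inv]; exact ht.2) (comm_conj ha))) c)
  have lift : ∀ S : Sylow l G, V ≤ (S : Subgroup G).map φ := fun S =>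
    Vl.le_sylow_of_normal (S.mapSurjective hφ)
  obtain ⟨⟨w, w1⟩, w2⟩ := (ne_bot_iff_exists_ne_one).1 V1
  have w3 : w ≠ 1 := fun e => w2 (Subtype.ext e)
  obtain ⟨R⟩ : Nonempty (Sylow r G) := inferInstance
  by_cases e : l = r
  · subst e
    obtain ⟨v₀, a1, a2⟩ := lift R w1
    obtain ⟨v, v1, v2, v3, v4⟩ := exists_cen_mod (N := V.comap φ ⊓ R) R.isPGroup' inf_le_right
      (le_normalizer_inf (le_top.trans (normalizer_eq_top _).ge) le_normalizer)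
      fun e => w3 (a2 ▸ k2 _ (e (mem_inf.2 ⟨mem_comap.2 (a2 ▸ w1), a1⟩)))
    obtain ⟨g, g1, g2⟩ := h.exists_out rk R (h.reg hl lp v2 v3)
    have rg := h.reg hl lp (fun e => g2 (center_le_Cx v e)) (isPElt_of_mem R.isPGroup' g1)
    obtain ⟨s, hs, sp, sl, sd⟩ := h.two l
    haveI := Fact.mk hs
    obtain ⟨t, t2, t3, t4⟩ := h.exists_eq hs sp sd rg
    have rt := h.reg hs sp t2 t3
    have n : v ∈ 𝐍(Cx⟦t⟧) :=
      t4 ▸ mem_norm_Cx (by rw [← commutatorElement_inv]; exact inv_mem (v4 g g1))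
    refine g2 (mem_Cx_comm.1 (t4 ▸ claim t v rt n (cop_of_pElt hl hs sl.symm v3 t3) ?_))
    have b1 : IsPElt s (φ ⁅v, t⁆) := ((t3.conj v).mul t3.inv (comm_conj n)).map φ
    have b2 : φ ⁅v, t⁆ ∈ V := by
      rw [commutatorElement_def, mul_assoc, mul_assoc, ← mul_assoc t, map_mul, map_mul, map_mul,
        map_inv, map_inv]
      exact mul_mem v1.1 (hV.conj_mem _ (inv_mem v1.1) _)
    exact b1.eq_one_of_not_dvd (not_dvd_of_pElt hs hl sl.symm (isPElt_of_mem Vl b2))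
  obtain ⟨s, hs, sp, -, sd⟩ := h.two p
  obtain ⟨u₀, a1, a2⟩ := exists_nc_pElt hs sd
  obtain ⟨g₀, a3, a4⟩ := h.exists_out rk R (h.reg hs sp a1 a2)
  obtain ⟨u, -, u2, u3, u4⟩ := exists_cen_mod R.isPGroup' le_rfl le_normalizer
    fun e => a4 (center_le_Cx _ (e a3))
  have ru := h.reg hr rp u2 u3
  obtain ⟨g, g1, g2⟩ := h.exists_out rk R ru
  have g3 := isPElt_of_mem R.isPGroup' g1
  have rg := h.reg hr rp (fun e => g2 (center_le_Cx u e)) g3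
  have lk := h.not_dvd hr rp rk hl lp e
  obtain ⟨S, hS⟩ := not_dvd_cs_iff.1 (h.cs_eq ru ▸ lk)
  obtain ⟨S', hS'⟩ := not_dvd_cs_iff.1 (h.cs_eq rg ▸ lk)
  obtain ⟨v, v1, v2⟩ := lift S w1
  obtain ⟨v', v3, v4⟩ := lift S' w1
  have v5 := isPElt_of_mem S.isPGroup' v1
  have rv := h.reg hl lp (fun e => w3 (v2 ▸ k2 _ e)) v5
  have e1 := h.eq ru rv (hS v1)
  refine g2 (e1 ▸ claim v g rv (e1 ▸ mem_norm_Cx (u4 g g1)) (cop_of_pElt hr hl (Ne.symm e) g3 v5) ?_)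
  rw [map_commutatorElement, v2, ← v4, ← map_commutatorElement,
    commutatorElement_eq_one_iff_commute.2 (mem_Cx_iff_commute.1 (hS' v3)), map_one]

theorem pow : ∃ a, k = p ^ a := by
  haveI := Fact.mk h.hp
  obtain ⟨s, hs, sp, -, sd⟩ := h.two p
  obtain ⟨u₀, a1, a2⟩ := exists_nc_pElt hs sd
  refine ⟨_, Nat.eq_prime_pow_of_unique_prime_dvd (h.cs_eq (h.reg hs sp a1 a2) ▸ cs_ne_zero u₀)
    fun {r} hr rk => by_contra fun rp => ?_⟩
  haveI := Fact.mk hr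
  obtain ⟨R⟩ : Nonempty (Sylow r G) := inferInstance
  obtain ⟨g₀, a3, a4⟩ := h.exists_out rk R (h.reg hs sp a1 a2)
  obtain ⟨u, -, u2, u3, u4⟩ := exists_cen_mod R.isPGroup' le_rfl le_normalizer
    fun e => a4 (center_le_Cx _ (e a3))
  have ru := h.reg hr rp u2 u3
  set π := QuotientGroup.mk' (center G)
  have hπ : Function.Surjective π := QuotientGroup.mk'_surjective _
  have rad : π u ∈ Cfsg.solvableRadical (G ⧸ center G) := by
    refine kazarin h.hp (Nat.eq_prime_pow_of_unique_prime_dvd (cs_ne_zero _)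
      fun {q} hq qd => by_contra fun qp => ?_)
    by_cases e : q = r
    · subst e
      rw [← index_comap_of_surjective _ hπ] at qd
      refine not_dvd_index_of_sylow_le R (fun g hg => mem_comap.2 (mem_Cx_iff_commute.2 ?_)) qd
      exact (commutator_mem_of_commute_mk (N := center G)).2 (u4 g hg)
    · exact h.not_dvd hr rp rk hq qp e (h.cs_eq ru ▸ qd.trans (cs_map_dvd hπ u))
  set ψ := QuotientGroup.mk' (Cfsg.pCore p (G ⧸ center G))
  have hψ : Function.Surjective ψ := QuotientGroup.mk'_surjective _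
  have k1 : ∀ x : G, (ψ.comp π) x = 1 → ¬ p ∣ orderOf x → x ∈ center G := fun x e hx =>
    (QuotientGroup.eq_one_iff _).1 ((isPElt_of_mem H1.isPGroup_pCore
      ((QuotientGroup.eq_one_iff _).1 e)).eq_one_of_not_dvd (not_dvd_orderOf_map π hx))
  haveI : ((Cfsg.solvableRadical (G ⧸ center G)).map ψ).Normal := Normal.map inferInstance ψ hψ
  obtain ⟨V, l, hl, hV, V1, -, -, -, V2, -⟩ := H1.exists_elementary_abelian_normal_le
    ((Cfsg.solvableRadical (G ⧸ center G)).map ψ)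
    (fun e => u2 (k1 u (mem_bot.1 (e ▸ ⟨_, rad, rfl⟩)) ru.2))
    (Group.isSolvable_of_surjective (ψ.subgroupMap_surjective _))
  refine h.no_sec (hψ.comp hπ) k1 (fun x hx => ?_) hl (fun e => V1 ?_) V2 V1 hr rp rk
  · rw [MonoidHom.comp_apply, show π x = 1 from (QuotientGroup.eq_one_iff x).2 hx, map_one]
  · subst e
    exact H1.pCore_eq_bot_iff.1 H1.pCore_quotient_pCore V hV V2

end TB

end H32
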