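import Mathlib
import Cfsg.Agent.Base
import Cfsg.Agent.Lib.CIT.Ito2

/-! Three class sizes with a proper inclusion of centralisers. -/

set_option autoImplicit false
set_option linter.unusedSectionVars false
set_option linter.style.haveILetI false

namespace H32

open Subgroup H69 H80 H35 Matrix
open scoped MatrixGroups Pointwise commutatorElement

variable {G : Type*} [Group G] [Finite G]

theorem central_of_ppow {p l i : ℕ} (hp : p.Prime) (hl : l.Prime) (lp : l ≠ p)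
    (hP : ∀ g : G, IsPElt p g → ∃ j, cs⟦g⟧ = p ^ j) {w : G} (hw : IsPElt l w) (e : cs⟦w⟧ = p ^ i) :
    w ∈ center G := by
  haveI := Fact.mk hp
  haveI := Fact.mk hl
  have hO : ∀ g : G, IsPElt p g → g ∈ Cfsg.pCore p G := fun g hg =>
    (hP g hg).elim fun _ => mem_pCore_of_cs_eq_pow hg
  obtain ⟨P⟩ : Nonempty (Sylow p G) := inferInstance
  have h1 : Cfsg.pCore p G ≤ Cx⟦w⟧ := le_of_forall_exists_conj_mem fun g hg => by
    obtain ⟨j, hj⟩ := hP g (isPElt_of_mem H1.isPGroup_pCore hg)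
    obtain ⟨S, hS⟩ := (not_dvd_cs_iff (p := l) (x := g)).1 fun d =>
      lp ((Nat.prime_dvd_prime_iff_eq hl hp).1 (hl.dvd_of_dvd_pow (hj ▸ d)))
    obtain ⟨a, ha⟩ := hw.exists_conj_mem S
    obtain ⟨u, hu, eu⟩ := exists_sylow_conj_eq P e a
    refine ⟨u⁻¹, inv_mem (hO u (isPElt_of_mem P.isPGroup' hu)), ?_⟩
    have := mem_Cx_comm.1 (hS (eu ▸ ha))
    rwa [Cx_cj, mem_cj, ← inv_inv u, inv_inv u⁻¹] at this
  have h2 := not_dvd_index_of_sylow_le P fun g hg => h1 (hO g (isPElt_of_mem P.isPGroup' hg))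
  rcases i with _ | i
  · exact cs_eq_one_iff.1 e
  · exact (h2 (e ▸ dvd_pow_self p i.succ_ne_zero)).elim

theorem rho_mul_cs (x : G) : rho x * cs⟦x⟧ = (center G).index := relIndex_mul_index (center_le_Cx x)

structure NF (G : Type*) [Group G] (m k : ℕ) : Prop where
  hm : 1 < m
  hk : 1 < k
  cs : ∀ x : G, cs⟦x⟧ = 1 ∨ cs⟦x⟧ = m ∨ cs⟦x⟧ = m * k

namespace NF

variable {m k : ℕ} (h : NF G m k)
include h

theorem cs' {u : G} (hu : u ∉ center G) : cs⟦u⟧ = m ∨ cs⟦u⟧ = m * k :=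
  (h.cs u).resolve_left (mt cs_eq_one_iff.1 hu)

theorem rel {u : G} (hu : u ∉ center G) (w : Cx⟦u⟧) (c : (orderOf u).Coprime (orderOf w)) :
    cs⟦w⟧ = 1 ∨ cs⟦w⟧ = k := by
  have e := cs_mul_of_coprime (mem_Cx_iff_commute.1 w.2) (by simpa using c)
  rw [← cs_subtype] at e
  have h0 := cs_pos w
  have := h.hm
  have := h.hk
  rcases h.cs' hu with a | a <;> rw [a] at e <;> rcases h.cs (u * w) with b | b | b <;> rw [b] at e
  · exact .inl (Nat.eq_one_of_mul_eq_one_right e.symm)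
  · left; nlinarith
  · right; nlinarith
  · exact .inl (Nat.eq_one_of_mul_eq_one_right e.symm)
  · nlinarith [Nat.mul_le_mul h0 (le_refl (m * k))]
  · left; nlinarith [Nat.mul_pos (by omega : 0 < m) (by omega : 0 < k)]

theorem rho_eq {x u : G} (hx : cs⟦x⟧ = m) (hu : u ∉ center G) : rho u = rho x ∨ rho u * k = rho x := by
  have e := (rho_mul_cs u).trans (rho_mul_cs x).symm
  have := h.hm
  rw [hx] at e
  rcases h.cs' hu with a | a <;> rw [a] at e
  · exact .inl (Nat.eq_of_mul_eq_mul_right (by omega) e)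
  · exact .inr (Nat.eq_of_mul_eq_mul_right (by omega : 0 < m) (by rw [← e]; ring))

theorem dvd_rho {x : G} (hx : cs⟦x⟧ = m) {r : ℕ} (hr : r.Prime) (d : r ∣ (center G).index) :
    r ∣ rho x := by
  haveI := Fact.mk hr
  obtain ⟨u, u1, u2⟩ := exists_nc_pElt hr d
  have : r ∣ rho u := dvd_relIndex_center (self_mem_Cx u) u1 u2
  rcases h.rho_eq hx u1 with e | e
  · exact e ▸ this
  · exact e ▸ this.mul_right _

theorem eq_of_le {x u : G} (hx : cs⟦x⟧ = m) (hu : u ∉ center G) (e : Cx⟦x⟧ ≤ Cx⟦u⟧) :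
    Cx⟦x⟧ = Cx⟦u⟧ := by
  refine eq_of_le_of_index e (hx.trans ((h.cs' hu).resolve_right fun a => ?_).symm)
  have := Nat.le_of_dvd (cs_pos x) (cs_dvd_of_le e)
  have := h.hm
  have := h.hk
  nlinarith

theorem ppow {x y : G} (hx : cs⟦x⟧ = m) (hy : cs⟦y⟧ = m * k) (hle : Cx⟦y⟧ ≤ Cx⟦x⟧)
    (three : ∀ s t : ℕ, ∃ r : ℕ, r.Prime ∧ r ≠ s ∧ r ≠ t ∧ r ∣ (center G).index) :
    ∃ p a : ℕ, p.Prime ∧ k = p ^ a := by
  have x1 : x ∉ center G := fun e => h.hm.ne' (hx ▸ cs_eq_one_iff.2 e)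
  have kd : k ∣ (center Cx⟦x⟧).index := by
    have e := relIndex_mul_index hle
    rw [hx, hy, mul_comm m k, ← cs_mk_subtype _ (hle (self_mem_Cx y))] at e
    exact Nat.eq_of_mul_eq_mul_right (by have := h.hm; omega) e ▸ cs_dvd_index_center _
  by_cases c : ∃ (s : ℕ) (u : G), s.Prime ∧ u ∉ center G ∧ IsPElt s u ∧ Cx⟦x⟧ = Cx⟦u⟧ ∧
      ∀ q : ℕ, ∃ r : ℕ, r.Prime ∧ r ≠ s ∧ r ≠ q ∧ r ∣ (center Cx⟦x⟧).index
  · obtain ⟨s, u, hs, u1, u2, u3, u4⟩ := c
    haveI := Fact.mk hs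
    rw [u3] at u4
    obtain ⟨a, ha⟩ := TB.pow ⟨hs, fun w hw => h.rel u1 w (by
      simpa using H35.coprime_orderOf (y := (w : G)) u2 (by simpa using hw)), u4⟩
    exact ⟨s, a, hs, ha⟩
  push Not at c
  obtain ⟨t₁, h1, d1⟩ := Nat.exists_prime_and_dvd h.hk.ne'
  refine ⟨t₁, _, h1, Nat.eq_prime_pow_of_unique_prime_dvd (by have := h.hk; omega)
    fun {t₂} h2 d2 => by_contra fun ne => ?_⟩
  have key : ∀ (s : ℕ) (u : G), s.Prime → u ∉ center G → IsPElt s u → Cx⟦x⟧ = Cx⟦u⟧ →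
      (s = t₁ ∨ s = t₂) ∧ ∀ r : ℕ, r.Prime → r ∣ (center Cx⟦x⟧).index → r = t₁ ∨ r = t₂ := by
    intro s u hs u1 u2 u3
    obtain ⟨q, hq⟩ := c s u hs u1 u2 u3
    have a1 : t₁ = s ∨ t₁ = q := by
      by_contra e; push Not at e; exact hq _ h1 e.1 e.2 (d1.trans kd)
    have a2 : t₂ = s ∨ t₂ = q := by
      by_contra e; push Not at e; exact hq _ h2 e.1 e.2 (d2.trans kd)
    refine ⟨by omega, fun r hr rd => ?_⟩
    have a3 : r = s ∨ r = q := by
      by_contra e; push Not at e; exact hq _ hr e.1 e.2 rd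
    omega
  obtain ⟨s, u, hs, -, u2, u3, u1⟩ := exists_pElt_zpowers x1
  have k0 := (key s u hs u1 u2 (h.eq_of_le hx u1 (Cx_le_of_mem_zpowers u3))).2
  obtain ⟨r, hr, r1, r2, rd⟩ := three t₁ t₂
  haveI := Fact.mk hr
  obtain ⟨v, v1, v2, v3⟩ := exists_pElt_not_mem (h.dvd_rho hx hr rd)
  by_cases e : (⟨v, v1⟩ : Cx⟦x⟧) ∈ center Cx⟦x⟧
  · have := (key r v hr v2 v3 (h.eq_of_le hx v2 fun g hg =>
      mem_Cx.2 (congrArg Subtype.val (mem_center_iff.1 e ⟨g, hg⟩)))).1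
    omega
  · have := k0 r hr (dvd_index_center hr e ((isPElt_coe _).1 v3))
    omega

theorem two_primes {x y : G} (hx : cs⟦x⟧ = m) (hy : cs⟦y⟧ = m * k) (hle : Cx⟦y⟧ ≤ Cx⟦x⟧) :
    ∃ s t : ℕ, ∀ r : ℕ, r.Prime → r ∣ (center G).index → r = s ∨ r = t := by
  by_contra three
  push Not at three
  obtain ⟨p, a, hp, e⟩ := h.ppow hx hy hle fun s t => (three s t).imp fun r hr => by tauto
  obtain ⟨r, hr, rd, rp, -⟩ := three p p
  obtain ⟨s, hs, sd, sp, sr⟩ := three p r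
  have fact : ∀ q : ℕ, q ≠ p → ∀ u : G, u ∉ center G →
      (rho u).factorization q = (rho x).factorization q := fun q qp u hu => by
    rcases h.rho_eq hx hu with b | b <;> rw [← b]
    rw [Nat.factorization_mul (rho_ne_zero u) (by have := h.hk; omega), e, hp.factorization_pow]
    simp [qp]
  have ex : ∀ q : ℕ, q.Prime → q ≠ p → q ∣ (center G).index → ∀ u : G, u ∉ center G →
      ∃ v ∈ Cx⟦u⟧, v ∉ center G ∧ IsPElt q v := fun q hq qp qd u hu => by
    haveI := Fact.mk hq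
    refine exists_pElt_not_mem ((hq.dvd_iff_one_le_factorization (rho_ne_zero u)).2 ?_)
    rw [fact q qp u hu]
    exact (hq.dvd_iff_one_le_factorization (rho_ne_zero x)).1 (h.dvd_rho hx hq qd)
  have c1 : ∀ q l : ℕ, q.Prime → l.Prime → q ≠ p → l ≠ p → q ≠ l → ∀ u : G, u ∉ center G →
      IsPElt q u → CenQ l u := fun q l hq hl qp lp ql u u1 u2 w w1 w2 g hg => by
    have b : ∀ (j : ℕ) (v : Cx⟦u⟧), j.Prime → q ≠ j → IsPElt j v → ∃ i, cs⟦v⟧ = p ^ i :=
      fun j v hj qj hv => (h.rel u1 v (by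
        simpa using cop_of_pElt hq hj qj u2 ((isPElt_coe v).2 hv))).elim
        (fun e => ⟨0, e⟩) fun e' => ⟨a, e'.trans e⟩
    obtain ⟨i, hi⟩ := b l ⟨w, w2⟩ hl ql ((isPElt_coe _).1 w1)
    exact mem_Cx.2 (congrArg Subtype.val (mem_center_iff.1 (central_of_ppow hp hl lp
      (fun v hv => b p v hp qp hv) ((isPElt_coe _).1 w1) hi) ⟨g, hg⟩))
  have c2 : ∀ q l : ℕ, q.Prime → l.Prime → q ≠ p → l ≠ p → q ≠ l → l ∣ (center G).index →
      ∀ u : G, u ∉ center G → IsPElt q u → CenQ q u := fun q l hq hl qp lp ql ld u u1 u2 => by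
    obtain ⟨v, v1, v2, v3⟩ := ex l hl lp ld u u1
    have b := c1 l q hl hq lp qp ql.symm v v2 v3
    have e := le_antisymm (c1 q l hq hl qp lp ql u u1 u2 v v3 v1) (b u u2 (mem_Cx_comm.1 v1))
    intro w w1 w2
    rw [e] at w2 ⊢
    exact b w w1 w2
  have L : LH G r s := ⟨hr, hs, sr.symm, fun u hu => hu.2.elim
    (fun b => ⟨c2 r s hr hs rp sp sr.symm sd u hu.1 b, c1 r s hr hs rp sp sr.symm u hu.1 b⟩)
    fun b => ⟨c1 s r hs hr sp rp sr u hu.1 b, c2 s r hs hr sp rp sr rd u hu.1 b⟩,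
    fun u v hu hv => ⟨(fact r rp u hu.1).trans (fact r rp v hv.1).symm,
      (fact s sp u hu.1).trans (fact s sp v hv.1).symm⟩, exists_nc_pElt hr rd, exists_nc_pElt hs sd⟩
  obtain ⟨u, u1, u2⟩ := L.exr
  refine u1 (Cx_eq_top_iff.1 (eq_top_of_forall_exists_conj_mem fun g => ?_))
  by_cases hg : g ∈ center G
  · exact ⟨1, by simpa using center_le_Cx u hg⟩
  obtain ⟨v, v1, v2, v3⟩ := ex r hr rp rd g hg
  obtain ⟨c, hc⟩ := L.conj ⟨v2, .inl v3⟩ ⟨u1, .inl u2⟩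
  exact ⟨c, hc ▸ cj_mem c (mem_Cx_comm.1 v1)⟩

end NF

theorem solvable_of_quot_center (h : Group.IsSolvable (G ⧸ center G)) : Group.IsSolvable G :=
  haveI : Group.IsSolvable (center G) := Group.isSolvable_of_comm fun a b =>
    Subtype.ext (mem_center_iff.1 b.2 a)
  Group.isSolvable_of_ker_le_range (center G).subtype (QuotientGroup.mk' (center G)) (by simp)

theorem solvable_of_two_center {s t : ℕ}
    (h : ∀ r : ℕ, r.Prime → r ∣ (center G).index → r = s ∨ r = t) : Group.IsSolvable G := by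
  refine solvable_of_quot_center (H8.isSolvable_of_two_primes
    (p := if s.Prime then s else 2) (q := if t.Prime then t else 2)
    (by split_ifs <;> first | assumption | exact Nat.prime_two)
    (by split_ifs <;> first | assumption | exact Nat.prime_two) fun r hr d => ?_)
  rcases h r hr d with rfl | rfl <;> simp [hr]

end H32
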