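import Mathlib
import Cfsg.Agent.Base
import Cfsg.Agent.Lib.CIT.Part1
import Cfsg.Agent.Lib.H4.S4Rec
import Cfsg.Agent.Lib.TwoFusion.Tools
import Cfsg.Agent.Lib.GL.Simple
import Cfsg.Agent.Lib.CIT.EPPO
import Cfsg.Agent.S3322

/-! The classification of the groups with a partition. -/

set_option autoImplicit false
set_option linter.unusedSectionVars false
set_option linter.style.haveILetI false

namespace H32

open Subgroup H69 H80 H35 Matrix
open scoped MatrixGroups Pointwise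

variable {G : Type*} [Group G] [Finite G]

theorem pow_mul_sq {V : Subgroup G} [hV : V.Normal] (hc : ∀ a ∈ V, ∀ b ∈ V, a * b = b * a) (u : G)
    {v : G} (hv : v ∈ V) (n : ℕ) : (u ^ n)⁻¹ * (u * v) ^ n ∈ V ∧
      (u ^ n)⁻¹ * (u * (v * v)) ^ n = ((u ^ n)⁻¹ * (u * v) ^ n) * ((u ^ n)⁻¹ * (u * v) ^ n) := by
  induction n with
  | zero => simp
  | succ n ih =>
    have e : ∀ w : G, (u ^ (n + 1))⁻¹ * (u * w) ^ (n + 1) = u⁻¹ * ((u ^ n)⁻¹ * (u * w) ^ n) * u * w :=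
      fun w => by rw [pow_succ, pow_succ]; group
    have e1 := hV.conj_mem' _ ih.1 u
    rw [e, e, ih.2]
    refine ⟨mul_mem e1 hv, ?_⟩
    generalize (u ^ n)⁻¹ * (u * v) ^ n = f at e1
    rw [mul_assoc _ v, ← mul_assoc v, hc v hv _ e1]
    group

theorem comm_of_sq3 {a b : G} (ha : a ^ 2 = 1) (hb : b ^ 2 = 1) (h : (a * b) ^ 2 = 1) :
    a * b = b * a := by
  rw [sq] at ha hb h
  rw [eq_inv_of_mul_eq_one_left h, _root_.mul_inv_rev, inv_eq_of_mul_eq_one_left ha,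
    inv_eq_of_mul_eq_one_left hb]

theorem mul_conj_mem_cent {V : Subgroup G} [hV : V.Normal] {t : G}
    (h : ∀ v ∈ V, t * v * t⁻¹ = v⁻¹) (g : G) : t * (g * t * g⁻¹) ∈ 𝐂(V) := fun v hv => by
  have e1 := h _ (inv_mem hv)
  have e2 := h _ (hV.conj_mem' v hv g)
  rw [inv_inv] at e1
  calc v * (t * (g * t * g⁻¹)) = t * v⁻¹ * t⁻¹ * (t * (g * t * g⁻¹)) := by rw [e1]
    _ = t * g * (g⁻¹ * v * g)⁻¹ * t * g⁻¹ := by group
    _ = _ := by rw [← e2]; group

namespace Part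

variable {P : G → Subgroup G} (h : Part P) (nil : ∀ x : G, x ≠ 1 → Group.IsNilpotent (P x))
include h nil

/-- No normal component, non-trivial Fitting subgroup. -/
theorem fitting_case (hnn : ∀ x : G, x ≠ 1 → ¬ (P x).Normal) (hF : Cfsg.fittingSubgroup G ≠ ⊥) :
    Hug G ∨ (∃ K : Subgroup G, FrobK K) ∨ Nonempty (G ≃* Equiv.Perm (Fin 4)) := by
  obtain ⟨V, p, hp, _, V1, -, hc, hVp, hV, hmin⟩ :=
    H1.exists_elementary_abelian_normal_le (Cfsg.fittingSubgroup G) hF inferInstance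
  haveI := Fact.mk hp
  replace hc : ∀ a ∈ V, ∀ b ∈ V, a * b = b * a := fun a ha b hb =>
    congrArg Subtype.val (hc.is_comm.comm (⟨a, ha⟩ : V) ⟨b, hb⟩)
  obtain ⟨v₀, hv₀, v₀1⟩ := V.bot_or_exists_ne_one.resolve_left V1
  have ov : ∀ {v : G}, v ∈ V → v ≠ 1 → orderOf v = p := fun hv v1 => orderOf_eq_prime (hVp _ hv) v1
  have out : ∀ {x : G}, x ≠ 1 → ∃ v ∈ V, v ∉ P x := fun {x} hx => SetLike.not_le_iff_exists.1 fun e =>
    hnn x hx (normalizer_eq_top_iff.1 ((eq_top_iff' _).2 fun g =>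
      h.mem_norm hx v₀1 (e hv₀) (e (Normal.conj_mem inferInstance _ hv₀ g))))
  have cen : ∀ {S : Subgroup G}, IsPGroup p S → V ≤ S → ∃ z ∈ V, z ≠ 1 ∧ S ≤ Cx⟦z⟧ := fun hS e => by
    obtain ⟨z, h1, h2, h3⟩ := H5.exists_mem_centralizer_orderOf_eq hS e le_normalizer_of_normal V1
    exact ⟨z, h1, ne_one_of_prime (h3 ▸ hp), le_Cx_iff.2 h2⟩
  set E := 𝐂(V)
  have VE : V ≤ E := fun a ha b hb => hc b hb a ha
  have OE : Cfsg.pCore p G ≤ E := by
    obtain ⟨z, h1, h2, h3⟩ := cen H1.isPGroup_pCore (H1.le_pCore hV)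
    exact le_centralizer_iff.1 (inf_eq_left.1 ((hmin (V ⊓ 𝐂(Cfsg.pCore p G)) inferInstance
      inf_le_left).resolve_left fun e => h2 (mem_bot.1 (e ▸ ⟨h1, le_Cx_iff.1 h3⟩))))
  have hE : ∀ e ∈ E, e ^ p = 1 := fun e he => by
    rcases eq_or_ne e 1 with rfl | e1
    · exact one_pow p
    obtain ⟨v, hv, hv'⟩ := out e1
    rw [← ov hv fun e => hv' (e ▸ one_mem _), (h.comm e1 hv' (mem_Cx.2 (he v hv))).1, pow_orderOf_eq_one]
  have pe : ∀ {u : G}, u ^ p = 1 → IsPElt p u := fun e => isPElt_of_pow_eq_one (k := 1) (by rwa [pow_one])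
  have c0 : ∀ {u c w : G}, IsPElt p u → u ≠ 1 → c ∈ Cx⟦u⟧ → ¬ p ∣ orderOf c → w ∈ V → w ∈ Cx⟦u⟧ →
      w ∉ P u → c = 1 := by
    intro u c w hu u1 hc cp hw hw' wP
    have e0 := (h.comm u1 wP hw').1.symm.trans (ov hw fun e => wP (e ▸ one_mem _))
    have e := (h.comm u1 (mt (mul_mem_cancel_left (by_contra fun e =>
      cp ((h.comm u1 e hc).1.trans e0).symm.dvd)).1 wP) (mul_mem hc hw')).1.trans e0
    have e1 := congrArg (QuotientGroup.mk (s := V)) (e ▸ pow_orderOf_eq_one (c * w))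
    rw [QuotientGroup.mk_pow, QuotientGroup.mk_mul, (QuotientGroup.eq_one_iff w).2 hw, mul_one] at e1
    exact (isPElt_of_pow_eq_one (k := 2) (by
      rw [sq, pow_mul, hVp _ ((QuotientGroup.eq_one_iff _).1 e1)])).eq_one_of_not_dvd cp
  have c1 : ∀ {u c : G}, IsPElt p u → u ≠ 1 → c ∈ Cx⟦u⟧ → ¬ p ∣ orderOf c → c = 1 := by
    intro u c hu u1 hc cp
    obtain ⟨S, hS⟩ := hu.exists_sylow
    obtain ⟨w, hw, w1, hw'⟩ := cen S.isPGroup' ((H1.le_pCore hV).trans (H1.pCore_le_sylow S))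
    by_cases wP : w ∈ P u
    swap
    · exact c0 hu u1 hc cp hw (mem_Cx_comm.1 (hw' hS)) wP
    obtain ⟨v, hv, hv'⟩ := out w1
    exact c0 (pe (hVp w hw)) w1 (mem_Cx_iff_commute.2 (H77.commute_of_isNilpotent_of_coprime (nil u u1)
      wP (by_contra fun e => cp ((h.comm u1 e hc).1 ▸ hu.dvd_orderOf u1))
      (H35.coprime_orderOf (pe (hVp w hw)) cp))) cp hv (mem_Cx.2 (VE hw v hv)) hv'
  have c2 : ∀ {u c : G}, IsPElt p u → u ≠ 1 → c ∈ Cx⟦u⟧ → IsPElt p c := fun {u c} hu u1 hc =>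
    (pReg_eq_one_iff p).1 (c1 hu u1 (pReg_mem p hc) (not_dvd_orderOf_pReg p c))
  have c3 : ∀ {u : G}, p ∣ orderOf u → IsPElt p u := fun {u} e =>
    c2 (isPElt_pPart p u) ((pPart_ne_one_iff p).2 e) (mem_centralizer_pPart p u)
  by_cases d : p ∣ E.index
  swap
  · by_cases hT : E = ⊤
    · exact .inl ⟨p, ⊥, hp, fun e => V1 (eq_bot_iff.2 (e ▸ le_top)), fun u _ => hE u (hT ▸ mem_top u)⟩
    exact .inr (.inl ⟨E, inferInstance, fun e => V1 (eq_bot_iff.2 (e ▸ VE)), hT,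
      fun y hy y1 u hu => (c2 (pe (hE y hy)) y1 hu).mem_of_index d⟩)
  have sy : ∀ S : Sylow p G, ∃ z ∈ V, z ≠ 1 ∧ E ≤ S ∧ ∀ s ∈ (S : Subgroup G), s ∉ P z → s ^ p = 1 := by
    intro S
    have ES : E ≤ S := (H1.le_pCore (isPGroup_iff_isPElt.2 fun e he => pe (hE e he))).trans
      (H1.pCore_le_sylow S)
    obtain ⟨z, hz, z1, hz'⟩ := cen S.isPGroup' (VE.trans ES)
    exact ⟨z, hz, z1, ES, fun s hs e => by
      rw [← ov hz z1, ← (h.comm z1 e (hz' hs)).1, pow_orderOf_eq_one]⟩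
  rcases ne_or_eq p 2 with p2 | rfl
  · refine .inl ⟨p, E, hp, fun e => hp.ne_one (by rwa [e, index_top, Nat.dvd_one] at d),
      pow_eq_one_of hp d (fun u _ e => ?_) (fun K _ hK e => (H1.le_pCore (isPGroup_iff_isPElt.2
        fun k hk => (pReg_eq_one_iff p).1 (c1 (pe (hVp _ hv₀)) v₀1 (mem_Cx_iff_commute.2
          (H77.commute_of_isNilpotent_of_coprime hK (e (VE hv₀)) (pReg_mem p hk) (H35.coprime_orderOf
            (pe (hVp _ hv₀)) (not_dvd_orderOf_pReg p k)))) (not_dvd_orderOf_pReg p k)))).trans OE)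
      (fun t ht tt => mul_conj_mem_cent fun v => inverts_of_fpf tt (le_normalizer_of_normal (mem_top t))
        fun x hx e => by_contra fun x1 => ht (c1 (pe (hVp x hx)) x1 (mem_Cx.2 e) (not_dvd_of_pElt hp
          Nat.prime_two p2.symm (isPElt_of_pow_eq_one (k := 1) (by rwa [pow_one, sq]))) ▸ one_mem _))
      fun u r _ _ e1 e2 => (pe (hE _ e2)).eq_one_of_not_dvd (not_dvd_orderOf_pow e1 r)⟩
    obtain ⟨S, hS⟩ := (c3 e).exists_sylow
    obtain ⟨z, hz, z1, ES, hs⟩ := sy S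
    by_contra e1
    have uP : u ∈ P z := by_contra fun e => e1 (hs u hS e)
    obtain ⟨v, hv, hv'⟩ := out z1
    have e2 := (pow_mul_sq hc u hv p).2
    rw [hs _ (mul_mem hS (ES (VE hv))) (mt (mul_mem_cancel_left uP).1 hv'),
      hs _ (mul_mem hS (ES (VE (mul_mem hv hv)))) (mt (mul_mem_cancel_left uP).1 fun e => p2
        ((ov hv fun e => hv' (e ▸ one_mem _)).symm.trans (orderOf_eq_prime
          (h.pow_eq_one z1 hv' (sq v ▸ e)) fun e => hv' (e ▸ one_mem _))))] at e2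
    exact e1 (by simpa using e2)
  obtain ⟨S⟩ : Nonempty (Sylow 2 G) := inferInstance
  obtain ⟨z, hz, z1, ES, hs⟩ := sy S
  obtain ⟨t, ht, tP⟩ := out z1
  have iv : ∀ {s b : G}, s ∈ (S : Subgroup G) → s ∉ P z → b ∈ (S : Subgroup G) → b ∈ P z →
      s * b * s⁻¹ = b⁻¹ := fun {s b} h1 h2 h3 h4 => by
    have e := hs _ (mul_mem h1 h3) (mt (mul_mem_cancel_right h4).1 h2)
    rw [sq, ← mul_assoc] at e
    rw [inv_eq_of_mul_eq_one_left (sq s ▸ hs s h1 h2), eq_inv_of_mul_eq_one_left e]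
  have Ec : ∀ a ∈ E, ∀ b ∈ E, a * b = b * a := fun a ha b hb =>
    comm_of_sq3 (hE a ha) (hE b hb) (hE _ (mul_mem ha hb))
  obtain ⟨a, ha, aa⟩ : ∃ a ∈ (S : Subgroup G), a ^ 2 ≠ 1 := by
    by_contra e
    have e' : ∀ a ∈ (S : Subgroup G), a ^ 2 = 1 := fun a ha => by_contra fun e1 => e ⟨a, ha, e1⟩
    exact not_dvd_index_of_sylow_le (H := E) S (fun a ha b hb => comm_of_sq3 (e' b (ES (VE hb)))
      (e' a ha) (e' _ (mul_mem (ES (VE hb)) ha))) d
  have aP : a ∈ P z := by_contra fun e => aa (hs a ha e)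
  have aE : a * a ∈ E := by
    have := mul_mem (VE ht) (Normal.conj_mem inferInstance _ (VE (inv_mem ht)) a)
    rwa [← mul_assoc, ← mul_assoc, iv (ES (VE ht)) tP ha aP, ← _root_.mul_inv_rev,
      inv_mem_iff] at this
  have two : ∀ {s s' : G}, s ∈ E → s' ∈ E → s ∉ P z → s' ∉ P z → s * s' ∈ P z :=
    fun {s s'} h1 h2 h3 h4 => by_contra fun e => aa (by
      have := iv (ES (mul_mem h1 h2)) e ha aP
      rw [_root_.mul_inv_rev, show s * s' * a * (s'⁻¹ * s⁻¹) = s * (s' * a * s'⁻¹) * s⁻¹ by group,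
        iv (ES h2) h4 ha aP, iv (ES h1) h3 (inv_mem ha) (inv_mem aP), inv_inv] at this
      rw [sq, mul_eq_one_iff_eq_inv, ← this])
  have aw : ∀ {w : G}, w ∈ E → w ∈ P z → a ∈ Cx⟦w⟧ := fun {w} h1 h2 => by
    have e := iv (mul_mem (ES (VE ht)) ha) (mt (mul_mem_cancel_right aP).1 tP) (ES h1) h2
    rw [← iv (ES (VE ht)) tP (ES h1) h2, _root_.mul_inv_rev] at e
    rw [mem_Cx_iff_conj, ← mul_right_inj t, ← mul_left_inj t⁻¹, ← e]
    group
  obtain ⟨y, yo, y1, hy⟩ := exists_inverted (G := G ⧸ E) (a := a) (by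
      rw [← H1.map_mk'_pCore (isPGroup_iff_isPElt.2 fun e he => pe (hE e he)), Subgroup.map_eq_bot_iff,
        QuotientGroup.ker_mk']
      exact OE)
    (H9.orderOf_eq_two_of_mul_self (mt (QuotientGroup.eq_one_iff a).1 fun e => aa (hE a e))
      ((QuotientGroup.eq_one_iff _).2 aE))
  have i6 : E.index ≠ 2 := fun e => y1 (orderOf_eq_one_iff.1 (((Nat.dvd_prime Nat.prime_two).1
    (e ▸ orderOf_dvd_natCard y)).resolve_right fun e => Odd.not_two_dvd_nat yo (e ▸ dvd_rfl)))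
  obtain ⟨y, rfl⟩ := QuotientGroup.mk_surjective y
  have yw : ∀ {w : G}, w ∈ E → w ∈ P z → w ≠ 1 → y * w * y⁻¹ ∉ P z := fun {w} h1 h2 w1 h3 => by
    have h4 := Normal.conj_mem inferInstance w h1 y
    have e := (c2 (pe (hE _ h4)) (by simpa using w1) (mul_mem (conj_mem_Cx_conj.2 (aw h1 h2))
      (inv_mem (aw h4 h3)))).map (QuotientGroup.mk' E)
    have e1 : QuotientGroup.mk' E (y * a * y⁻¹ * a⁻¹) = (y : G ⧸ E) ^ 2 := by
      have : (a : G ⧸ E) * (y : G ⧸ E)⁻¹ * (a : G ⧸ E)⁻¹ = y := by rw [← conj_inv, hy, inv_inv]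
      rw [sq]
      nth_rewrite 2 [← this]
      simp [mul_assoc]
    rw [e1] at e
    exact y1 (eq_one_of_odd_of_pow yo (k := 1) (by
      rw [pow_one]; exact e.eq_one_of_not_dvd (not_dvd_orderOf_pow (Odd.not_two_dvd_nat yo) 2)))
  have zz := inv_eq_of_mul_eq_one_left (sq z ▸ hVp z hz)
  have hW : ∀ {w : G}, w ∈ E → w ∈ P z → w = 1 ∨ w = z := fun {w} h1 h2 => or_iff_not_imp_left.2
    fun w1 => by_contra fun e => yw (mul_mem h1 (VE hz)) (mul_mem h2 (h.self z))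
      (by rwa [Ne, mul_eq_one_iff_eq_inv, zz]) (by
        rw [← conj_mul]
        exact two (Normal.conj_mem inferInstance _ h1 y) (Normal.conj_mem inferInstance _ (VE hz) y)
          (yw h1 h2 w1) (yw (VE hz) (h.self z) z1))
  have t1 : t ≠ 1 := fun e => tP (e ▸ one_mem _)
  have tz : t ≠ z := fun e => tP (e ▸ h.self _)
  have tt := sq t ▸ hVp t ht
  have hΩ : (E : Set G) \ {1} = {z, t, t * z} := Set.ext fun w => ⟨fun ⟨h1, w1⟩ => by
      by_cases e : w ∈ P z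
      · exact .inl ((hW h1 e).resolve_left w1)
      · refine .inr ((hW (mul_mem (VE ht) h1) (two (VE ht) h1 tP e)).imp (fun e => ?_) fun e => ?_)
        · exact mul_left_cancel (e.trans tt.symm)
        · rw [Set.mem_singleton_iff, ← e, ← mul_assoc, tt, one_mul], by
    rintro (rfl | rfl | rfl)
    exacts [⟨VE hz, z1⟩, ⟨VE ht, t1⟩, ⟨VE (mul_mem ht hz), fun e => tz (zz ▸ mul_eq_one_iff_eq_inv.1 e)⟩]⟩
  have h3 : ((E : Set G) \ {1}).ncard = 3 := Set.ncard_eq_three.2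
    ⟨z, t, t * z, tz.symm, by simpa using t1, by simpa using z1, hΩ⟩
  have h6 := H41.index_dvd_six ((MulAut.toPerm G).comp MulAut.conj) ((E : Set G) \ {1})
    (fun g w hw => ⟨Normal.conj_mem inferInstance w hw.1 g, fun e => hw.2 (conj_eq_one_iff.1 e)⟩) h3 E
    fun g => ⟨fun hg w hw => mul_inv_eq_iff_eq_mul.2 (Ec g hg w hw.1), fun hg w hw =>
      (eq_or_ne w 1).elim (fun e => by simp [e]) fun e => (mul_inv_eq_iff_eq_mul.1 (hg w ⟨VE hw, e⟩)).symm⟩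
  have h4 : Nat.card E = 4 := by
    rw [Set.ncard_sdiff_singleton_of_mem E.one_mem] at h3
    have : (E : Set G).ncard = 4 := by omega
    exact this
  refine .inr (.inr (H4.sym_four_of_no_six ?_ fun g e => ?_))
  · have := Nat.le_of_dvd (by norm_num) h6
    rw [← E.card_mul_index, h4]
    obtain ⟨k, hk⟩ := d
    rw [hk] at h6 i6 this ⊢
    have : k ≠ 0 := by rintro rfl; simp at h6
    have : k ≠ 2 := by rintro rfl; simp at h6
    omega
  · exact not_dvd_of_pElt Nat.prime_three Nat.prime_two (by norm_num) (c3 (u := g) (by norm_num [e]))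
      (by norm_num [e])

theorem sylow_case (hR : Rad1 G) (hs : ¬ Group.IsSolvable G) {S : Sylow 2 G} {x : G} (hx : x ≠ 1)
    (hS : (S : Subgroup G) ≤ P x) : CIT G ∧ SylTI G := by
  have he := even_of_not_solvable hs
  have a : ∀ (T : Sylow 2 G), ∀ t ∈ (T : Subgroup G), t ≠ 1 → (T : Subgroup G) ≤ P t := by
    intro T t ht t1
    obtain ⟨g, rfl⟩ := MulAction.exists_smul_eq G S T
    have e : ((g • S : Sylow 2 G) : Subgroup G) ≤ P (g * x * g⁻¹) := fun y hy => by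
      simpa [mul_assoc] using h.conj g x _ (hS (H1.mem_conj_smul_iff.1 hy))
    exact h.eq (by simpa using hx) t1 (e ht) ▸ e
  have b : ∀ {t : G}, orderOf t = 2 → Cx⟦t⟧ ≤ P t := fun {t} ht g hg => by_contra fun e => by
    have t1 := H9.ne_one_of_orderOf_two ht
    obtain ⟨T, hT⟩ := (H9.isPGroup_closure_pair_of_commute (H9.mul_self_of_orderOf_two ht)
      (H9.mul_self_of_orderOf_two ((h.comm t1 e hg).1.trans ht)) (mem_Cx_iff_commute.1 hg)).exists_le_sylow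
    exact e (a T t (hT (subset_closure (by simp))) t1 (hT (subset_closure (by simp))))
  have c : ∀ (T : Sylow 2 G), ∀ t ∈ (T : Subgroup G), orderOf t = 2 → P t ≤ Hs T := fun T t ht ho =>
    le_Hs_of_nilpotent (nil t (H9.ne_one_of_orderOf_two ho)) (a T t ht (H9.ne_one_of_orderOf_two ho))
  have ht := (wti_of he (fun T t ht ho => (b ho).trans (c T t ht ho)) fun T U hne k h1 h2 =>
    by_contra fun k1 => hne (by
      obtain ⟨z, hz, zo, hz'⟩ := exists_cinv he T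
      obtain ⟨w, hw, wo, hw'⟩ := exists_cinv he U
      have z1 := H9.ne_one_of_orderOf_two zo
      have w1 := H9.ne_one_of_orderOf_two wo
      have e := (h.eq z1 k1 (b zo (hz' h1))).symm.trans (h.eq w1 k1 (b wo (hw' h2)))
      refine (Sylow.ext (U.is_maximal' T.isPGroup' fun u hu => ?_))
      obtain ⟨n, hn⟩ := pow_of_mem_pgroup U.isPGroup' hu
      exact mem_of_mem_Hs (c T z hz zo (e ▸ a U w hw w1 hu)) hn)).tic he fun T => by
    by_contra hc
    refine not_normal_of_not_solvable hs T (H1.normal_of_forall_conj_smul_le fun g => ?_)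
    exact (congrArg (fun U : Sylow 2 G => (U : Subgroup G))
      (by_contra fun e => hc ⟨g • T, e⟩ : T = g • T)).ge
  exact ⟨ht.cit (hR.rank2 he) (not_normal_of_not_solvable hs), ht.sylTI he⟩

omit nil in
theorem dgroup_case (hR : Rad1 G) (hs : ¬ Group.IsSolvable G) (S : Sylow 2 G)
    (hS : ∀ x : G, x ≠ 1 → ¬ (S : Subgroup G) ≤ P x) :
    ∃ (F : Type) (_ : Field F) (_ : Fintype F), 3 < Fintype.card F ∧
      (Nonempty (G ≃* PSL(2, F)) ∨ Nonempty (G ≃* PGL(2, F))) := by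
  obtain ⟨z₀, -, h0⟩ := exists_central S (even_iff_two_dvd.1 (even_of_not_solvable hs))
  obtain ⟨z, ⟨zo, hz⟩, hm⟩ := Set.exists_max_image {z : G | orderOf z = 2 ∧ (S : Subgroup G) ≤ Cx⟦z⟧}
    (fun z => Nat.card Cx⟦z⟧) (Set.toFinite _) ⟨z₀, h0⟩
  have z1 := H9.ne_one_of_orderOf_two zo
  obtain ⟨N, _, hN, F, _, _, hF, e⟩ := Cfsg.Agent.S3322.result Cx⟦z⟧ (Cx⟦z⟧ ⊓ P z)
    (inf_lt_left.2 fun e => hS z z1 (hz.trans e))
    (fun x hx e => by rw [← zo, ← (h.comm z1 (fun e1 => e ⟨hx, e1⟩) hx).1, pow_orderOf_eq_one])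
    (by
      obtain ⟨n, hn⟩ := S.isPGroup'.exists_card_eq
      refine Dvd.dvd.trans ?_ (card_dvd_of_le hz)
      rw [hn]
      refine pow_dvd_pow 2 (by_contra fun e => not_cyclic_sylow hs S (isCyclic_of_card_dvd_prime (p := 2)
        (hn ▸ (pow_dvd_pow 2 (by omega : n ≤ 1)))) : 2 ≤ n))
    (fun j _ jo e => (eq_of_le_of_card_ge (fun g hg => mem_Cx.2 (e g hg))
      (hm j ⟨jo, fun g hg => mem_Cx.2 (e g (hz hg))⟩)).symm) hs
  obtain rfl := hR N inferInstance (hN.elim isSolvable_of_odd fun ⟨m, hm, e⟩ => by_contra fun e1 => by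
    obtain ⟨T⟩ : Nonempty (Sylow 2 N) := inferInstance
    obtain ⟨n, hn⟩ := T.isPGroup'.exists_card_eq
    refine not_cyclic_sylow e1 T (isCyclic_of_card_dvd_prime (p := 2) ?_)
    exact (H1.coprime_card_of_isPGroup_of_coprime T.isPGroup' (Odd.coprime_two_right hm)).dvd_of_dvd_mul_right
      (e ▸ card_subgroup_dvd_card _))
  exact ⟨F, inferInstance, inferInstance, hF, e.imp (fun ⟨e⟩ => ⟨QuotientGroup.quotientBot.symm.trans e⟩)
    fun ⟨e⟩ => ⟨QuotientGroup.quotientBot.symm.trans e⟩⟩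

end Part

theorem psl_equiv_pgl {F : Type*} [Field F] [Fintype F] (h : Even (Fintype.card F)) :
    Nonempty (PSL(2, F) ≃* PGL(2, F)) := by
  refine ⟨MulEquiv.ofBijective _ ⟨ProjectiveSpecialLinearGroup.toPGL_injective,
    MonoidHom.range_eq_top.1 (index_eq_one.1 ?_)⟩⟩
  rw [H10.index_range_toPGL, Fintype.card_fin, Nat.card_eq_fintype_card]
  exact (Nat.coprime_two_left.2 (Nat.Even.sub_odd Fintype.card_pos h odd_one))

/-- `PSL₂(q)`, `PGL₂(q)` or `Sz(q)`. -/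
def PLS (G : Type*) [Group G] : Prop :=
  (∃ (F : Type) (_ : Field F) (_ : Fintype F), 4 ≤ Fintype.card F ∧ Nonempty (G ≃* PSL(2, F))) ∨
    (∃ (F : Type) (_ : Field F) (_ : Fintype F), 5 ≤ Fintype.card F ∧ Odd (Fintype.card F) ∧
      Nonempty (G ≃* PGL(2, F))) ∨ Cfsg.Lie.IsoSuzuki G

theorem Part.classify [Nontrivial G] {P : G → Subgroup G} (h : Part P) :
    Nonempty (G ≃* Equiv.Perm (Fin 4)) ∨ Hug G ∨ (∃ x : G, x ≠ 1 ∧ Cfsg.IsFrobeniusComplement (P x)) ∨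
      (∃ K : Subgroup G, FrobK K) ∨ PLS G := by
  by_cases h1 : ∃ x : G, x ≠ 1 ∧ Cfsg.IsFrobeniusComplement (P x)
  · exact .inr (.inr (.inl h1))
  have nil : ∀ x : G, x ≠ 1 → Group.IsNilpotent (P x) := fun x hx =>
    (h.frob_or hx).resolve_left fun e => h1 ⟨x, hx, e⟩
  by_cases h2 : ∃ x : G, x ≠ 1 ∧ (P x).Normal
  · obtain ⟨x, hx, _⟩ := h2
    exact .inr ((h.normal_case hx (nil x hx)).imp_right fun e => .inr (.inl e))
  by_cases hF : Cfsg.fittingSubgroup G = ⊥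
  swap
  · rcases h.fitting_case nil (fun x hx e => h2 ⟨x, hx, e⟩) hF with e | e | e
    exacts [.inr (.inl e), .inr (.inr (.inr (.inl e))), .inl e]
  refine .inr (.inr (.inr (.inr ?_)))
  have hR : Rad1 G := fun N _ hN =>
    eq_bot_iff.2 (H1.solvableRadical_eq_bot_iff.2 hF ▸ H1.le_solvableRadical hN)
  have hs : ¬ Group.IsSolvable G := fun _ => H1.fitting_ne_bot_of_isSolvable hF
  obtain ⟨S⟩ : Nonempty (Sylow 2 G) := inferInstance
  by_cases h3 : ∃ x : G, x ≠ 1 ∧ (S : Subgroup G) ≤ P x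
  · obtain ⟨x, hx, e⟩ := h3
    obtain ⟨h4, h5⟩ := h.sylow_case nil hR hs hx e
    rcases (h5.gen h4 (hR.pCore 2) hs).2 with ⟨F, _, _, ⟨n, hn, hF⟩, e⟩ | e
    · exact .inl ⟨F, inferInstance, inferInstance,
        hF ▸ Nat.pow_le_pow_right (by norm_num : 0 < 2) hn, e⟩
    · exact .inr (.inr e)
  obtain ⟨F, _, _, hF, e | ⟨⟨e⟩⟩⟩ := h.dgroup_case hR hs S fun x hx e => h3 ⟨x, hx, e⟩
  · exact .inl ⟨F, inferInstance, inferInstance, hF, e⟩
  rcases Nat.even_or_odd (Fintype.card F) with e1 | e1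
  · obtain ⟨e'⟩ := psl_equiv_pgl e1
    exact .inl ⟨F, inferInstance, inferInstance, hF, ⟨e.trans e'.symm⟩⟩
  · exact .inr (.inl ⟨F, inferInstance, inferInstance, by obtain ⟨k, hk⟩ := e1; omega, e1, ⟨e⟩⟩)

theorem exists_part (S : Set (Subgroup G)) (hS2 : ∃ H ∈ S, ∃ K ∈ S, H ≠ K) (hS1 : ∀ H ∈ S, H ≠ ⊥)
    (hpart : ∀ g : G, g ≠ 1 → ∃! H : Subgroup G, H ∈ S ∧ g ∈ H) :
    Nontrivial G ∧ ∃ P : G → Subgroup G, Part P := by
  have : ∀ g : G, ∃ H : Subgroup G, g ∈ H ∧ (g ≠ 1 → H ∈ S) := fun g =>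
    (eq_or_ne g 1).elim (fun e => ⟨⊤, mem_top g, fun e1 => (e1 e).elim⟩)
      fun e => let ⟨H, hH, _⟩ := hpart g e; ⟨H, hH.2, fun _ => hH.1⟩
  choose Q h1 h2 using this
  obtain ⟨H, hH, K, hK, hne⟩ := hS2
  obtain ⟨a, ha, a1⟩ := H.bot_or_exists_ne_one.resolve_left (hS1 H hH)
  obtain ⟨b, hb, b1⟩ := K.bot_or_exists_ne_one.resolve_left (hS1 K hK)
  refine ⟨⟨a, 1, a1⟩, fun x => ⨅ g : G, (Q (g * x * g⁻¹)).comap (MulAut.conj g).toMonoidHom,
    fun x => mem_iInf.2 fun g => h1 _, fun {x y} hx hy e => iInf_congr fun g => ?_,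
    fun {x} hx e => hne ?_, fun g x y e => mem_iInf.2 fun k => ?_⟩
  · have y1 : g * y * g⁻¹ ≠ 1 := by simpa using hy
    rw [(hpart _ y1).unique ⟨h2 _ y1, h1 _⟩ ⟨h2 (g * x * g⁻¹) (by simpa using hx), mem_iInf.1 e g⟩]
  · have e1 : ∀ y : G, y ∈ Q x := fun y => by simpa using mem_comap.1 (mem_iInf.1 (e.ge (mem_top y)) 1)
    exact ((hpart a a1).unique ⟨hH, ha⟩ ⟨h2 x hx, e1 a⟩).trans
      ((hpart b b1).unique ⟨h2 x hx, e1 b⟩ ⟨hK, hb⟩)
  · simpa [mul_assoc] using mem_iInf.1 e (k * g)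

end H32
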