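import Mathlib
import Cfsg.Agent.Base
import Cfsg.Agent.Lib.CIT.Ito3
import Cfsg.Agent.Lib.CIT.Part2
import Cfsg.Agent.Lib.SL2Elt.Sylow

/-! Itô's theorem: three class sizes imply solvability. -/

set_option autoImplicit false
set_option linter.unusedSectionVars false
set_option linter.style.haveILetI false

namespace H32

open Subgroup H69 H80 H35 Matrix
open scoped MatrixGroups Pointwise commutatorElement

variable {G : Type*} [Group G] [Finite G]

/-- Each of the two orders divides the centraliser order of the other element. -/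
def Rel2 (a b : G) : Prop := orderOf a ∣ Nat.card Cx⟦b⟧ ∧ orderOf b ∣ Nat.card Cx⟦a⟧

/-- No three non-identity elements are pairwise unrelated. -/
def NoTri (G : Type*) [Group G] : Prop :=
  ∀ a b c : G, a ≠ 1 → b ≠ 1 → c ≠ 1 → Rel2 a b ∨ Rel2 a c ∨ Rel2 b c

theorem card_Cx_equiv {H : Type*} [Group H] (e : G ≃* H) (x : G) :
    Nat.card Cx⟦e x⟧ = Nat.card Cx⟦x⟧ :=
  Nat.eq_of_mul_eq_mul_right (cs_pos x) (by
    rw [card_Cx_mul_cs, ← cs_equiv e, card_Cx_mul_cs, Nat.card_congr e.toEquiv])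

theorem NoTri.equiv {H : Type*} [Group H] [Finite H] (h : NoTri G) (e : G ≃* H) : NoTri H := fun a b c ha hb hc => by
  simpa [Rel2, card_Cx_equiv e.symm] using h (e.symm a) (e.symm b) (e.symm c) (by simpa) (by simpa)
    (by simpa)

theorem tri_quot {m n : ℕ} (h : ∀ x : G, cs⟦x⟧ = 1 ∨ cs⟦x⟧ = m ∨ cs⟦x⟧ = n) :
    NoTri (G ⧸ center G) := by
  have key : ∀ x y : G, cs⟦x⟧ = cs⟦y⟧ → orderOf (x : G ⧸ center G) ∣ Nat.card Cx⟦(y : G ⧸ center G)⟧ :=
    fun x y e => by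
      have h1 := orderOf_dvd_natCard _ (mem_map_of_mem (QuotientGroup.mk' (center G)) (self_mem_Cx x))
      rw [card_map_mk, relIndex_center_eq e, ← card_map_mk] at h1
      exact h1.trans (card_dvd_of_le (map_Cx_le _ y))
  intro a b c ha hb hc
  obtain ⟨a, rfl⟩ := QuotientGroup.mk_surjective a
  obtain ⟨b, rfl⟩ := QuotientGroup.mk_surjective b
  obtain ⟨c, rfl⟩ := QuotientGroup.mk_surjective c
  have k : ∀ x : G, (x : G ⧸ center G) ≠ 1 → cs⟦x⟧ = m ∨ cs⟦x⟧ = n := fun x hx =>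
    (h x).resolve_left fun e => hx ((QuotientGroup.eq_one_iff x).2 (cs_eq_one_iff.1 e))
  have : cs⟦a⟧ = cs⟦b⟧ ∨ cs⟦a⟧ = cs⟦c⟧ ∨ cs⟦b⟧ = cs⟦c⟧ := by
    have := k a ha; have := k b hb; have := k c hc; omega
  exact this.imp (fun e => ⟨key _ _ e, key _ _ e.symm⟩)
    (.imp (fun e => ⟨key _ _ e, key _ _ e.symm⟩) fun e => ⟨key _ _ e, key _ _ e.symm⟩)

theorem not_rel2 {a b : G} {n : ℕ} (ha : a ≠ 1) (hb : Nat.card Cx⟦b⟧ ∣ n) (c : (orderOf a).Coprime n) :
    ¬ Rel2 a b := fun e => ha (orderOf_eq_one_iff.1 (c.eq_one_of_dvd (e.1.trans hb)))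

theorem not_tri_sz (h : Cfsg.Lie.IsoSuzuki G) : ¬ NoTri G := by
  obtain ⟨F, _, _, m, _, ⟨S⟩⟩ := exists_model h
  obtain ⟨k, hk⟩ := H14.Sz.exists_unit_ne_one F
  obtain ⟨A, -, hA, -⟩ := S.exists_two_tori
  obtain ⟨c, hc, -⟩ := hA.exists_mem_conjSet
  have o := S.orderOf_u_zero (one_ne_zero (α := F))
  have a1 := ne_one_of_prime (o ▸ Nat.prime_two)
  have b1 := mt S.h_eq_one.1 hk
  rintro t
  rcases t _ _ _ a1 b1 hc.ne_one with e | e | e
  · exact not_rel2 a1 (by rw [S.centralizer_eq_H (S.h_mem_H k) b1, S.card_H])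
      (o ▸ (Nat.coprime_two_left.2 (H14.Sz.odd_q_sub_one F))) e
  · exact not_rel2 a1 hc.card_centralizer_dvd
      (o ▸ (Nat.coprime_two_left.2 (H14.Sz.odd_q_sq_add_one F))) e
  · exact not_rel2 b1 hc.card_centralizer_dvd ((H14.Sz.coprime_q_sq_add_one_sub_one F).symm.coprime_dvd_left
      (S.orderOf_h_dvd k)) e

section SL

open H64.SL2

variable {F : Type*} [Field F] [Fintype F]

theorem tr_ne_of_order {g : SL(2, F)} (h2 : ¬ orderOf g ∣ 2)
    (hc : (orderOf g).Coprime (Fintype.card F)) : tr g ^ 2 ≠ 4 := fun e => by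
  obtain ⟨p, hp⟩ := CharP.exists F
  haveI : Fact p.Prime := ⟨CharP.char_is_prime F p⟩
  exact h2 ((hc.coprime_dvd_right (char_dvd_card p)).dvd_of_dvd_mul_right
    (orderOf_dvd_of_pow_eq_one (pow_two_mul_char_eq_one p e)))

theorem exists_tori (h4 : 4 ≤ Fintype.card F) : ∃ b c : SL(2, F), tr b ^ 2 ≠ 4 ∧ tr c ^ 2 ≠ 4 ∧
    orderOf b = Fintype.card F - 1 ∧ orderOf c = Fintype.card F + 1 ∧
    Nat.card Cx⟦b⟧ = Fintype.card F - 1 ∧ Nat.card Cx⟦c⟧ = Fintype.card F + 1 := by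
  obtain ⟨b, hb⟩ := exists_orderOf_eq_card_sub_one (F := F)
  obtain ⟨c, hc⟩ := exists_orderOf_eq_card_add_one (F := F)
  rw [Nat.card_eq_fintype_card] at hb hc
  obtain ⟨q, hq⟩ : ∃ q, Fintype.card F = q + 1 := ⟨Fintype.card F - 1, by omega⟩
  have tb := tr_ne_of_order (g := b) (fun e => by have := Nat.le_of_dvd two_pos e; omega)
    (by rw [hb, hq]; simp)
  have tc := tr_ne_of_order (g := c) (fun e => by have := Nat.le_of_dvd two_pos e; omega)
    (by rw [hc]; simp)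
  refine ⟨b, c, tb, tc, hb, hc, ?_, ?_⟩
  · by_cases s : Split b
    · rw [card_centralizer_of_split tb s, Nat.card_eq_fintype_card]
    · have := orderOf_dvd_natCard _ (self_mem_Cx b)
      rw [card_centralizer_of_not_split s, Nat.card_eq_fintype_card, hb, hq, add_tsub_cancel_right,
        add_assoc, Nat.dvd_add_right (dvd_refl q)] at this
      have := Nat.le_of_dvd two_pos this
      omega
  · by_cases s : Split c
    · have := orderOf_dvd_natCard _ (self_mem_Cx c)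
      rw [card_centralizer_of_split tc s, Nat.card_eq_fintype_card, hc] at this
      have := Nat.le_of_dvd (by omega) this
      omega
    · rw [card_centralizer_of_not_split s, Nat.card_eq_fintype_card]

theorem exists_unip : ∃ (a : SL(2, F)) (p : ℕ), p.Prime ∧ p ∣ Fintype.card F ∧ a ∉ center SL(2, F) ∧
    a ^ p = 1 := by
  obtain ⟨p, hp⟩ := CharP.exists F
  haveI : Fact p.Prime := ⟨CharP.char_is_prime F p⟩
  refine ⟨mk 1 1 0 1 (by simp), p, Fact.out, char_dvd_card p, fun e => ?_,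
    pow_char_eq_one_of_tr_eq_two p (by simp [tr, mk_00, mk_11]; norm_num)⟩
  simpa [mk_01] using (mem_center_iff_entries.1 e).1

theorem not_tri_even (h4 : 4 ≤ Fintype.card F) (h2 : 2 ∣ Fintype.card F) : ¬ NoTri SL(2, F) := by
  obtain ⟨b, c, tb, tc, ob, oc, cb, cc⟩ := exists_tori h4
  obtain ⟨a, p, hp, pq, a1, a2⟩ := exists_unip (F := F)
  haveI := Fact.mk hp
  have a3 : a ≠ 1 := fun e => a1 (e ▸ one_mem _)
  have oa := orderOf_eq_prime a2 a3
  have b3 : b ≠ 1 := fun e => not_mem_center_of_tr tb (e ▸ one_mem _)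
  obtain ⟨q, hq⟩ : ∃ q, Fintype.card F = q + 1 := ⟨Fintype.card F - 1, by omega⟩
  intro t
  rcases t a b c a3 b3 fun e => not_mem_center_of_tr tc (e ▸ one_mem _) with e | e | e
  · exact not_rel2 a3 cb.dvd (oa ▸ Nat.Coprime.coprime_dvd_left pq (by rw [hq]; simp)) e
  · exact not_rel2 a3 cc.dvd (oa ▸ Nat.Coprime.coprime_dvd_left pq (by simp)) e
  · refine not_rel2 b3 cc.dvd ?_ e
    rw [ob, hq, add_tsub_cancel_right, add_assoc, Nat.coprime_self_add_right]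
    exact Nat.coprime_two_right.2 (by rw [Nat.odd_iff]; omega)

theorem not_tri_odd (h4 : 4 ≤ Fintype.card F) (h2 : ¬ 2 ∣ Fintype.card F) {H : Type*} [Group H] [Finite H]
    {f : PSL(2, F) →* H} (hf : Function.Injective f) (hi : f.range.index ∣ 2) : ¬ NoTri H := by
  have t2 : (2 : F) ≠ 0 := two_ne_zero_of_odd (by rw [Nat.odd_iff]; omega)
  obtain ⟨b, c, tb, tc, ob, oc, cb, cc⟩ := exists_tori h4
  obtain ⟨a, p, hp, pq, a1, a2⟩ := exists_unip (F := F)
  haveI := Fact.mk hp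
  have ne : ∀ g : SL(2, F), g ∉ center SL(2, F) → f (proj g) ≠ 1 := fun g hg e =>
    hg (proj_eq_one_iff.1 (hf (e.trans (map_one f).symm)))
  have oa : orderOf (f (proj a)) = p :=
    orderOf_eq_prime (by rw [← map_pow, ← map_pow, a2, map_one, map_one]) (ne a a1)
  have cen : ∀ g : SL(2, F), tr g ^ 2 ≠ 4 → Nat.card Cx⟦f (proj g)⟧ ∣ 4 * Nat.card Cx⟦g⟧ := fun g hg => by
    haveI : f.range.Normal := ((Nat.dvd_prime Nat.prime_two).1 hi).elim
      (fun e => index_eq_one.1 e ▸ inferInstance) normal_of_index_eq_two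
    have e1 : Cx⟦f (proj g)⟧ ⊓ f.range ≤ (𝐍(Cx⟦g⟧)).map (f.comp proj) := by
      rintro _ ⟨h1, y, rfl⟩
      obtain ⟨y, rfl⟩ := proj_surjective y
      refine ⟨y, mem_normalizer_of_conj_mem hg ?_, rfl⟩
      have := mem_Cx_iff_conj.1 h1
      rw [← map_inv, ← map_mul, ← map_mul, hf.eq_iff, ← map_inv, ← map_mul, ← map_mul,
        proj_eq_iff] at this
      rcases this with e | e <;> rw [e]
      · exact self_mem_Cx g
      · exact mem_Cx.2 (by simp)
    have e2 := (card_dvd_of_le e1).trans (card_map_dvd _ _)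
    rw [card_normalizer_centralizer hg] at e2
    rw [← card_mul_index (f.range.subgroupOf Cx⟦f (proj g)⟧), show 4 * Nat.card Cx⟦g⟧ =
      2 * Nat.card Cx⟦g⟧ * 2 by ring, ← inf_subgroupOf_left, H69.card_subgroupOf inf_le_left]
    refine Nat.mul_dvd_mul e2 ?_
    rw [inf_subgroupOf_left]
    exact (relIndex_dvd_index_of_normal _ _).trans hi
  obtain ⟨s, hs⟩ : ∃ s, Fintype.card F = 2 * s + 1 := ⟨Fintype.card F / 2, by omega⟩
  have ob' : orderOf (f (proj b)) = s := by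
    rw [orderOf_injective f hf]; exact orderOf_proj_of_orderOf_eq_two_mul t2 (by omega)
  have oc' : orderOf (f (proj c)) = s + 1 := by
    rw [orderOf_injective f hf]; exact orderOf_proj_of_orderOf_eq_two_mul t2 (by omega)
  have p2 : p.Coprime 4 := by
    rw [show 4 = 2 ^ 2 from rfl]
    exact Nat.Coprime.pow_right 2 ((Nat.coprime_primes hp Nat.prime_two).2 fun e => h2 (e ▸ pq))
  intro t
  rcases t _ _ _ (ne a a1) (ne b (not_mem_center_of_tr tb)) (ne c (not_mem_center_of_tr tc)) with e | e | e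
  · exact not_rel2 (ne a a1) (cen b tb) (oa ▸ p2.mul_right (Nat.Coprime.coprime_dvd_left pq
      (by rw [cb, hs]; simp))) e
  · exact not_rel2 (ne a a1) (cen c tc) (oa ▸ p2.mul_right (Nat.Coprime.coprime_dvd_left pq
      (by rw [cc]; simp))) e
  · have d1 := e.1.trans (cen c tc)
    have d2 := e.2.trans (cen b tb)
    rw [ob', cc, hs, show 4 * (2 * s + 1 + 1) = s * 8 + 8 by ring,
      Nat.dvd_add_right (dvd_mul_right s 8)] at d1
    rw [oc', cb, hs] at d2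
    have d3 : s + 1 ∣ 8 := (Nat.dvd_add_right d2).1 ⟨8, by simp; ring⟩
    have : s ≤ 8 := Nat.le_of_dvd (by norm_num) d1
    have : 2 ≤ s := by omega
    interval_cases s <;> omega

end SL

theorem PLS.not_tri (h : PLS G) : ¬ NoTri G := fun t => by
  rcases h with ⟨F, _, _, h4, ⟨e⟩⟩ | ⟨F, _, _, h5, ho, ⟨e⟩⟩ | h
  · by_cases h2 : 2 ∣ Fintype.card F
    · exact not_tri_even h4 h2 ((t.equiv e).equiv (H64.SL2.projEquiv (H64.SL2.two_eq_zero_of_even h2)).symm)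
    · exact not_tri_odd h4 h2 (f := MonoidHom.id _) Function.injective_id
        (by rw [MonoidHom.range_eq_top.2 Function.surjective_id, index_top]; exact one_dvd _) (t.equiv e)
  · exact not_tri_odd (by omega) ho.not_two_dvd_nat ProjectiveSpecialLinearGroup.toPGL_injective
      (by rw [H10.index_range_toPGL]; exact Nat.gcd_dvd_left _ _) (t.equiv e)
  · exact not_tri_sz h t

theorem Part.solvable_of_comm [Nontrivial G] {P : G → Subgroup G} (h : Part P)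
    (hc : ∀ x : G, x ≠ 1 → ∀ a ∈ P x, ∀ b ∈ P x, a * b = b * a) : Group.IsSolvable G ∨ PLS G := by
  have sol : ∀ (x : G) (H : Subgroup G), x ≠ 1 → H ≤ P x → Group.IsSolvable H := fun x H hx hH =>
    Group.isSolvable_of_comm fun a b => Subtype.ext (hc x hx a (hH a.2) b (hH b.2))
  rcases h.classify with ⟨⟨e⟩⟩ | h1 | ⟨x, hx, h1⟩ | ⟨K, hK⟩ | h1
  · refine .inl (H8.isSolvable_of_card_dvd (a := 3) (b := 1) Nat.prime_two Nat.prime_three ?_)
    rw [Nat.card_congr e.toEquiv, Nat.card_perm, Nat.card_fin]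
    decide
  · exact .inl h1.solvable
  · exact .inl (solvable_of_frob h1 (sol x _ hx le_rfl))
  · obtain ⟨H, hH, hF⟩ := hK.frob
    obtain ⟨_, k1, -, k2⟩ := hK
    refine .inl (solvable_of_frob hF ?_)
    by_cases ho : Odd (Nat.card H)
    · exact isSolvable_of_odd ho
    have inv : ∀ t ∈ H, orderOf t = 2 → ∀ x ∈ K, t * x * t⁻¹ = x⁻¹ := fun t ht o x hx =>
      inverts_of_fpf (by rw [← pow_two, ← o, pow_orderOf_eq_one]) (by simp [normalizer_eq_top])
        (fun y hy e => by_contra fun y1 => ne_one_of_prime (o ▸ Nat.prime_two)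
          (disjoint_def.1 hH.disjoint (k2 y hy y1 (mem_Cx.2 e)) ht)) hx
    obtain ⟨⟨k, k3⟩, k4⟩ := ne_bot_iff_exists_ne_one.1 k1
    have uniq : ∀ t ∈ H, ∀ u ∈ H, orderOf t = 2 → orderOf u = 2 → t = u := fun t ht u hu o o' => by
      refine inv_mul_eq_one.1 (disjoint_def.1 hH.disjoint (k2 k k3 (fun e => k4 (Subtype.ext e))
        (mem_Cx_iff_conj.2 ?_)) (mul_mem (inv_mem ht) hu))
      calc _ = t⁻¹ * (u * k * u⁻¹) * t := by group
        _ = k := by rw [inv u hu o' k k3, ← inv t ht o k k3]; group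
    haveI := Fact.mk Nat.prime_two
    obtain ⟨t, ht⟩ := exists_prime_orderOf_dvd_card' 2 (even_iff_two_dvd.1 (Nat.not_odd_iff_even.1 ho))
    rw [← Subgroup.orderOf_coe] at ht
    have t1 := ne_one_of_prime (ht ▸ Nat.prime_two)
    refine sol t H t1 fun y hy => by_contra fun hn => hn ?_
    have c : y ∈ Cx⟦(t : G)⟧ := mem_Cx_iff_conj.2 (uniq _ (mul_mem (mul_mem hy t.2) (inv_mem hy)) _ t.2
      (by rw [orderOf_conj, ht]) ht)
    rw [uniq y hy t t.2 ((h.comm t1 hn c).1.trans ht) ht]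
    exact h.self _
  · exact .inr h1

theorem exists_part_F (hne : center G ≠ ⊤)
    (h : ∀ x y : G, x ∉ center G → Cx⟦y⟧ ≤ Cx⟦x⟧ → Cx⟦x⟧ ≤ Cx⟦y⟧) :
    Nontrivial (G ⧸ center G) ∧ ∃ P : G ⧸ center G → Subgroup (G ⧸ center G), Part P ∧
      (∀ x y : G, (y : G ⧸ center G) ∈ P x ↔ Cx⟦x⟧ ≤ Cx⟦y⟧) ∧
      ∀ x, x ≠ 1 → ∀ a ∈ P x, ∀ b ∈ P x, a * b = b * a := by
  have eqC : ∀ x y : G, (x : G ⧸ center G) = y → Cx⟦x⟧ = Cx⟦y⟧ := fun x y e => by
    rw [← Cx_mul_of_mem_center (QuotientGroup.eq.1 e), mul_inv_cancel_left]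
  let P : G ⧸ center G → Subgroup (G ⧸ center G) := fun x =>
    (𝐂(Cx⟦x.out⟧)).map (QuotientGroup.mk' (center G))
  have mP : ∀ x y : G, (y : G ⧸ center G) ∈ P x ↔ Cx⟦x⟧ ≤ Cx⟦y⟧ := fun x y => by
    simp only [P, eqC _ x (QuotientGroup.out_eq' _)]
    exact ⟨fun ⟨z, hz, e⟩ => eqC z y e ▸ le_Cx_iff.2 hz, fun e => ⟨y, le_Cx_iff.1 e, rfl⟩⟩
  have nc : ∀ x : G, (x : G ⧸ center G) ≠ 1 → x ∉ center G := fun x hx e =>
    hx ((QuotientGroup.eq_one_iff x).2 e)
  refine ⟨QuotientGroup.nontrivial_iff.2 hne, P, ⟨fun x => ?_, fun {x y} hx hy e => ?_,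
    fun {x} hx e => ?_, fun g x y e => ?_⟩, mP, fun x _ a ha b hb => ?_⟩
  · obtain ⟨x, rfl⟩ := QuotientGroup.mk_surjective x
    exact (mP x x).2 le_rfl
  · obtain ⟨x, rfl⟩ := QuotientGroup.mk_surjective x
    obtain ⟨y, rfl⟩ := QuotientGroup.mk_surjective y
    have e1 := (mP x y).1 e
    ext z
    obtain ⟨z, rfl⟩ := QuotientGroup.mk_surjective z
    rw [mP, mP, le_antisymm e1 (h y x (nc y hy) e1)]
  · obtain ⟨x, rfl⟩ := QuotientGroup.mk_surjective x
    exact nc x hx (mem_center_iff.2 fun g => (mem_Cx.1 ((mP x g).1 (e ▸ mem_top _) (self_mem_Cx x))).symm)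
  · obtain ⟨x, rfl⟩ := QuotientGroup.mk_surjective x
    obtain ⟨y, rfl⟩ := QuotientGroup.mk_surjective y
    obtain ⟨g, rfl⟩ := QuotientGroup.mk_surjective g
    have := (mP (g * x * g⁻¹) (g * y * g⁻¹)).2 (by rw [Cx_cj, Cx_cj]; exact cj_mono g ((mP x y).1 e))
    simpa using this
  · obtain ⟨x, rfl⟩ := QuotientGroup.mk_surjective x
    obtain ⟨a, rfl⟩ := QuotientGroup.mk_surjective a
    obtain ⟨b, rfl⟩ := QuotientGroup.mk_surjective b
    rw [← QuotientGroup.mk_mul, ← QuotientGroup.mk_mul]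
    by_cases c : a ∈ center G
    · rw [mem_center_iff.1 c b]
    · rw [mem_Cx.1 ((mP x b).1 hb (h a x c ((mP x a).1 ha) (self_mem_Cx a)))]

theorem nf_of {m n : ℕ} (h : ∀ x : G, cs⟦x⟧ = 1 ∨ cs⟦x⟧ = m ∨ cs⟦x⟧ = n) {x y : G} (hx : x ∉ center G)
    (h1 : Cx⟦y⟧ ≤ Cx⟦x⟧) (h2 : ¬ Cx⟦x⟧ ≤ Cx⟦y⟧) : ∃ k, NF G cs⟦x⟧ k ∧ cs⟦y⟧ = cs⟦x⟧ * k := by
  obtain ⟨k, hk⟩ := cs_dvd_of_le h1
  have a1 := one_lt_cs_iff.2 hx
  have a2 : cs⟦y⟧ ≠ cs⟦x⟧ := fun e => h2 (eq_of_le_of_index h1 e).ge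
  have a3 := cs_pos y
  have a4 := Nat.le_of_dvd a3 ⟨k, hk⟩
  refine ⟨k, ⟨a1, ?_, fun z => ?_⟩, hk⟩
  · rcases k with _ | _ | k
    · omega
    · omega
    · omega
  · have := h x; have := h y; have := h z; omega

theorem solvable_of_three {m n : ℕ} (h : ∀ x : G, cs⟦x⟧ = 1 ∨ cs⟦x⟧ = m ∨ cs⟦x⟧ = n) :
    Group.IsSolvable G := by
  by_cases hF : ∀ x y : G, x ∉ center G → Cx⟦y⟧ ≤ Cx⟦x⟧ → Cx⟦x⟧ ≤ Cx⟦y⟧
  · by_cases hZ : center G = ⊤
    · exact Group.isSolvable_of_comm fun a b => mem_center_iff.1 (hZ ▸ mem_top b) a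
    obtain ⟨_, P, hP, -, hc⟩ := exists_part_F hZ hF
    exact solvable_of_quot_center ((hP.solvable_of_comm hc).resolve_right
      fun e => e.not_tri (tri_quot h))
  · push Not at hF
    obtain ⟨x, y, hx, h1, h2⟩ := hF
    obtain ⟨k, hk, e⟩ := nf_of h hx h1 h2
    obtain ⟨s, t, hst⟩ := hk.two_primes rfl e h1
    exact solvable_of_two_center hst

end H32
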