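import Mathlib
import Cfsg.Agent.Base
import Cfsg.Agent.Lib.CIT.Ito4
import Cfsg.Agent.S4127

/-! Class sizes `1, p ^ a, p ^ a * q ^ b`: no proper inclusion of centralisers. -/

set_option autoImplicit false
set_option linter.unusedSectionVars false
set_option linter.style.haveILetI false

namespace H32

open Subgroup H69 H80 H35 Matrix
open scoped MatrixGroups Pointwise commutatorElement

variable {G : Type*} [Group G] [Finite G]

theorem NF.le_of_small {m k : ℕ} (h : NF G m k) {u w : G} (hu : cs⟦u⟧ = m * k) (e : w ∈ Cx⟦u⟧)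
    (c : (orderOf u).Coprime (orderOf w)) : Cx⟦u⟧ ≤ Cx⟦w⟧ := by
  refine Cx_le_of_mul e c ?_
  have d := Nat.le_of_dvd (cs_pos _) (cs_dvd_cs_mul_left (mem_Cx_iff_commute.1 e) c)
  have := h.hm
  have := h.hk
  rcases h.cs (u * w) with b | b | b <;> nlinarith

theorem NF.not_central {m k : ℕ} (h : NF G m k) {u : G} (hu : cs⟦u⟧ = m ∨ cs⟦u⟧ = m * k) :
    u ∉ center G := fun e => by
  have := cs_eq_one_iff.2 e
  have := h.hm
  have := h.hk
  rcases hu with b | b <;> nlinarith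

theorem NF.rho_dvd {m k : ℕ} (h : NF G m k) {y u : G} (hy : cs⟦y⟧ = m * k) (hu : u ∉ center G) :
    rho y ∣ rho u := by
  rcases h.cs' hu with e | e
  · rcases h.rho_eq e (h.not_central (.inr hy)) with b | b
    · exact b.dvd
    · exact ⟨k, b.symm⟩
  · exact (relIndex_center_eq (hy.trans e.symm)).dvd

theorem NF.dvd_rho' {m k : ℕ} (h : NF G m k) (hc : m.Coprime k) {x : G} (hx : cs⟦x⟧ = m) {p : ℕ}
    (hp : p.Prime) (pm : p ∣ m) {y : G} (hy : cs⟦y⟧ = m * k) {u : G} (hu : u ∉ center G) :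
    p ∣ rho u := by
  haveI := Fact.mk hp
  obtain ⟨v, v1, v2⟩ := exists_nc_pElt hp (pm.trans (hx ▸ cs_dvd_index_center x))
  have d : p ∣ rho v := dvd_relIndex_center (self_mem_Cx v) v1 v2
  refine Dvd.dvd.trans ?_ (h.rho_dvd hy hu)
  rcases h.cs' v1 with e | e
  · rcases h.rho_eq e (h.not_central (.inr hy)) with b | b <;> rw [← b] at d
    · exact d
    · exact (Nat.Coprime.coprime_dvd_left pm hc).dvd_of_dvd_mul_right d
  · exact d.trans (relIndex_center_eq (e.trans hy.symm)).dvd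

theorem eq_one_of_two_pElt {p q : ℕ} (hp : p.Prime) (hq : q.Prime) (h : p ≠ q) {x : G} (h1 : IsPElt p x)
    (h2 : IsPElt q x) : x = 1 :=
  orderOf_eq_one_iff.1 ((Nat.coprime_self _).1 (cop_of_pElt hp hq h h1 h2))

/-- The setting. -/
structure PQ3 (G : Type*) [Group G] [Finite G] (p q a b : ℕ) : Prop extends NF G (p ^ a) (q ^ b) where
  hp : p.Prime
  hq : q.Prime
  ne : p ≠ q
  two : ∀ r : ℕ, r.Prime → r ∣ (center G).index → r = p ∨ r = q
  exp : ∀ u : G, u ∉ center G → ∃ v ∈ Cx⟦u⟧, v ∉ center G ∧ IsPElt p v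
  exq : ∀ u : G, u ∉ center G → ∃ v ∈ Cx⟦u⟧, v ∉ center G ∧ IsPElt q v
  nc : center G ≠ ⊤

namespace PQ3

variable {p q a b : ℕ} (h : PQ3 G p q a b)
include h

theorem p_dvd {u : G} (hu : u ∉ center G) : p ∣ cs⟦u⟧ := by
  have : p ∣ p ^ a := dvd_pow_self p fun e => by simpa [e] using h.hm
  rcases h.cs' hu with e | e <;> rw [e]
  · exact this
  · exact this.mul_right _

theorem not_q : ¬ q ∣ p ^ a := fun e =>
  h.ne ((Nat.prime_dvd_prime_iff_eq h.hq h.hp).1 (h.hq.dvd_of_dvd_pow e)).symm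

theorem central {r : ℕ} (hr : r.Prime) (rp : r ≠ p) (rq : r ≠ q) {x : G} (hx : IsPElt r x) :
    x ∈ center G := by
  by_contra e
  exact (h.two r hr (dvd_index_center hr e hx)).elim rp rq

theorem fact {u : G} (hu : u ∉ center G) :
    (Nat.card Cx⟦u⟧).factorization p + a = (Nat.card G).factorization p := by
  rw [← card_Cx_mul_cs u, Nat.factorization_mul Nat.card_pos.ne' (cs_ne_zero u)]
  rcases h.cs' hu with e | e <;> rw [e]
  · simp [h.hp.factorization_pow]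
  · rw [Nat.factorization_mul (pow_ne_zero _ h.hp.ne_zero) (pow_ne_zero _ h.hq.ne_zero)]
    simp [h.hp.factorization_pow, h.hq.factorization_pow, h.ne]

theorem maxp {u v : G} (hu : u ∉ center G) (hv : v ∉ center G) {R S : Subgroup G}
    (hR : IsSylowIn p R Cx⟦u⟧) (hS : IsPGroup p S) (h1 : R ≤ S) (h2 : S ≤ Cx⟦v⟧) : S ≤ R := by
  haveI := Fact.mk h.hp
  obtain ⟨T, hT⟩ := exists_isSylowIn p Cx⟦v⟧
  refine (eq_of_le_of_card_ge h1 ((hT.card_le hS h2).trans ?_)).ge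
  rw [hT.card_eq_pow_factorization, hR.card_eq_pow_factorization,
    Nat.add_right_cancel ((h.fact hu).trans (h.fact hv).symm)]

theorem exists_out [Fact p.Prime] (P : Sylow p G) {u : G} (hu : u ∉ center G) :
    ∃ g ∈ (P : Subgroup G), g ∉ Cx⟦u⟧ :=
  SetLike.not_le_iff_exists.1 fun e => not_dvd_index_of_sylow_le P e (h.p_dvd hu)

theorem case1 {x : G} (x1 : IsPElt p x) (x2 : cs⟦x⟧ = p ^ a) : False := by
  haveI := Fact.mk h.hp
  haveI := Fact.mk h.hq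
  obtain ⟨P₀, N, hN, hc⟩ := Cfsg.Agent.S4127.result p a (fun y e => by
    have l := Nat.pow_lt_pow_right h.hp.one_lt (Nat.lt_succ_self a)
    rcases h.cs y with c | c | c <;> rw [c] at e
    · exact (Nat.le_of_dvd one_pos e).not_gt (h.hm.trans l)
    · exact (Nat.le_of_dvd (by have := h.hm; omega) e).not_gt l
    · rw [pow_succ, Nat.mul_dvd_mul_iff_left (by have := h.hm; omega)] at e
      exact h.ne ((Nat.prime_dvd_prime_iff_eq h.hp h.hq).1 (h.hp.dvd_of_dvd_pow e))) ⟨x, x1, x2⟩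
  obtain ⟨Q⟩ : Nonempty (Sylow q G) := inferInstance
  have hQN : ∀ y : G, IsPElt q y → y ∈ N := fun y hy => hy.mem_of_index fun e => by
    obtain ⟨i, hi⟩ := IsPGroup.iff_card.1 P₀.isPGroup'
    rw [hc.symm.index_eq_card, hi] at e
    exact h.ne ((Nat.prime_dvd_prime_iff_eq h.hq h.hp).1 (h.hq.dvd_of_dvd_pow e)).symm
  have hS := isSylowIn_of_le Q fun y hy => hQN y (isPElt_of_mem Q.isPGroup' hy)
  have nQ : N ≤ 𝐍((Q : Subgroup G)) := by
    by_contra hn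
    obtain ⟨r, hr, hd⟩ := Nat.exists_prime_and_dvd (mt relIndex_eq_one.1 hn)
    haveI := Fact.mk hr
    by_cases e : r = q
    · subst e
      rw [← inf_relIndex_right] at hd
      exact hS.not_dvd_relIndex_of_le (le_inf le_normalizer hS.le) inf_le_right hd
    by_cases e' : r = p
    · subst e'
      exact P₀.not_dvd_index (hc.index_eq_card ▸ hd.trans (relIndex_dvd_card _ _))
    obtain ⟨y, -, y2, y3⟩ := exists_pElt_not_mem hd
    exact y2 (center_le_normalizer _ (h.central hr e' e y3))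
  have mQ : ∀ y : G, IsPElt q y → y ∈ (Q : Subgroup G) := fun y hy =>
    hS.le_of_le_normalizer' (isPElt_iff_zpowers.1 hy) (zpowers_le.2 (hQN y hy))
      ((zpowers_le.2 (hQN y hy)).trans nQ) (mem_zpowers y)
  haveI : (Q : Subgroup G).Normal := ⟨fun y hy g => mQ _ ((isPElt_of_mem Q.isPGroup' hy).conj g)⟩
  have big : ∀ v : G, cs⟦v⟧ = p ^ a → (Q : Subgroup G) ≤ Cx⟦v⟧ := fun v hv =>
    le_Cx_of_normal_of_coprime (hv ▸ H1.coprime_card_of_isPGroup_of_coprime Q.isPGroup'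
      (h.hq.coprime_iff_not_dvd.2 h.not_q).symm)
  by_cases c : ∃ v : G, IsPElt q v ∧ cs⟦v⟧ = p ^ a * q ^ b
  · obtain ⟨v, v1, v2⟩ := c
    have v3 := h.not_central (.inr v2)
    obtain ⟨R, hR⟩ := exists_isSylowIn p Cx⟦v⟧
    obtain ⟨P, hP⟩ := hR.isP.exists_le_sylow
    obtain ⟨g, g1, g2⟩ := h.exists_out P v3
    obtain ⟨w, w1, w2, w3⟩ := h.exq g fun e => g2 (center_le_Cx v e)
    refine g2 (hR.le (h.maxp v3 w2 hR (P.isPGroup'.to_le (sup_le hP (zpowers_le.2 g1))) le_sup_left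
      (sup_le (fun z hz => ?_) (zpowers_le.2 (mem_Cx_comm.1 w1))) (mem_sup_right (mem_zpowers g))))
    have z1 := isPElt_of_mem hR.isP hz
    exact mem_Cx'.2 (pxq v1 (not_dvd_of_pElt h.hq h.hp h.ne z1) (h.le_of_small v2 (hR.le hz)
      (cop_of_pElt h.hq h.hp h.ne.symm v1 z1)) w (H1.le_pCore Q.isPGroup' (mQ w w3)))
  push Not at c
  obtain ⟨P, hP⟩ := x1.exists_sylow
  obtain ⟨g, g1, g2⟩ := h.exists_out P (h.not_central (.inl x2))
  obtain ⟨v, v1, v2, v3⟩ := h.exq g fun e => g2 (center_le_Cx x e)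
  have v4 := (h.cs' v2).resolve_right (c v v3)
  have xv : x ∈ Cx⟦v⟧ := mem_Cx_comm.1 (big x x2 (mQ v v3))
  rcases h.rel v2 ⟨x, xv⟩ (by simpa using cop_of_pElt h.hq h.hp h.ne.symm v3 x1) with e | e
  · rw [cs_mk_subtype, relIndex_eq_one] at e
    exact g2 (e (mem_Cx_comm.1 v1))
  · rw [cs_mk_subtype, ← inf_relIndex_right] at e
    exact (isSylowIn_of_le Q (big v v4)).not_dvd_relIndex_of_le (le_inf (big x x2) (big v v4))
      inf_le_right (e ▸ dvd_pow_self q fun e => by simpa [e] using h.hk)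

theorem cenP (H : ∀ w : G, w ∉ center G → IsPElt p w → cs⟦w⟧ = p ^ a * q ^ b) {w : G}
    (w1 : w ∉ center G) (w2 : IsPElt p w) : CenQ p w := by
  haveI := Fact.mk h.hp
  haveI := Fact.mk h.hq
  intro z z1 z2
  obtain ⟨t, t1, t2, t3⟩ := h.exq w w1
  have e1 := h.le_of_small (H w w1 w2) t1 (cop_of_pElt h.hp h.hq h.ne w2 t3)
  rcases h.cs' t2 with e | e
  swap
  · exact e1.trans (h.le_of_small e (e1 z2) (cop_of_pElt h.hq h.hp h.ne.symm t3 z1))
  refine le_of_forall_pElt fun r y hr y1 y2 => ?_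
  by_cases rp : r = p
  swap
  · exact mem_Cx_comm.1 (h.le_of_small (H w w1 w2) y2 (cop_of_pElt h.hp hr (Ne.symm rp) w2 y1) z2)
  subst rp
  have k : ∀ v : Cx⟦t⟧, IsPElt r (v : G) → ∃ i, cs⟦v⟧ = q ^ i := fun v hv =>
    (h.rel t2 v (by simpa using cop_of_pElt h.hq h.hp h.ne.symm t3 hv)).elim (fun e => ⟨0, e⟩)
      fun e => ⟨b, e⟩
  obtain ⟨i, hi⟩ := k ⟨y, e1 y2⟩ y1
  obtain ⟨j, hj⟩ := k ⟨z, e1 z2⟩ z1
  have c1 : IsPElt q ⁅y, z⁆ := (isPElt_coe _).2
    (isPElt_of_mem H1.isPGroup_pCore (commutator_mem_pCore_of_cs_eq_pow hi hj))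
  have c2 := h.le_of_small (H w w1 w2) (mul_mem (mul_mem (mul_mem y2 z2) (inv_mem y2)) (inv_mem z2))
    (cop_of_pElt h.hp h.hq h.ne w2 c1) y2
  have c3 := commutator_pow_left_of_central (b := z) (mem_Cx_iff_commute'.1 c2) (orderOf y)
  rw [pow_orderOf_eq_one, commutatorElement_one_left] at c3
  exact mem_Cx_iff_commute'.2 (commutatorElement_eq_one_iff_commute.1 (eq_one_of_two_pElt h.hp h.hq h.ne
    (isPElt_of_orderOf_dvd y1 (orderOf_dvd_of_pow_eq_one c3.symm)) c1))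

theorem step [Fact p.Prime] (H : ∀ w : G, w ∉ center G → IsPElt p w → cs⟦w⟧ = p ^ a * q ^ b)
    (P : Sylow p G) {u : G} (u2 : u ∉ center G) (u3 : IsPElt p u)
    (u4 : ∀ g ∈ (P : Subgroup G), ⁅u, g⁆ ∈ center G) :
    ∃ t : G, IsPElt q t ∧ t ∉ Cx⟦u⟧ ∧ Commute (u * t * u⁻¹) t⁻¹ := by
  obtain ⟨g, g1, g2⟩ := h.exists_out P u2
  have g3 : g ∉ center G := fun e => g2 (center_le_Cx u e)
  have g4 := isPElt_of_mem P.isPGroup' g1
  obtain ⟨t, t1, t2, t3⟩ := h.exq g g3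
  have hR := (isSylowIn_top P).inf_of_le_normalizer le_top fun w hw => mem_norm_Cx (u4 w hw)
  refine ⟨t, t3, fun e => g2 (h.maxp u2 t2 hR (P.isPGroup'.to_le (sup_le inf_le_left
    (zpowers_le.2 g1))) le_sup_left (sup_le (inf_le_right.trans (h.le_of_small (H u u2 u3) e
      (cop_of_pElt h.hp h.hq h.ne u3 t3))) (zpowers_le.2 (mem_Cx_comm.1 t1)))
    (mem_sup_right (mem_zpowers g))).2, ?_⟩
  have n : u ∈ 𝐍(Cx⟦g⟧) := mem_norm_Cx (by rw [← commutatorElement_inv]; exact inv_mem (u4 g g1))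
  exact (mem_Cx_iff_commute'.1 (h.le_of_small (H g g3 g4) t1 (cop_of_pElt h.hp h.hq h.ne g4 t3)
    (conj_mem_of_mem_normalizer n t1))).inv_right

theorem case2 (H : ∀ w : G, w ∉ center G → IsPElt p w → cs⟦w⟧ = p ^ a * q ^ b) : False := by
  haveI := Fact.mk h.hp
  haveI := Fact.mk h.hq
  haveI := solvable_of_two_center h.two
  obtain ⟨P⟩ : Nonempty (Sylow p G) := inferInstance
  have hO : Cfsg.pCore p G ≤ center G := by
    by_contra hn
    obtain ⟨u, u1, u2, u3, u4⟩ := exists_cen_mod P.isPGroup' (H1.pCore_le_sylow P)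
      le_normalizer_of_normal hn
    obtain ⟨t, t1, t2, t3⟩ := h.step H P u2 u3 u4
    refine t2 (mem_Cx_iff_commute.2 (commutatorElement_eq_one_iff_commute.1 (eq_one_of_two_pElt h.hp
      h.hq h.ne (isPElt_of_mem H1.isPGroup_pCore ?_) ((t1.conj u).mul t1.inv t3))))
    rw [commutatorElement_def, mul_assoc, mul_assoc, ← mul_assoc t]
    exact mul_mem u1 ((inferInstance : (Cfsg.pCore p G).Normal).conj_mem _ (inv_mem u1) t)
  have hF : ∀ z ∈ 𝐂(Cfsg.pCore q G), z ∈ Cfsg.fittingSubgroup G := fun z hz =>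
    H1.centralizer_fitting_le (le_Cx_iff.1 (le_of_forall_pElt fun r y hr y1 y2 => by
      haveI := Fact.mk hr
      by_cases e : r = q
      · subst e
        exact le_Cx_iff.2 hz (mem_pCore_of_mem_fitting y1 y2)
      by_cases e' : r = p
      · subst e'
        exact center_le_Cx z (hO (mem_pCore_of_mem_fitting y1 y2))
      exact center_le_Cx z (h.central hr e' e y1)))
  have big : ∀ t : G, t ∉ center G → IsPElt q t → cs⟦t⟧ = p ^ a := fun t t1 t2 => by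
    obtain ⟨w, w1, w2, w3⟩ := h.exp t t1
    exact (h.cs' t1).resolve_right fun e => w2 (hO (mem_pCore_of_mem_fitting w3 (hF w (pxq t2
      (not_dvd_of_pElt h.hq h.hp h.ne w3) (h.le_of_small e w1 (cop_of_pElt h.hq h.hp h.ne.symm t2 w3))))))
  have cV : ∀ t : G, IsPElt q t → Cfsg.pCore q G ≤ Cx⟦t⟧ := fun t t2 => by
    by_cases t1 : t ∈ center G
    · rw [Cx_eq_top_iff.2 t1]; exact le_top
    · exact le_Cx_of_normal_of_coprime (big t t1 t2 ▸ H1.coprime_card_of_isPGroup_of_coprime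
        H1.isPGroup_pCore (h.hq.coprime_iff_not_dvd.2 h.not_q).symm)
  have com : ∀ s t : G, IsPElt q s → IsPElt q t → Commute s t := fun s t hs ht =>
    mem_Cx_iff_commute'.1 (cV t ht (mem_pCore_of_mem_fitting hs (hF s (le_Cx_iff.1 (cV s hs)))))
  obtain ⟨x, hx⟩ : ∃ x : G, x ∉ center G := by
    by_contra e; push Not at e; exact h.nc ((eq_top_iff' _).2 e)
  obtain ⟨g, g1, g2⟩ := h.exists_out P hx
  obtain ⟨u, u1, u2, u3, u4⟩ := exists_cen_mod P.isPGroup' le_rfl le_normalizer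
    fun e => g2 (center_le_Cx x (e g1))
  obtain ⟨t, t1, t2, -⟩ := h.step H P u2 u3 u4
  obtain ⟨v, v1, v2, v3⟩ := h.exq u u2
  have qc : ∀ s : G, IsPElt q s → IsPElt q ⁅u, s⁆ := fun s hs =>
    (hs.conj u).mul hs.inv (com _ _ (hs.conj u) hs.inv)
  have fix : ∀ s : G, IsPElt q s → ⁅u, s⁆ ∈ Cx⟦u⟧ → ⁅u, s⁆ = 1 := fun s hs e =>
    commutatorElement_eq_one_iff_commute.2 (commute_of_commutator_central (mem_Cx_iff_commute.1 e)
      (com _ _ hs (qc s hs)) (m := orderOf u) (n := orderOf s) (by simp) (by simp)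
      (cop_of_pElt h.hp h.hq h.ne u3 hs))
  have w1 : v * ⁅u, t⁆ ∉ Cx⟦u⟧ := fun e => t2 (mem_Cx_iff_commute.2
    (commutatorElement_eq_one_iff_commute.1 (fix t t1 ((mul_mem_cancel_left v1).1 e))))
  have w2 : v * ⁅u, t⁆ ∉ center G := fun e => w1 (center_le_Cx u e)
  have w3 := big _ w2 (v3.mul (qc t t1) (com _ _ v3 (qc t t1)))
  have hR : IsSylowIn p ((P : Subgroup G) ⊓ Cx⟦v * ⁅u, t⁆⟧) Cx⟦v * ⁅u, t⁆⟧ :=
    isSylowIn_of_not_dvd_relIndex P.isPGroup'.to_inf_left inf_le_right (by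
      rw [inf_relIndex_right, relIndex_eq_index_of_coprime (coprime_index_sylow_of_pow P w3)]
      exact P.not_dvd_index)
  refine w1 (mem_Cx_comm.1 (h.maxp w2 v2 hR (S := P ⊓ Cx⟦v⟧) P.isPGroup'.to_inf_left
    (le_inf inf_le_left fun k hk => ?_) inf_le_right ⟨u1, mem_Cx_comm.1 v1⟩).2)
  have k1 := mem_Cx_iff_conj.1 hk.2
  have k2 : k * ⁅u, t⁆ * k⁻¹ = ⁅u, k * t * k⁻¹⁆ := by
    have z := mem_center_iff.1 (u4 k hk.1)
    have e : k * u * k⁻¹ = ⁅u, k⁆⁻¹ * u := by simp [commutatorElement_def, mul_assoc]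
    generalize ⁅u, k⁆ = c at z e
    calc _ = (k * u * k⁻¹) * (k * t * k⁻¹) * (k * u * k⁻¹)⁻¹ * (k * t * k⁻¹)⁻¹ := by
          rw [commutatorElement_def]; group
      _ = c⁻¹ * (u * (k * t * k⁻¹) * u⁻¹ * c) * (k * t * k⁻¹)⁻¹ := by rw [e]; group
      _ = _ := by rw [z, commutatorElement_def]; group
  have t3 := t1.conj k
  have k3 : k * v * k⁻¹ ∈ Cx⟦u⟧ := conj_mem_of_mem_normalizer (mem_norm_Cx (u4 k hk.1)) v1
  generalize k * t * k⁻¹ = s at k2 t3
  have k4 : k * v * k⁻¹ * ⁅u, s⁆ = v * ⁅u, t⁆ := by rw [← k2, ← k1]; group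
  have k5 : ⁅u, s * t⁻¹⁆ = ⁅u, s⁆ * ⁅u, t⁆⁻¹ := by
    have c1 := (com _ _ t3 (t1.conj u).inv).eq
    have c2 := (com _ _ t3 t1).eq
    have c3 := (com _ _ t1 (t1.conj u).inv).eq
    simp only [commutatorElement_def]
    calc _ = u * s * u⁻¹ * ((u * t * u⁻¹)⁻¹ * t) * s⁻¹ := by group
      _ = u * s * u⁻¹ * s⁻¹ * (s * t * (u * t * u⁻¹)⁻¹ * s⁻¹) := by rw [← c3]; group
      _ = u * s * u⁻¹ * s⁻¹ * (t * (s * (u * t * u⁻¹)⁻¹) * s⁻¹) := by rw [c2]; group
      _ = _ := by rw [c1]; group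
  have k6 : ⁅u, s⁆ * ⁅u, t⁆⁻¹ = (k * v * k⁻¹)⁻¹ * v := by
    rw [eq_inv_mul_iff_mul_eq, ← mul_assoc, k4, mul_inv_cancel_right]
  have := fix _ (t3.mul t1.inv (com _ _ t3 t1.inv)) (k5 ▸ k6 ▸ mul_mem (inv_mem k3) v1)
  rw [k5, k6, inv_mul_eq_one] at this
  exact mem_Cx_iff_conj.2 this

end PQ3

theorem NF.not_le {m n : ℕ} (h : NF G m n) (hc : m.Coprime n) {x y : G} (hx : cs⟦x⟧ = m)
    (hy : cs⟦y⟧ = m * n) : ¬ Cx⟦y⟧ ≤ Cx⟦x⟧ := fun hle => by
  obtain ⟨s, t, hst⟩ := h.two_primes hx hy hle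
  obtain ⟨p, hp, pm⟩ := Nat.exists_prime_and_dvd h.hm.ne'
  obtain ⟨q, hq, qn⟩ := Nat.exists_prime_and_dvd h.hk.ne'
  haveI := Fact.mk hp
  haveI := Fact.mk hq
  have dis : ∀ r : ℕ, r.Prime → r ∣ m → ¬ r ∣ n := fun r hr a b =>
    hr.one_lt.ne' (Nat.eq_one_of_dvd_coprimes hc a b)
  have ne : p ≠ q := fun e => dis p hp pm (e ▸ qn)
  have d : m * n ∣ (center G).index := hy ▸ cs_dvd_index_center y
  have two : ∀ r : ℕ, r.Prime → r ∣ (center G).index → r = p ∨ r = q := fun r hr rd => by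
    have := hst r hr rd
    have := hst p hp ((pm.mul_right n).trans d)
    have := hst q hq ((qn.mul_left m).trans d)
    omega
  obtain ⟨a, rfl⟩ : ∃ a, m = p ^ a := ⟨_, Nat.eq_prime_pow_of_unique_prime_dvd (by have := h.hm; omega)
    fun {r} hr rd => (two r hr ((rd.mul_right n).trans d)).resolve_right fun e => dis r hr rd (e ▸ qn)⟩
  obtain ⟨b, rfl⟩ : ∃ b, n = q ^ b := ⟨_, Nat.eq_prime_pow_of_unique_prime_dvd (by have := h.hk; omega)
    fun {r} hr rd => (two r hr ((rd.mul_left _).trans d)).resolve_left fun e => dis r hr (e ▸ pm) rd⟩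
  have qy : q ∣ rho y := by
    by_contra hn
    have k : ∀ v : G, v ∉ center G → IsPElt q v → ¬ Cx⟦x⟧ ≤ Cx⟦v⟧ := fun v v1 v2 e =>
      hn (dvd_relIndex_center (mem_Cx_comm.1 (e (hle (self_mem_Cx y)))) v1 v2)
    obtain ⟨r, u, hr, -, u2, u3, u1⟩ := exists_pElt_zpowers (h.not_central (.inl hx))
    have e := h.eq_of_le hx u1 (Cx_le_of_mem_zpowers u3)
    by_cases rq : r = q
    · exact k u u1 (rq ▸ u2) e.le
    obtain ⟨v, v1, v2, v3⟩ := exists_pElt_not_mem (h.dvd_rho hx hq ((qn.mul_left _).trans d))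
    rw [e] at v1
    have c := cop_of_pElt hr hq rq u2 v3
    have c1 := mem_Cx_iff_commute.1 v1
    have n1 : u * v ∉ center G := fun a => u1 (cs_eq_one_iff.1 (Nat.dvd_one.1
      (cs_eq_one_iff.2 a ▸ cs_dvd_cs_mul_left c1 c)))
    refine k v v2 v3 (e ▸ Cx_le_of_mul v1 c (((h.cs' n1).resolve_right fun a => hn ?_).trans
      (hx.symm.trans (by rw [e]))))
    have := dvd_relIndex_center (inf_le_Cx_mul u v ⟨v1, self_mem_Cx v⟩) v2 v3
    rwa [relIndex_center_eq (a.trans hy.symm)] at this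
  have H : PQ3 G p q a b := ⟨h, hp, hq, ne, two,
    fun u hu => exists_pElt_not_mem (h.dvd_rho' hc hx hp pm hy hu),
    fun u hu => exists_pElt_not_mem (qy.trans (h.rho_dvd hy hu)),
    fun e => h.not_central (.inl hx) (e ▸ mem_top x)⟩
  exact H.case2 fun w w1 w2 => (h.cs' w1).resolve_left (H.case1 w2)

end H32
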