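import Mathlib
import Cfsg.Agent.Base
import Cfsg.Agent.Lib.CIT.Ito5
import Cfsg.Agent.Lib.FGS.EqOrder
import Cfsg.Agent.Lib.H85.CommIndex

/-! Class sizes `1, m, m n` with `m, n` coprime. -/

set_option autoImplicit false
set_option linter.unusedSectionVars false
set_option linter.style.haveILetI false

namespace H32

open Subgroup H69 H80 H35 Matrix
open scoped MatrixGroups Pointwise commutatorElement

variable {G : Type*} [Group G] [Finite G]

/-- No proper inclusions between centralisers of non-central elements. -/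
def FGrp (G : Type*) [Group G] : Prop := ∀ x y : G, x ∉ center G → Cx⟦y⟧ ≤ Cx⟦x⟧ → Cx⟦x⟧ ≤ Cx⟦y⟧

theorem FGrp.le_of_cop (h : FGrp G) {u w : G} (hu : u ∉ center G) (e : w ∈ Cx⟦u⟧)
    (c : (orderOf u).Coprime (orderOf w)) : Cx⟦u⟧ ≤ Cx⟦w⟧ := by
  have e1 := Cx_mul_of_coprime (mem_Cx_iff_commute.1 e) c
  exact (h u (u * w) hu (e1 ▸ inf_le_left)).trans (e1 ▸ inf_le_right)

theorem FGrp.comm (h : FGrp G) {u : G} (hu : u ∉ center G) {p q : ℕ} (hp : p.Prime) (hq : q.Prime)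
    (ne : p ≠ q) (pd : p ∣ rho u) (qd : q ∣ rho u) {w : G} (hw : w ∈ Cx⟦u⟧) : Cx⟦u⟧ ≤ Cx⟦w⟧ := by
  obtain ⟨s, x, hs, -, x1, x2, x3⟩ := exists_pElt_zpowers hu
  haveI := Fact.mk hs
  have e1 := le_antisymm (Cx_le_of_mem_zpowers x2) (h x u x3 (Cx_le_of_mem_zpowers x2))
  obtain ⟨r, hr, rs, rd⟩ : ∃ r : ℕ, r.Prime ∧ r ≠ s ∧ r ∣ rho u := by
    by_cases e : p = s
    · exact ⟨q, hq, e ▸ ne.symm, qd⟩
    · exact ⟨p, hp, e, pd⟩
  haveI := Fact.mk hr
  obtain ⟨v, v1, v2, v3⟩ := exists_pElt_not_mem rd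
  rw [e1] at hw v1 ⊢
  have e2 := h.le_of_cop x3 v1 (cop_of_pElt hs hr rs.symm x1 v3)
  rw [centralizer_eq_inf s w]
  exact le_inf (e2.trans (h.le_of_cop v2 (e2 (pPart_mem s hw))
    (cop_of_pElt hr hs rs v3 (isPElt_pPart s w))))
    (h.le_of_cop x3 (pReg_mem s hw) (H35.coprime_orderOf x1 (not_dvd_orderOf_pReg s w)))

/-- Commutation with an element of the second centre. -/
def zhom {u : G} (h : ∀ g : G, ⁅u, g⁆ ∈ center G) : G →* G := MonoidHom.mk' (fun g => ⁅u, g⁆) fun g k => by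
  have z := mem_center_iff.1 (h k) g
  calc ⁅u, g * k⁆ = ⁅u, g⁆ * (g * ⁅u, k⁆) * g⁻¹ := by simp only [commutatorElement_def]; group
    _ = _ := by rw [z]; group

structure CP (G : Type*) [Group G] [Finite G] (m n : ℕ) (x y : G) : Prop extends NF G m n where
  cop : m.Coprime n
  hx : cs⟦x⟧ = m
  hy : cs⟦y⟧ = m * n

namespace CP

variable {m n : ℕ} {x y : G} (h : CP G m n x y)
include h

theorem F : FGrp G := fun a b ha e => by
  have hb : b ∉ center G := fun c => ha (Cx_eq_top_iff.1 (top_le_iff.1 (Cx_eq_top_iff.2 c ▸ e)))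
  rcases h.cs' ha with c | c <;> rcases h.cs' hb with d | d
  · exact (eq_of_le_of_index e (d.trans c.symm)).ge
  · exact (h.not_le h.cop c d e).elim
  · exact (h.eq_of_le d ha e).ge
  · exact (eq_of_le_of_index e (d.trans c.symm)).ge

theorem dis {r : ℕ} (hr : r.Prime) (a : r ∣ m) : ¬ r ∣ n := fun b =>
  hr.one_lt.ne' (Nat.eq_one_of_dvd_coprimes h.cop a b)

theorem pd {p : ℕ} (hp : p.Prime) (pm : p ∣ m) {u : G} (hu : u ∉ center G) : p ∣ rho u :=
  h.dvd_rho' h.cop h.hx hp pm h.hy hu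

theorem qd {q : ℕ} (hq : q.Prime) (qn : q ∣ n) {u : G} (hu : cs⟦u⟧ = m) : q ∣ rho u :=
  h.dvd_rho hu hq ((qn.mul_left m).trans (h.hy ▸ cs_dvd_index_center y))

theorem ab {u w : G} (hu : cs⟦u⟧ = m) (hw : w ∈ Cx⟦u⟧) : Cx⟦u⟧ ≤ Cx⟦w⟧ := by
  obtain ⟨p, hp, pm⟩ := Nat.exists_prime_and_dvd h.hm.ne'
  obtain ⟨q, hq, qn⟩ := Nat.exists_prime_and_dvd h.hk.ne'
  exact h.F.comm (h.not_central (.inl hu)) hp hq (fun e => h.dis hp pm (e ▸ qn))
    (h.pd hp pm (h.not_central (.inl hu))) (h.qd hq qn hu) hw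

theorem eq {u w : G} (hu : cs⟦u⟧ = m) (hw : w ∈ Cx⟦u⟧) (w1 : w ∉ center G) : Cx⟦u⟧ = Cx⟦w⟧ :=
  h.eq_of_le hu w1 (h.ab hu hw)

theorem conj {u : G} (hu : cs⟦u⟧ = m) : ∃ g : G, Cx⟦x⟧ ^ᶜ g = Cx⟦u⟧ := by
  obtain ⟨q, hq, qn⟩ := Nat.exists_prime_and_dvd h.hk.ne'
  haveI := Fact.mk hq
  obtain ⟨v, v1, v2, v3⟩ := exists_pElt_not_mem (h.qd hq qn h.hx)
  obtain ⟨Q, hQ⟩ := (not_dvd_cs_iff (p := q) (x := u)).1 fun e => h.dis hq (hu ▸ e) qn
  obtain ⟨g, hg⟩ := v3.exists_conj_mem Q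
  exact ⟨g, by rw [h.eq h.hx v1 v2, ← Cx_cj, h.eq hu (hQ hg) (conj_not_mem_center v2 g)]⟩

theorem normal : (Cx⟦x⟧).Normal := by
  haveI := solvable_of_three h.cs
  set π := QuotientGroup.mk' (center G)
  have hπ : Function.Surjective π := QuotientGroup.mk'_surjective _
  have x1 := h.not_central (.inl h.hx)
  haveI : Group.IsSolvable (G ⧸ center G) := inferInstance
  obtain ⟨V, l, hl, hV, V1, -, V3, -, V2, -⟩ := H1.exists_elementary_abelian_normal_le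
    (⊤ : Subgroup (G ⧸ center G)) (fun e => x1 ((QuotientGroup.eq_one_iff x).1
      (mem_bot.1 (e ▸ mem_top _)))) inferInstance
  haveI := Fact.mk hl
  obtain ⟨r, hr, rl, rd⟩ : ∃ r : ℕ, r.Prime ∧ r ≠ l ∧ r ∣ rho x := by
    obtain ⟨p, hp, pm⟩ := Nat.exists_prime_and_dvd h.hm.ne'
    obtain ⟨q, hq, qn⟩ := Nat.exists_prime_and_dvd h.hk.ne'
    by_cases e : p = l
    · exact ⟨q, hq, fun c => h.dis hp pm (e ▸ c ▸ qn), h.qd hq qn h.hx⟩
    · exact ⟨p, hp, e, h.pd hp pm x1⟩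
  haveI := Fact.mk hr
  have key : ∀ u : G, cs⟦u⟧ = m → ∀ v : G, π v ∈ V → IsPElt l v → v ∈ 𝐍(Cx⟦u⟧) → v ∈ Cx⟦u⟧ := by
    intro u hu v v1 v2 v3
    obtain ⟨a, a1, a2, a3⟩ := exists_pElt_not_mem (rd.trans (relIndex_center_eq (h.hx.trans hu.symm)).dvd)
    rw [h.eq hu a1 a2] at v3 ⊢
    refine mem_Cx_iff_commute'.2 (commute_of_commutator_mem_center ((QuotientGroup.eq_one_iff _).1
      (eq_one_of_two_pElt hr hl rl (((a3.conj v).mul a3.inv (comm_conj v3)).map π)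
        (isPElt_of_mem V2 ?_))) (cop_of_pElt hl hr rl.symm v2 a3))
    change π (v * a * v⁻¹ * a⁻¹) ∈ V
    rw [mul_assoc, mul_assoc, ← mul_assoc a, map_mul, map_mul, map_mul, map_inv, map_inv]
    exact mul_mem v1 (hV.conj_mem _ (inv_mem v1) _)
  obtain ⟨⟨w, w1⟩, w2⟩ := ne_bot_iff_exists_ne_one.1 V1
  obtain ⟨w, w3, rfl⟩ := exists_isPElt_mk_eq l _ (isPElt_of_mem V2 w1)
  have w4 : w ∉ center G := fun e => w2 (Subtype.ext ((QuotientGroup.eq_one_iff w).2 e))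
  obtain ⟨a, a1, a2, a3⟩ := exists_pElt_not_mem (h.dvd_rho h.hx hl (dvd_index_center hl w4 w3))
  obtain ⟨R, hR⟩ := a3.exists_sylow
  obtain ⟨c, hc⟩ := w3.exists_conj_mem R
  obtain ⟨v, v1, v2, v3, v4⟩ := exists_cen_mod (N := V.comap π ⊓ R) R.isPGroup' inf_le_right
    (le_normalizer_inf le_normalizer_of_normal le_normalizer) fun e => conj_not_mem_center w4 c
      (e (mem_inf.2 ⟨(inferInstance : (V.comap π).Normal).conj_mem _ w1 c, hc⟩))
  have v5 : v ∈ Cx⟦x⟧ := key x h.hx v v1.1 v3 (h.eq h.hx a1 a2 ▸ mem_norm_Cx (by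
    rw [← commutatorElement_inv]; exact inv_mem (v4 a hR)))
  have e := h.eq h.hx v5 v2
  refine normalizer_eq_top_iff.1 (eq_top_iff.2 fun g _ => cj_eq_self_iff.1 ?_)
  have v6 : π (g * v * g⁻¹) ∈ V := (inferInstance : (V.comap π).Normal).conj_mem _ v1.1 g
  have v7 := key x h.hx _ v6 (v3.conj g) (e ▸ mem_norm_Cx ((commutator_mem_of_commute_mk
    (N := center G)).1 (congrArg Subtype.val (V3.1.comm ⟨_, v1.1⟩ ⟨_, v6⟩))))
  exact (e ▸ (Cx_cj g v).symm : Cx⟦x⟧ ^ᶜ g = Cx⟦g * v * g⁻¹⟧).trans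
    (h.eq h.hx v7 (conj_not_mem_center v2 g)).symm

theorem mem_iff {g : G} : g ∈ Cx⟦x⟧ ↔ cs⟦g⟧ = 1 ∨ cs⟦g⟧ = m := by
  haveI := h.normal
  refine ⟨fun e => ?_, fun e => e.elim (fun e => center_le_Cx x (cs_eq_one_iff.1 e)) fun e => ?_⟩
  · by_cases c : g ∈ center G
    · exact .inl (cs_eq_one_iff.2 c)
    · exact .inr (h.eq h.hx e c ▸ h.hx)
  · obtain ⟨c, hc⟩ := h.conj e
    rw [cj_eq_of_normal] at hc
    exact hc ▸ self_mem_Cx g

theorem inf_le {g a : G} (hg : g ∉ Cx⟦x⟧) (ha : a ∈ Cx⟦x⟧) (e : a ∈ Cx⟦g⟧) : a ∈ center G := by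
  by_contra c
  exact hg (h.eq h.hx ha c ▸ mem_Cx_comm.1 e)

theorem step {p : ℕ} [hp : Fact p.Prime] (pm : p ∣ m) (P : Sylow p G) : ∃ u : G, Cx⟦x⟧ = Cx⟦u⟧ ∧
    IsPElt p u ∧ u ^ p ∈ center G ∧ ∀ g ∈ (P : Subgroup G), ⁅u, g⁆ ∈ center G := by
  haveI := h.normal
  obtain ⟨a, a1, a2, a3⟩ := exists_pElt_not_mem (h.pd hp.out pm (h.not_central (.inl h.hx)))
  obtain ⟨c, hc⟩ := a3.exists_conj_mem P
  obtain ⟨u, u1, u2, u3, u4⟩ := H5.exists_step_of_le P.isPGroup' (center G) (N := Cx⟦x⟧ ⊓ P) inf_le_right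
    (le_normalizer_inf le_normalizer_of_normal le_normalizer) fun e => conj_not_mem_center a2 c
      (e (mem_inf.2 ⟨this.conj_mem _ a1 c, hc⟩))
  exact ⟨u, h.eq h.hx u1.1 u2, isPElt_of_mem P.isPGroup' u1.2, u3, u4⟩

theorem ppow : ∃ p a : ℕ, p.Prime ∧ m = p ^ a := by
  haveI := h.normal
  obtain ⟨p, hp, pm⟩ := Nat.exists_prime_and_dvd h.hm.ne'
  refine ⟨p, _, hp, Nat.eq_prime_pow_of_unique_prime_dvd (by have := h.hm; omega)
    fun {r} hr rm => by_contra fun ne => ?_⟩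
  haveI := Fact.mk hp
  haveI := Fact.mk hr
  obtain ⟨g, -, g1, g2⟩ := exists_pElt_not_mem (p := p) (Z := Cx⟦x⟧) (M := ⊤)
    (by rw [relIndex_top_right]; exact h.hx ▸ pm)
  have g3 : g ∉ center G := fun e => g1 (center_le_Cx x e)
  obtain ⟨P, hP⟩ := g2.exists_sylow
  obtain ⟨u, u1, u2, -, u4⟩ := h.step pm P
  obtain ⟨w, w1, w2, w3⟩ := exists_pElt_not_mem (h.pd hr rm g3)
  have n : u ∈ 𝐍(Cx⟦g⟧) := mem_norm_Cx (by rw [← commutatorElement_inv]; exact inv_mem (u4 g hP))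
  refine w2 (h.inf_le g1 (u1 ▸ mem_Cx_iff_commute.2 (commute_of_commutator_mem_center (h.inf_le g1 ?_
    (mul_mem (conj_mem_of_mem_normalizer n w1) (inv_mem w1))) (cop_of_pElt hp hr (Ne.symm ne) u2 w3))) w1)
  rw [commutatorElement_def, mul_assoc, mul_assoc, ← mul_assoc w]
  exact mul_mem (u1 ▸ self_mem_Cx u) (h.normal.conj_mem _ (inv_mem (u1 ▸ self_mem_Cx u)) w)

theorem prime : m.Prime := by
  haveI := h.normal
  obtain ⟨p, a, hp, e⟩ := h.ppow
  haveI := Fact.mk hp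
  have pm : p ∣ m := e ▸ dvd_pow_self p fun c => by have := h.hm; simp [c] at e; omega
  obtain ⟨P⟩ : Nonempty (Sylow p G) := inferInstance
  obtain ⟨u, u1, u2, u3, u4⟩ := h.step pm P
  have u5 : ∀ g : G, ⁅u, g⁆ ∈ center G := fun g => by
    obtain ⟨b, hb, c, hc, rfl⟩ := exists_mul_of_coprime_index
      (coprime_index_sylow_of_pow P (h.hx.trans e)).symm g
    have := mem_Cx.1 (u1 ▸ hb)
    have e : ⁅u, b * c⁆ = b * ⁅u, c⁆ * b⁻¹ := by
      simp only [commutatorElement_def]; rw [← mul_assoc, ← this]; group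
    rw [e]
    exact (inferInstance : (center G).Normal).conj_mem _ (u4 c hc) b
  have k : ∀ g : G, zhom u5 g = 1 → g ∈ Cx⟦x⟧ := fun g hg =>
    u1 ▸ mem_Cx_iff_commute.2 (commutatorElement_eq_one_iff_commute.1 hg)
  obtain ⟨q, hq, qn⟩ := Nat.exists_prime_and_dvd h.hk.ne'
  haveI := Fact.mk hq
  obtain ⟨T, hT⟩ := exists_isSylowIn q Cx⟦x⟧
  have cq : CenQ q x := fun w _ hw => h.ab h.hx hw
  set π := QuotientGroup.mk' (center G)
  have hπ : Function.Surjective π := QuotientGroup.mk'_surjective _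
  haveI : ((Cx⟦x⟧).map π).Normal := Normal.map inferInstance π hπ
  have mA : ∀ g : G, π g ∈ (Cx⟦x⟧).map π ↔ g ∈ Cx⟦x⟧ := fun g => by
    rw [← mem_comap, comap_map_eq_self (by rw [QuotientGroup.ker_mk']; exact center_le_Cx x)]
  have cyc := isCyclic_of_section_fpf (E := ⊤) (V := T.map π) (N := (Cx⟦x⟧).map π) ⟨⟨?_⟩⟩ ?_ ?_ ?_ ?_ ⊤
    (by rw [map_top_of_surjective _ (QuotientGroup.mk'_surjective _)]) ⟨⟨?_⟩⟩
  · have d : Nat.card (⊤ : Subgroup ((G ⧸ center G) ⧸ (Cx⟦x⟧).map π)) ∣ p := by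
      rw [← IsCyclic.exponent_eq_card]
      refine Monoid.exponent_dvd_of_forall_pow_eq_one fun ⟨g, _⟩ => Subtype.ext ?_
      obtain ⟨g, rfl⟩ := QuotientGroup.mk_surjective g
      obtain ⟨g, rfl⟩ := hπ g
      refine (QuotientGroup.eq_one_iff (π g ^ p)).2 ?_
      rw [← map_pow, mA]
      refine k _ ?_
      rw [map_pow]
      change ⁅u, g⁆ ^ p = 1
      rw [← commutator_pow_left_of_central (mem_center_iff.1 (u5 g) u)]
      exact commutatorElement_eq_one_iff_commute.2 (mem_center_iff.1 u3 g).symm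
    rw [card_top, ← index_eq_card, index_map_eq _ hπ (by
      rw [QuotientGroup.ker_mk']; exact center_le_Cx x), h.hx] at d
    exact ((Nat.dvd_prime hp).1 d).elim (fun c => (h.hm.ne' c).elim) (· ▸ hp)
  · rintro ⟨_, a, ha, rfl⟩ ⟨_, b, hb, rfl⟩
    exact Subtype.ext ((mem_Cx_iff_commute.1 (h.ab h.hx (hT.le ha) (hT.le hb))).map π)
  · obtain ⟨v, v1, v2, v3⟩ := exists_pElt_not_mem (h.qd hq qn h.hx)
    exact fun c => v2 ((QuotientGroup.eq_one_iff v).1 (mem_bot.1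
      (c ▸ mem_map_of_mem π ((cq.mem_syl hT).2 ⟨v1, v3⟩))))
  · intro g _
    obtain ⟨g, rfl⟩ := hπ g
    exact le_normalizer_map π ⟨g, cq.le_norm hT (le_normalizer_of_normal (mem_top g)), rfl⟩
  · rintro _ ⟨-, a, ha, rfl⟩ _ ⟨b, hb, rfl⟩
    exact (mem_Cx_iff_commute.1 (h.ab h.hx (hT.le hb) ha)).map π
  · intro g _ hg
    obtain ⟨g, rfl⟩ := hπ g
    rw [eq_bot_iff]
    rintro _ ⟨⟨t, ht, rfl⟩, c⟩
    refine (QuotientGroup.eq_one_iff t).2 (by_contra fun t1 => hg ((mA g).2 ?_))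
    refine (mem_iff_pPart_mem_and_pReg_mem p).2 ⟨?_, mem_of_not_dvd_of_index (h.hx.trans e)
      (not_dvd_orderOf_pReg p g)⟩
    have c1 := commute_pPart_of_commute p (mem_Cx_iff_commute'.1 c)
    rw [pPart_map] at c1
    rw [h.eq h.hx (hT.le ht) t1]
    exact mem_Cx_iff_commute.2 (commute_of_commutator_mem_center
      ((commutator_mem_of_commute_mk (N := center G)).1 c1) (cop_of_pElt hq hp
        (fun c => h.dis hp pm (c ▸ qn)) (isPElt_of_mem hT.isP ht) (isPElt_pPart p g)))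
  · rintro ⟨a, _⟩ ⟨b, _⟩
    obtain ⟨a, rfl⟩ := QuotientGroup.mk_surjective a
    obtain ⟨b, rfl⟩ := QuotientGroup.mk_surjective b
    obtain ⟨a, rfl⟩ := hπ a
    obtain ⟨b, rfl⟩ := hπ b
    refine Subtype.ext (commutator_mem_of_commute_mk.2 ?_)
    rw [← map_commutatorElement, mA]
    refine k _ ?_
    rw [map_commutatorElement]
    exact commutatorElement_eq_one_iff_commute.2 (mem_center_iff.1 (u5 b) _)

theorem rho_eq' : rho x = m * n := by
  haveI := h.normal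
  have y1 : y ∉ Cx⟦x⟧ := fun e => by
    have := h.mem_iff.1 e
    have := h.hm
    have := h.hk
    have := h.hy
    rcases h.mem_iff.1 e with c | c <;> nlinarith
  have y2 := h.not_central (.inr h.hy)
  have e : rho y ∣ m := by
    have : center G ⊓ Cx⟦y⟧ = Cx⟦x⟧ ⊓ Cx⟦y⟧ :=
      le_antisymm (inf_le_inf_right _ (center_le_Cx x)) fun a ha => ⟨h.inf_le y1 ha.1 ha.2, ha.2⟩
    rw [rho, ← inf_relIndex_right, this, inf_relIndex_right, ← h.hx]
    exact relIndex_dvd_index_of_normal _ _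
  have e1 := Nat.dvd_antisymm e (h.pd h.prime dvd_rfl y2)
  have e2 := (rho_mul_cs x).trans (rho_mul_cs y).symm
  rw [e1, h.hx, h.hy, mul_comm] at e2
  exact Nat.eq_of_mul_eq_mul_left (by have := h.hm; omega) e2

theorem exists_out : ∃ g : G, g ∉ Cx⟦x⟧ ∧ IsPElt m g := by
  haveI := Fact.mk h.prime
  obtain ⟨g, -, g1, g2⟩ := exists_pElt_not_mem (p := m) (Z := Cx⟦x⟧) (M := ⊤)
    (by rw [relIndex_top_right]; exact h.hx.symm.dvd)
  exact ⟨g, g1, g2⟩

theorem exists_compl : ∃ N : Subgroup G, N.Normal ∧ (Nat.card N).Coprime m ∧ (∃ a, N.index = m ^ a) ∧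
    m ∣ n - 1 := by
  haveI := h.normal
  haveI := Fact.mk h.prime
  let N : Subgroup G :=
    { carrier := {z | z ∈ Cx⟦x⟧ ∧ ¬ m ∣ orderOf z}
      mul_mem' := fun {a b} ha hb => ⟨mul_mem ha.1 hb.1, not_dvd_orderOf_mul ha.2 hb.2
        (mem_Cx_iff_commute.1 (h.ab h.hx ha.1 hb.1))⟩
      one_mem' := ⟨one_mem _, not_dvd_orderOf_one⟩
      inv_mem' := fun {a} ha => ⟨inv_mem ha.1, by rw [orderOf_inv]; exact ha.2⟩ }
  have hN : N ≤ Cx⟦x⟧ := fun _ e => e.1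
  haveI : N.Normal := ⟨fun a ha g => ⟨h.normal.conj_mem _ ha.1 g, by rw [orderOf_conj]; exact ha.2⟩⟩
  have c1 : (Nat.card N).Coprime m := (h.prime.coprime_iff_not_dvd.2 fun hd => by
    obtain ⟨z, hz⟩ := exists_prime_orderOf_dvd_card' m hd
    exact z.2.2 (by rw [Subgroup.orderOf_coe, hz])).symm
  obtain ⟨a, c2⟩ : ∃ a, N.index = m ^ a := ⟨_, Nat.eq_prime_pow_of_unique_prime_dvd
    index_ne_zero_of_finite fun {r} hr hd => by_contra fun ne => by
      haveI := Fact.mk hr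
      obtain ⟨u, -, u1, u2⟩ := exists_pElt_not_mem (p := r) (Z := N) (M := ⊤)
        (by rwa [relIndex_top_right])
      have := not_dvd_of_pElt h.prime hr ne u2
      exact u1 ⟨mem_of_not_dvd_of_index (h.hx.trans (pow_one m).symm) this, this⟩⟩
  refine ⟨N, this, c1, ⟨a, c2⟩, ?_⟩
  obtain ⟨g, g1, g2⟩ := h.exists_out
  have d := dvd_sub_one_mod (W := zpowers g) (T := N) le_normalizer_of_normal fun w hw t ht e => by
    by_cases c : w ∈ Cx⟦x⟧
    · obtain ⟨i, rfl⟩ := hw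
      exact .inl (h.inf_le g1 c (zpowers_le_Cx g ⟨i, rfl⟩))
    · exact .inr (h.inf_le c ht.1 (mem_Cx_iff_commute.2 (commute_of_commutator_mem_center e
        (H35.coprime_orderOf (g2.of_mem_zpowers hw) ht.2))))
  have e : (center G).relIndex N = n := by
    have e1 := relIndex_mul_relIndex (center G ⊓ N) N Cx⟦x⟧ inf_le_right hN
    have e2 := relIndex_mul_relIndex (center G ⊓ N) (center G) Cx⟦x⟧ inf_le_left (center_le_Cx x)
    rw [inf_relIndex_right] at e1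
    rw [inf_relIndex_left, ← e1, ← rho, h.rho_eq'] at e2
    have d1 : N.relIndex Cx⟦x⟧ ∣ m ^ a := c2 ▸ relIndex_dvd_index_of_normal _ _
    have d2 : N.relIndex (center G) ∣ m ^ a := c2 ▸ relIndex_dvd_index_of_normal _ _
    have d3 : ((center G).relIndex N).Coprime m := c1.coprime_dvd_left (relIndex_dvd_card _ _)
    refine Nat.dvd_antisymm ?_ ?_
    · have : (center G).relIndex N ∣ N.relIndex (center G) * m * n := ⟨_, by rw [mul_assoc, e2]⟩
      exact (((d3.pow_right a).coprime_dvd_right d2).mul_right d3).dvd_of_dvd_mul_left this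
    · have : n ∣ (center G).relIndex N * N.relIndex Cx⟦x⟧ := e2 ▸ (dvd_mul_left n m).mul_left _
      exact ((h.cop.symm.pow_right a).coprime_dvd_right d1).dvd_of_dvd_mul_right this
  exact (dvd_relIndex_center (mem_zpowers g) (fun c => g1 (center_le_Cx x c)) g2).trans (e ▸ d)

theorem card_commutator (P : Sylow m G) : Nat.card (commutator (P : Subgroup G)) = m := by
  haveI := h.normal
  haveI := Fact.mk h.prime
  obtain ⟨g₀, a1, a2⟩ := h.exists_out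
  obtain ⟨c, g2⟩ := a2.exists_conj_mem P
  have g1 : c * g₀ * c⁻¹ ∉ Cx⟦x⟧ := fun e => a1 (by simpa [mul_assoc] using h.normal.conj_mem _ e c⁻¹)
  generalize c * g₀ * c⁻¹ = g at g1 g2
  haveI : IsMulCommutative ((Cx⟦x⟧).subgroupOf P) := ⟨⟨fun a b => Subtype.ext (Subtype.ext
    (mem_Cx_iff_commute.1 (h.ab h.hx a.2 b.2)))⟩⟩
  have i : ((Cx⟦x⟧).subgroupOf P).index = m :=
    (relIndex_eq_index_of_coprime
      (coprime_index_sylow_of_pow P (h.hx.trans (pow_one m).symm)).symm).trans h.hx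
  have e := H85.card_eq_card_commutator_mul ((Cx⟦x⟧).subgroupOf P) ⟨g, g2⟩
    (H5.sup_zpowers_eq_top_of_isCoatom (H5.isCoatom_of_index_prime (i.symm ▸ h.prime)) g1)
  have e1 : (Cx⟦x⟧).subgroupOf P ⊓ Cx⟦(⟨g, g2⟩ : (P : Subgroup G))⟧ =
      (center G ⊓ (P ⊓ Cx⟦x⟧)).subgroupOf P := by
    ext a
    rw [Cx_subtype]
    exact ⟨fun e => ⟨h.inf_le g1 e.1 e.2, a.2, e.1⟩, fun e => ⟨e.2.2, center_le_Cx g e.1⟩⟩
  have e2 := relIndex_syl ((isSylowIn_top P).inf_normal (N := Cx⟦x⟧) le_top le_normalizer_of_normal)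
  rw [← rho, h.rho_eq', Nat.factorization_mul h.prime.ne_zero (by have := h.hk; omega),
    Finsupp.add_apply, h.prime.factorization_self,
    Nat.factorization_eq_zero_of_not_dvd (h.dis h.prime dvd_rfl), add_zero, pow_one] at e2
  have e3 := card_mul_index ((center G).subgroupOf (P ⊓ Cx⟦x⟧))
  rw [← inf_subgroupOf_right, H69.card_subgroupOf inf_le_right, inf_subgroupOf_right] at e3
  rw [e1, H69.card_subgroupOf (inf_le_right.trans inf_le_left), ← inf_subgroupOf_left,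
    H69.card_subgroupOf inf_le_left, ← e3, mul_comm] at e
  exact (Nat.eq_of_mul_eq_mul_right Nat.card_pos e).symm.trans e2

end CP

end H32
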